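import Mathlib.Algebra.MvPolynomial.Expand
import Mathlib.Algebra.MvPolynomial.Derivation
import Mathlib.Algebra.CharP.Two
import Mathlib.RingTheory.Ideal.Span
import Mathlib.Tactic.LinearCombination
import Mathlib.Tactic.FinCases

/-!
`R[X₀, X₁]` as a free module over `R[X₀², X₁²]`, and two-generated quadratic extensions.
-/

open MvPolynomial

namespace Groth.Agent.H23.Char2Deriv

universe u
variable {R : Type u} [CommRing R]

local notation "P2" => MvPolynomial (Fin 2) R
local notation "P3" => MvPolynomial (Fin 3) R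

lemma coeff_expand_mul_monomial (q : P2) (m : Fin 2 →₀ ℕ) (r s : Fin 2 →₀ ℕ)
    (hr : ∀ i, r i < 2) (hs : ∀ i, s i < 2) :
    coeff (2 • m + s) (expand 2 q * monomial r 1) = if r = s then coeff m q else 0 := by
  rw [coeff_mul_monomial']
  by_cases hrs : r = s
  · subst hrs
    rw [if_pos le_add_self, if_pos rfl, add_tsub_cancel_right, coeff_expand_smul _ (by norm_num),
      mul_one]
  · rw [if_neg hrs]
    split_ifs with hle
    · obtain ⟨i, hi⟩ : ∃ i, r i ≠ s i := by
        by_contra h
        push Not at h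
        exact hrs (Finsupp.ext h)
      rw [coeff_expand_of_not_dvd q (i := i), zero_mul]
      simp only [Finsupp.tsub_apply, Finsupp.add_apply, Finsupp.smul_apply, smul_eq_mul]
      have := hle i
      simp only [Finsupp.add_apply, Finsupp.smul_apply, smul_eq_mul] at this
      have := hr i
      have := hs i
      omega
    · rfl

lemma decomp_unique (q0 q1 q2 q3 : P2)
    (h : expand 2 q0 + expand 2 q1 * X 0 + expand 2 q2 * X 1 + expand 2 q3 * (X 0 * X 1) = 0) :
    q0 = 0 ∧ q1 = 0 ∧ q2 = 0 ∧ q3 = 0 := by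
  have hm : ∀ q : P2, q = q * monomial 0 1 := fun q => by simp
  have e0 : (X 0 : P2) = monomial (Finsupp.single 0 1) 1 := rfl
  have e1 : (X 1 : P2) = monomial (Finsupp.single 1 1) 1 := rfl
  rw [hm (expand 2 q0), e0, e1, monomial_mul, mul_one] at h
  let r : Fin 4 → (Fin 2 →₀ ℕ) := ![0, Finsupp.single 0 1, Finsupp.single 1 1,
    Finsupp.single 0 1 + Finsupp.single 1 1]
  have hr : ∀ k i, r k i < 2 := by
    intro k i
    fin_cases k <;> fin_cases i <;> simp [r]
  have hne : ∀ k l : Fin 4, r k = r l → k = l := by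
    intro k l hkl
    have h0 := DFunLike.congr_fun hkl 0
    have h1 := DFunLike.congr_fun hkl 1
    revert h0 h1
    fin_cases k <;> fin_cases l <;> simp [r]
  have key : ∀ (k : Fin 4) m, coeff (2 • m + r k)
      (∑ l : Fin 4, expand 2 (![q0, q1, q2, q3] l) * monomial (r l) 1) = coeff m (![q0, q1, q2, q3] k) := by
    intro k m
    rw [coeff_sum, Finset.sum_eq_single k]
    · rw [coeff_expand_mul_monomial _ _ _ _ (hr k) (hr k), if_pos rfl]
    · intro l _ hl
      rw [coeff_expand_mul_monomial _ _ _ _ (hr l) (hr k), if_neg (fun e => hl (hne _ _ e))]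
    · simp
  have hz : (∑ l : Fin 4, expand 2 (![q0, q1, q2, q3] l) * monomial (r l) 1) = 0 := by
    rw [Fin.sum_univ_four]; exact h
  refine ⟨?_, ?_, ?_, ?_⟩ <;> ext m <;> rw [coeff_zero]
  · simpa [hz] using (key 0 m).symm
  · simpa [hz] using (key 1 m).symm
  · simpa [hz] using (key 2 m).symm
  · simpa [hz] using (key 3 m).symm

lemma expand_two_X (i : Fin 2) : expand 2 (X i : P2) = X i ^ 2 := expand_X _ _

lemma decomp_exists (p : P2) : ∃ q0 q1 q2 q3 : P2,
    p = expand 2 q0 + expand 2 q1 * X 0 + expand 2 q2 * X 1 + expand 2 q3 * (X 0 * X 1) := by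
  induction p using MvPolynomial.induction_on with
  | C a => exact ⟨C a, 0, 0, 0, by simp⟩
  | add p q hp hq =>
    obtain ⟨a0, a1, a2, a3, rfl⟩ := hp
    obtain ⟨b0, b1, b2, b3, rfl⟩ := hq
    exact ⟨a0 + b0, a1 + b1, a2 + b2, a3 + b3, by simp only [map_add]; ring⟩
  | mul_X p i hp =>
    obtain ⟨a0, a1, a2, a3, rfl⟩ := hp
    fin_cases i
    · exact ⟨X 0 * a1, a0, X 0 * a3, a2, by simp only [map_mul, expand_two_X, Fin.zero_eta]; ring⟩
    · exact ⟨X 1 * a2, X 1 * a3, a0, a1, by simp only [map_mul, expand_two_X, Fin.mk_one]; ring⟩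

lemma derivation_expand [CharP R 2] (D : Derivation R P2 P2) (q : P2) : D (expand 2 q) = 0 := by
  have h2 : (2 : P2) = 0 := CharTwo.two_eq_zero
  induction q using MvPolynomial.induction_on with
  | C a => rw [expand_C, ← algebraMap_eq, Derivation.map_algebraMap]
  | add p q hp hq => rw [map_add, map_add, hp, hq, add_zero]
  | mul_X p i hp =>
    rw [map_mul, expand_two_X, Derivation.leibniz, hp, pow_two, Derivation.leibniz]
    simp only [smul_eq_mul]
    linear_combination expand 2 p * X i * D (X i) * h2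

/-- The values of `aeval ![X₀², X₁², h]` when `h ^ 2 + expand 2 K = 0`. -/
lemma range_aeval (h K : P2) (hK : h ^ 2 + expand 2 K = 0) (p : P2) :
    p ∈ (aeval (R := R) ![X 0 ^ 2, X 1 ^ 2, h]).range ↔
      ∃ A B : P2, p = expand 2 A + expand 2 B * h := by
  constructor
  · rintro ⟨q, rfl⟩
    show ∃ A B : P2, aeval ![X 0 ^ 2, X 1 ^ 2, h] q = _
    induction q using MvPolynomial.induction_on with
    | C a => exact ⟨C a, 0, by simp⟩
    | add p q hp hq =>
      obtain ⟨a, b, hp⟩ := hp; obtain ⟨c, d, hq⟩ := hq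
      exact ⟨a + c, b + d, by simp only [map_add, hp, hq]; ring⟩
    | mul_X p i hp =>
      obtain ⟨a, b, hp⟩ := hp
      rw [map_mul, hp, aeval_X]
      fin_cases i
      · exact ⟨X 0 * a, X 0 * b, by simp only [map_mul, expand_two_X]; simp; ring⟩
      · exact ⟨X 1 * a, X 1 * b, by simp only [map_mul, expand_two_X]; simp; ring⟩
      · refine ⟨-(b * K), a, ?_⟩
        simp only [map_neg, map_mul]
        simp
        linear_combination expand 2 b * hK
  · rintro ⟨A, B, rfl⟩
    have : ∀ A : P2, expand 2 A ∈ (aeval (R := R) ![X 0 ^ 2, X 1 ^ 2, h]).range := by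
      intro A
      refine ⟨rename Fin.castSucc A, ?_⟩
      show aeval ![X 0 ^ 2, X 1 ^ 2, h] (rename Fin.castSucc A) = _
      rw [aeval_rename, show (expand 2 : P2 →ₐ[R] P2) = aeval (fun i => X i ^ 2) from rfl]
      congr 1
      refine MvPolynomial.algHom_ext fun i => ?_
      rw [aeval_X, aeval_X]
      fin_cases i <;> rfl
    exact add_mem (this A) (mul_mem (this B) ⟨X 2, by simp⟩)

/-- The kernel of `aeval ![X₀², X₁², h]` is generated by the quadratic relation. -/
lemma ker_aeval (h K : P2) (hK : h ^ 2 + expand 2 K = 0)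
    (hind : ∀ A B : P2, expand 2 A + expand 2 B * h = 0 → A = 0 ∧ B = 0) :
    RingHom.ker (aeval (R := R) ![X 0 ^ 2, X 1 ^ 2, h]) =
      Ideal.span {(X 2 ^ 2 + rename Fin.castSucc K : P3)} := by
  have hr : ∀ A : P2, aeval ![X 0 ^ 2, X 1 ^ 2, h] (rename Fin.castSucc A) = expand 2 A := by
    intro A
    rw [aeval_rename, show (expand 2 : P2 →ₐ[R] P2) = aeval (fun i => X i ^ 2) from rfl]
    congr 1
    refine MvPolynomial.algHom_ext fun i => ?_
    rw [aeval_X, aeval_X]
    fin_cases i <;> rfl
  set J := Ideal.span {(X 2 ^ 2 + rename Fin.castSucc K : P3)} with hJ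
  have hle : J ≤ RingHom.ker (aeval (R := R) ![X 0 ^ 2, X 1 ^ 2, h]) := by
    rw [hJ, Ideal.span_le, Set.singleton_subset_iff, SetLike.mem_coe, RingHom.mem_ker, map_add,
      map_pow, aeval_X, hr]
    simpa using hK
  refine le_antisymm (fun q hq => ?_) hle
  have red : ∀ q : P3, ∃ A B : P2, q - (rename Fin.castSucc A + rename Fin.castSucc B * X 2) ∈ J := by
    intro q
    induction q using MvPolynomial.induction_on with
    | C a => exact ⟨C a, 0, by simp⟩
    | add p q hp hq =>
      obtain ⟨a, b, hp⟩ := hp; obtain ⟨c, d, hq⟩ := hq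
      refine ⟨a + c, b + d, ?_⟩
      convert add_mem hp hq using 1
      simp only [map_add]; ring
    | mul_X p i hp =>
      obtain ⟨a, b, hp⟩ := hp
      fin_cases i
      · refine ⟨X 0 * a, X 0 * b, ?_⟩
        convert J.mul_mem_right (X 0) hp using 1
        simp only [map_mul, rename_X]; simp; ring
      · refine ⟨X 1 * a, X 1 * b, ?_⟩
        convert J.mul_mem_right (X 1) hp using 1
        simp only [map_mul, rename_X]; simp; ring
      · refine ⟨-(b * K), a, ?_⟩
        convert add_mem (J.mul_mem_right (X 2) hp)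
          (J.mul_mem_left (rename Fin.castSucc b) (Ideal.mem_span_singleton_self _)) using 1
        simp only [map_neg, map_mul]; simp; ring
  obtain ⟨A, B, hAB⟩ := red q
  have := hle hAB
  rw [RingHom.mem_ker, map_sub, RingHom.mem_ker.1 hq, map_add, map_mul, hr, hr, aeval_X, zero_sub,
    neg_eq_zero] at this
  obtain ⟨rfl, rfl⟩ := hind A B (by simpa using this)
  simpa using hAB

end Groth.Agent.H23.Char2Deriv
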