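import Groth.Agent.H23.StrongApprox
import Groth.Agent.Lib.Dim.Basic
import Mathlib.Algebra.MvPolynomial.Equiv
import Mathlib.Algebra.MvPolynomial.Funext
import Mathlib.RingTheory.Ideal.MinimalPrime.Localization

/-!
Strong approximation off a finite place for the complement of a closed subset of codimension two
of affine space.
-/

open NumberField IsDedekindDomain MvPolynomial
open scoped NumberField nonZeroDivisors
open Groth.Agent.H23.StrongApprox

namespace Groth.Agent.H23.CodimTwo

universe u
variable {k : Type u} [Field k]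

section Algebra

variable {O : Type*} [CommRing O] {n : ℕ}

lemma aeval_cons {K : Type*} [CommRing K] [Algebra O K] (a : K) (y : Fin n → K)
    (p : MvPolynomial (Fin (n + 1)) O) :
    aeval (Fin.cons a y : Fin (n + 1) → K) p =
      Polynomial.eval₂ (aeval y).toRingHom a (finSuccEquiv O n p) := by
  induction p using MvPolynomial.induction_on with
  | C r => simp [finSuccEquiv_apply]
  | add p q hp hq => rw [map_add, map_add, Polynomial.eval₂_add, hp, hq]
  | mul_X p i hp =>
    rw [map_mul, map_mul, Polynomial.eval₂_mul, hp]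
    refine Fin.cases ?_ (fun j => ?_) i
    · simp [finSuccEquiv_X_zero]
    · simp [finSuccEquiv_X_succ]

lemma finSuccEquiv_map {O' : Type*} [CommRing O'] (φ : O →+* O') (p : MvPolynomial (Fin (n + 1)) O) :
    finSuccEquiv O' n (MvPolynomial.map φ p) =
      Polynomial.map (MvPolynomial.map φ) (finSuccEquiv O n p) := by
  induction p using MvPolynomial.induction_on with
  | C r => simp [finSuccEquiv_apply]
  | add p q hp hq => simp only [map_add, Polynomial.map_add, hp, hq]
  | mul_X p i hp =>
    simp only [map_mul, Polynomial.map_mul, hp, map_X]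
    congr 1
    refine Fin.cases ?_ (fun j => ?_) i
    · simp [finSuccEquiv_X_zero]
    · simp [finSuccEquiv_X_succ]

lemma withBot_cancel_one {a : WithBot ℕ∞} {m : ℕ} (h : a + 1 + 2 ≤ ((m + 1 : ℕ) : WithBot ℕ∞)) :
    a + 2 ≤ (m : WithBot ℕ∞) := by
  cases a with
  | bot => simp
  | coe a =>
    have h' : a + 1 + 2 ≤ ((m + 1 : ℕ) : ℕ∞) := WithBot.coe_le_coe.1 h
    refine (WithBot.coe_le_coe.2 ?_ : ((a + 2 : ℕ∞) : WithBot ℕ∞) ≤ ((m : ℕ∞) : WithBot ℕ∞))
    cases a with
    | top => rw [top_add, top_add, top_le_iff] at h'; exact absurd h' (ENat.natCast_ne_top _)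
    | coe a =>
      norm_cast at h' ⊢
      omega

lemma exists_elim (I : Ideal (MvPolynomial (Fin (n + 1)) k))
    (h : ringKrullDim (MvPolynomial (Fin (n + 1)) k ⧸ I) + 2 ≤ ((n + 1 : ℕ) : WithBot ℕ∞)) :
    ∃ g : MvPolynomial (Fin n) k, g ≠ 0 ∧ rename Fin.succ g ∈ I := by
  by_contra hc
  push Not at hc
  let ψ : MvPolynomial (Fin n) k →ₐ[k] MvPolynomial (Fin (n + 1)) k ⧸ I :=
    (Ideal.Quotient.mkₐ k I).comp (rename Fin.succ)
  have hψ : Function.Injective ψ.toRingHom := by
    refine (injective_iff_map_eq_zero ψ.toRingHom).2 fun g hg => ?_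
    by_contra hg0
    exact hc g hg0 (Ideal.Quotient.eq_zero_iff_mem.1 hg)
  obtain ⟨p, hp, hcomap⟩ := Ideal.exists_comap_eq_of_mem_minimalPrimes_of_injective hψ ⊥
    (by rw [IsDomain.minimalPrimes_eq_singleton_bot]; exact rfl)
  let χ : MvPolynomial (Fin n) k →ₐ[k] (MvPolynomial (Fin (n + 1)) k ⧸ I) ⧸ p :=
    (Ideal.Quotient.mkₐ k p).comp ψ
  have hχ : Function.Injective χ := by
    refine (injective_iff_map_eq_zero χ).2 fun g hg => ?_
    have h' : ψ g ∈ p := Ideal.Quotient.eq_zero_iff_mem.1 hg
    have : g ∈ Ideal.comap ψ.toRingHom p := h'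
    rwa [hcomap, Ideal.mem_bot] at this
  have h1 : (n : Cardinal.{u}) ≤ Algebra.trdeg k ((MvPolynomial (Fin (n + 1)) k ⧸ I) ⧸ p) := by
    refine le_trans (le_of_eq ?_) (trdeg_le_of_injective χ hχ)
    rw [MvPolynomial.trdeg_of_isDomain]
    simp
  rw [Groth.Agent.Lib.Dim.Basic.trdeg_eq_trdegNat, Nat.cast_le] at h1
  have h2 : ((n : ℕ) : WithBot ℕ∞) ≤ ringKrullDim (MvPolynomial (Fin (n + 1)) k ⧸ I) := by
    refine le_trans ?_ (ringKrullDim_quotient_le p)
    rw [Groth.Agent.Lib.Dim.Basic.ringKrullDim_eq_trdegNat k (A := (MvPolynomial (Fin (n + 1)) k ⧸ I) ⧸ p)]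
    exact_mod_cast h1
  have h3 : ((n + 2 : ℕ) : WithBot ℕ∞) ≤ ((n + 1 : ℕ) : WithBot ℕ∞) :=
    le_trans (by push_cast; exact add_le_add h2 le_rfl) h
  rw [Nat.cast_le] at h3
  omega

lemma coeff_val_lt_one {K : Type*} [Field K] {Γ : Type*} [LinearOrderedCommGroupWithZero Γ]
    (v : Valuation K Γ) : ∀ (D : ℕ) (p : Polynomial K) (a : Fin (D + 1) → K),
      p.natDegree ≤ D → (∀ i, v (a i) ≤ 1) → (∀ i j, i ≠ j → v (a i - a j) = 1) →
      (∀ i, v (p.eval (a i)) < 1) → ∀ l, v (p.coeff l) < 1 := by
  intro D
  induction D with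
  | zero =>
    intro p a hp _ _ hv l
    rw [Polynomial.natDegree_le_iff_coeff_eq_zero] at hp
    have h := hv 0
    rw [Polynomial.eq_C_of_natDegree_le_zero (Polynomial.natDegree_le_iff_coeff_eq_zero.2 hp)] at h ⊢
    rw [Polynomial.eval_C] at h
    rw [Polynomial.coeff_C]
    split_ifs
    · exact h
    · simp
  | succ D ih =>
    intro p a hp ha hne hv l
    set q := p /ₘ (Polynomial.X - Polynomial.C (a 0)) with hq
    have hdec : Polynomial.C (p.eval (a 0)) + (Polynomial.X - Polynomial.C (a 0)) * q = p := by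
      rw [hq, ← Polynomial.modByMonic_X_sub_C_eq_C_eval]
      exact Polynomial.modByMonic_add_div _ _
    have hqd : q.natDegree ≤ D := by
      rw [hq, Polynomial.natDegree_divByMonic _ (Polynomial.monic_X_sub_C _),
        Polynomial.natDegree_X_sub_C]
      omega
    have hqv : ∀ l, v (q.coeff l) < 1 := by
      refine ih q (fun i => a i.succ) hqd (fun i => ha _)
        (fun i j hij => hne _ _ (fun h => hij (Fin.succ_injective _ h))) (fun i => ?_)
      have e := congrArg (Polynomial.eval (a i.succ)) hdec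
      simp only [Polynomial.eval_add, Polynomial.eval_C, Polynomial.eval_mul, Polynomial.eval_sub,
        Polynomial.eval_X] at e
      have h1 : v ((a i.succ - a 0) * q.eval (a i.succ)) < 1 := by
        rw [eq_sub_of_add_eq' e]
        exact lt_of_le_of_lt (v.map_sub _ _) (max_lt (hv _) (hv _))
      rwa [map_mul, hne _ _ (Fin.succ_ne_zero i), one_mul] at h1
    rw [← hdec, Polynomial.coeff_add, sub_mul, Polynomial.coeff_sub, Polynomial.coeff_C_mul]
    refine lt_of_le_of_lt (v.map_add _ _) (max_lt ?_ (lt_of_le_of_lt (v.map_sub _ _) (max_lt ?_ ?_)))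
    · rw [Polynomial.coeff_C]
      split_ifs
      · exact hv 0
      · simp
    · cases l with
      | zero => simp
      | succ l => rw [Polynomial.coeff_X_mul]; exact hqv l
    · rw [map_mul]
      exact lt_of_le_of_lt (mul_le_of_le_one_left' (ha 0)) (hqv l)

end Algebra

section Arith

variable [NumberField k]
local notation "Pl" => HeightOneSpectrum (𝓞 k)

lemma valuation_aeval_le {σ : Type*} (v : Pl) (P : σ → k) (hP : ∀ i, v.valuation k (P i) ≤ 1)
    (p : MvPolynomial σ (𝓞 k)) : v.valuation k (aeval P p) ≤ 1 := by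
  induction p using MvPolynomial.induction_on with
  | C r => rw [aeval_C]; exact v.valuation_le_one r
  | add p q hp hq => rw [map_add]; exact ((v.valuation k).map_add _ _).trans (max_le hp hq)
  | mul_X p i hp =>
    rw [map_mul, map_mul, aeval_X]
    exact (mul_le_mul' hp (hP i)).trans_eq (one_mul 1)

lemma valued_aeval_le {σ : Type*} (v : Pl) (P : σ → v.adicCompletion k)
    (hP : ∀ i, Valued.v (P i) ≤ 1)
    (p : MvPolynomial σ (𝓞 k)) : Valued.v (aeval P p) ≤ 1 := by
  induction p using MvPolynomial.induction_on with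
  | C r =>
    rw [aeval_C, IsScalarTower.algebraMap_apply (𝓞 k) k (v.adicCompletion k), valued_algebraMap]
    exact v.valuation_le_one r
  | add p q hp hq =>
    rw [map_add]
    exact ((Valued.v : Valuation (v.adicCompletion k) _).map_add _ _).trans (max_le hp hq)
  | mul_X p i hp =>
    rw [map_mul, map_mul, aeval_X]
    exact (mul_le_mul' hp (hP i)).trans_eq (one_mul 1)

lemma algebraMap_aeval (v : Pl) {σ : Type*} (P : σ → k) (p : MvPolynomial σ (𝓞 k)) :
    algebraMap k (v.adicCompletion k) (aeval P p) =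
      aeval (fun i => algebraMap k (v.adicCompletion k) (P i)) p :=
  (aeval_algebraMap_apply (B := v.adicCompletion k) P p).symm

lemma isOpen_integral (v : Pl) : IsOpen {x : v.adicCompletion k | Valued.v x ≤ 1} :=
  Valued.isOpen_integer (v.adicCompletion k)

lemma isOpen_unit (v : Pl) : IsOpen {x : v.adicCompletion k | Valued.v x = 1} := by
  refine isOpen_iff_mem_nhds.2 fun x hx => ?_
  have hx0 : Valued.v x ≠ 0 := by rw [Set.mem_ofPred_eq] at hx; rw [hx]; exact one_ne_zero
  refine Filter.mem_of_superset (Valued.locally_const hx0) fun y hy => ?_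
  rw [Set.mem_ofPred_eq] at hx hy ⊢
  rw [hy, hx]

/-- The points of `v` which are integral and at which some `f j` is a unit. -/
def goodSet (v : Pl) {n : ℕ} {ι : Type*} (f : ι → MvPolynomial (Fin n) (𝓞 k)) :
    Set (Fin n → v.adicCompletion k) :=
  {P | (∀ i, Valued.v (P i) ≤ 1) ∧ ∃ j, Valued.v (aeval P (f j)) = 1}

lemma isOpen_goodSet (v : Pl) {n : ℕ} {ι : Type*} (f : ι → MvPolynomial (Fin n) (𝓞 k)) :
    IsOpen (goodSet v f) := by
  refine IsOpen.inter ?_ ?_
  · show IsOpen {P : Fin n → v.adicCompletion k | ∀ i, Valued.v (P i) ≤ 1}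
    rw [Set.ofPred_forall]
    exact isOpen_iInter_of_finite fun i =>
      ((isOpen_integral v).preimage (continuous_apply (A := fun _ : Fin n => v.adicCompletion k) i) :)
  · show IsOpen {P : Fin n → v.adicCompletion k | ∃ j, Valued.v (aeval P (f j)) = 1}
    rw [Set.ofPred_exists]
    refine isOpen_iUnion fun j => (isOpen_unit v).preimage ?_
    simp only [aeval_def, eval₂_eq']
    exact continuous_finsetSum _ fun d _ =>
      continuous_const.mul (continuous_finsetProd _ fun i _ => (continuous_apply i).pow _)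

lemma continuous_eval' {K : Type*} [CommRing K] [TopologicalSpace K] [IsTopologicalRing K] {n : ℕ}
    (p : MvPolynomial (Fin n) K) : Continuous fun y : Fin n → K => MvPolynomial.eval y p := by
  simp only [eval_eq']
  exact continuous_finsetSum _ fun d _ =>
    continuous_const.mul (continuous_finsetProd _ fun i _ => (continuous_apply i).pow _)

lemma exists_box {K : Type*} [TopologicalSpace K] {n : ℕ} {U : Set (Fin (n + 1) → K)}
    (hU : IsOpen U) (hne : U.Nonempty) :
    ∃ (A : Set K) (B : Set (Fin n → K)), IsOpen A ∧ A.Nonempty ∧ IsOpen B ∧ B.Nonempty ∧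
      ∀ a ∈ A, ∀ y ∈ B, Fin.cons a y ∈ U := by
  obtain ⟨P, hP⟩ := hne
  have hc : Continuous fun p : K × (Fin n → K) => (Fin.cons p.1 p.2 : Fin (n + 1) → K) := by
    refine continuous_pi fun i => ?_
    refine Fin.cases ?_ (fun j => ?_) i
    · simpa using continuous_fst
    · simpa using (continuous_apply j).comp' continuous_snd
  obtain ⟨A, B, hA, hB, ha, hb, hAB⟩ := isOpen_prod_iff.1 (hU.preimage hc) (P 0) (Fin.tail P)
    (by simpa using hP)
  exact ⟨A, B, hA, ⟨_, ha⟩, hB, ⟨_, hb⟩, fun a h1 y h2 => hAB (Set.mk_mem_prod h1 h2)⟩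

lemma exists_distinct_residues (v : Pl) (D : ℕ) (hD : D < Ideal.absNorm v.asIdeal) :
    ∃ a : Fin (D + 1) → 𝓞 k, ∀ i j, i ≠ j → v.valuation k (algebraMap (𝓞 k) k (a i - a j)) = 1 := by
  rw [Ideal.absNorm_apply, Submodule.cardQuot_apply] at hD
  have : Finite (𝓞 k ⧸ v.asIdeal) := (Ideal.absNorm_ne_zero_iff _).1
    (by simpa [Ideal.absNorm_eq_zero_iff] using v.ne_bot)
  let e := (Finite.equivFin (𝓞 k ⧸ v.asIdeal)).symm
  choose s hs using Ideal.Quotient.mk_surjective (I := v.asIdeal)
  refine ⟨fun i => s (e (Fin.castLE hD i)), fun i j hij => ?_⟩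
  refine le_antisymm (v.valuation_le_one _) (not_lt.1 fun h => hij ?_)
  have := Ideal.Quotient.eq.2 ((v.valuation_lt_one_iff_mem _).1 h)
  rw [hs, hs] at this
  exact Fin.castLE_injective hD (e.injective this)

lemma exists_int_mul {σ : Type*} {ι : Type*} [Finite ι] (h : ι → MvPolynomial σ k) :
    ∃ d : 𝓞 k, d ≠ 0 ∧ ∀ i, ∃ H : MvPolynomial σ (𝓞 k),
      MvPolynomial.map (algebraMap (𝓞 k) k) H = C (algebraMap (𝓞 k) k d) * h i := by
  classical
  cases nonempty_fintype ι
  obtain ⟨⟨d, hd⟩, hint⟩ := IsLocalization.exist_integer_multiples (𝓞 k)⁰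
    (Finset.univ.sigma fun i => (h i).support) (fun x => coeff x.2 (h x.1))
  refine ⟨d, nonZeroDivisors.ne_zero hd, fun i => ?_⟩
  have : C (algebraMap (𝓞 k) k d) * h i ∈ (MvPolynomial.map (σ := σ) (algebraMap (𝓞 k) k)).range := by
    conv => arg 2; rw [MvPolynomial.as_sum (h i), Finset.mul_sum]
    refine sum_mem fun e he => ?_
    obtain ⟨z, hz⟩ := hint ⟨i, e⟩ (by simp [he])
    refine ⟨monomial e z, ?_⟩
    rw [map_monomial, C_mul_monomial, hz, Algebra.smul_def]
  exact this

set_option maxHeartbeats 1000000 in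
/-- **Strong approximation off `v₀` for the complement of a codimension two subset of affine space.** -/
theorem exists_point (v₀ : Pl) : ∀ (n : ℕ) (ι : Type) [Finite ι] (f : ι → MvPolynomial (Fin n) (𝓞 k)),
    ringKrullDim (MvPolynomial (Fin n) k ⧸ Ideal.span (Set.range fun j =>
      MvPolynomial.map (algebraMap (𝓞 k) k) (f j))) + 2 ≤ (n : WithBot ℕ∞) →
    ∀ (S : Finset Pl), v₀ ∉ S → ∀ (U : ∀ v : Pl, Set (Fin n → v.adicCompletion k)),
      (∀ v ∈ S, IsOpen (U v) ∧ (U v).Nonempty) →
    ∀ (Ui : ∀ w : InfinitePlace k, Set (Fin n → w.Completion)),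
      (∀ w, IsOpen (Ui w) ∧ (Ui w).Nonempty) →
    (∀ v : Pl, v ∉ S → v ≠ v₀ → (goodSet v f).Nonempty) →
    ∃ P : Fin n → k,
      (∀ v : Pl, v ∉ S → v ≠ v₀ → (∀ i, v.valuation k (P i) ≤ 1) ∧
        ∃ j, v.valuation k (aeval P (f j)) = 1) ∧
      (∀ v ∈ S, (fun i => algebraMap k (v.adicCompletion k) (P i)) ∈ U v) ∧
      ∀ w, (fun i => algebraMap k w.Completion (P i)) ∈ Ui w := by
  intro n
  induction n with
  | zero =>
    intro ι _ f _ S _ U hU Ui hUi hne
    refine ⟨Fin.elim0, fun v h1 h2 => ⟨fun i => i.elim0, ?_⟩, fun v hv => ?_, fun w => ?_⟩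
    · obtain ⟨R, -, j, hj⟩ := hne v h1 h2
      refine ⟨j, ?_⟩
      rw [← valued_algebraMap, algebraMap_aeval]
      convert hj
    · obtain ⟨x, hx⟩ := (hU v hv).2
      convert hx
    · obtain ⟨x, hx⟩ := (hUi w).2
      convert hx
  | succ n ih =>
    intro ι _ f hdim S hS U hU Ui hUi hne
    classical
    cases nonempty_fintype ι
    set I := Ideal.span (Set.range fun j => MvPolynomial.map (algebraMap (𝓞 k) k) (f j)) with hI
    -- elimination
    obtain ⟨g₁, hg₁, hg₁I⟩ := exists_elim I hdim
    obtain ⟨h₁, hh₁⟩ := (Ideal.mem_span_range_iff_exists_fun).1 (hI ▸ hg₁I)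
    obtain ⟨d, hd, hdint⟩ := exists_int_mul (k := k) (fun o : Option ι => o.elim (rename Fin.succ g₁) h₁)
    obtain ⟨d', hd', hdint'⟩ := exists_int_mul (k := k) (fun _ : Unit => g₁)
    choose H hH using fun j => hdint (some j)
    obtain ⟨g₀, hg₀⟩ := hdint' ()
    have hgeq : C d * rename Fin.succ g₀ = C d' * ∑ j, H j * f j := by
      apply MvPolynomial.map_injective (algebraMap (𝓞 k) k) (IsFractionRing.injective (𝓞 k) k)
      simp only [map_mul, map_sum, map_C, map_rename, hH, hg₀, rename_C, Option.elim_some]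
      rw [← hh₁, Finset.mul_sum, Finset.mul_sum, Finset.mul_sum]
      exact Finset.sum_congr rfl fun j _ => by ring
    let g : MvPolynomial (Fin n) (𝓞 k) := C d * g₀
    have hg : g ≠ 0 := by
      refine mul_ne_zero (by simpa using hd) (fun h => hg₁ ?_)
      rw [h, map_zero, eq_comm, mul_eq_zero] at hg₀
      exact hg₀.resolve_left (by simpa using hd')
    -- coefficient system
    let D : ℕ := Finset.univ.sup fun j => (finSuccEquiv (𝓞 k) n (f j)).natDegree
    let c : ι × Fin (D + 1) → MvPolynomial (Fin n) (𝓞 k) :=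
      fun x => (finSuccEquiv (𝓞 k) n (f x.1)).coeff x.2
    have hD : ∀ j, (finSuccEquiv (𝓞 k) n (f j)).natDegree ≤ D :=
      fun j => Finset.le_sup (f := fun j => (finSuccEquiv (𝓞 k) n (f j)).natDegree) (Finset.mem_univ j)
    set J := Ideal.span (Set.range fun x => MvPolynomial.map (algebraMap (𝓞 k) k) (c x)) with hJ
    have hdim' : ringKrullDim (MvPolynomial (Fin n) k ⧸ J) + 2 ≤ (n : WithBot ℕ∞) := by
      refine withBot_cancel_one (le_trans ?_ hdim)
      rw [← Polynomial.ringKrullDim_of_isNoetherianRing]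
      gcongr
      let θ : MvPolynomial (Fin (n + 1)) k →+* Polynomial (MvPolynomial (Fin n) k ⧸ J) :=
        (Polynomial.mapRingHom (Ideal.Quotient.mk J)).comp (finSuccEquiv k n).toRingEquiv.toRingHom
      have hθ : ∀ a ∈ I, θ a = 0 := by
        suffices I ≤ RingHom.ker θ from fun a ha => this ha
        rw [hI, Ideal.span_le]
        rintro _ ⟨j, rfl⟩
        rw [SetLike.mem_coe, RingHom.mem_ker]
        show Polynomial.map _ (finSuccEquiv k n (MvPolynomial.map (algebraMap (𝓞 k) k) (f j))) = 0
        rw [finSuccEquiv_map, Polynomial.map_map]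
        ext l
        rw [Polynomial.coeff_map, Polynomial.coeff_zero, RingHom.comp_apply,
          Ideal.Quotient.eq_zero_iff_mem]
        by_cases hl : l < D + 1
        · exact Ideal.subset_span ⟨(j, ⟨l, hl⟩), rfl⟩
        · rw [Polynomial.coeff_eq_zero_of_natDegree_lt (lt_of_le_of_lt (hD j) (by omega)), map_zero]
          exact zero_mem _
      refine ringKrullDim_le_of_surjective (Ideal.Quotient.lift I θ hθ) ?_
      apply Ideal.Quotient.lift_surjective_of_surjective
      exact (Polynomial.map_surjective _ Ideal.Quotient.mk_surjective).comp (finSuccEquiv k n).surjective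
    -- enlarge `S` by the small places
    have hsmall : {v : Pl | Ideal.absNorm v.asIdeal ≤ D}.Finite :=
      (Ideal.finite_setOfPred_absNorm_le (S := 𝓞 k) D).preimage (fun v _ w _ h => HeightOneSpectrum.ext h)
    let S₁ : Finset Pl := S ∪ hsmall.toFinset.erase v₀
    have hS₁ : v₀ ∉ S₁ := by simp [S₁, hS]
    let U₁ : ∀ v : Pl, Set (Fin (n + 1) → v.adicCompletion k) :=
      fun v => if v ∈ S then U v else goodSet v f
    have hU₁ : ∀ v ∈ S₁, IsOpen (U₁ v) ∧ (U₁ v).Nonempty := by
      intro v hv
      by_cases h : v ∈ S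
      · simp only [U₁, if_pos h]; exact hU v h
      · simp only [U₁, if_neg h]
        refine ⟨isOpen_goodSet v f, hne v h ?_⟩
        rintro rfl
        exact hS₁ hv
    have hbox : ∀ v : Pl, ∃ (A : Set (v.adicCompletion k)) (B : Set (Fin n → v.adicCompletion k)),
        IsOpen A ∧ A.Nonempty ∧ IsOpen B ∧ B.Nonempty ∧ (v ∈ S₁ → ∀ a ∈ A, ∀ y ∈ B, Fin.cons a y ∈ U₁ v) := by
      intro v
      by_cases h : v ∈ S₁
      · obtain ⟨A, B, h1, h2, h3, h4, h5⟩ := exists_box (hU₁ v h).1 (hU₁ v h).2
        exact ⟨A, B, h1, h2, h3, h4, fun _ => h5⟩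
      · exact ⟨Set.univ, Set.univ, isOpen_univ, Set.univ_nonempty, isOpen_univ, Set.univ_nonempty,
          fun h' => absurd h' h⟩
    choose A B hA hAne hB hBne hAB using hbox
    have hboxi : ∀ w : InfinitePlace k, ∃ (A : Set w.Completion) (B : Set (Fin n → w.Completion)),
        IsOpen A ∧ A.Nonempty ∧ IsOpen B ∧ B.Nonempty ∧
          (∀ a ∈ A, ∀ y ∈ B, Fin.cons a y ∈ Ui w) := fun w => exists_box (hUi w).1 (hUi w).2
    choose Ai Bi hAi hAine hBi hBine hABi using hboxi
    -- avoid `g = 0`
    let gw : ∀ w : InfinitePlace k, MvPolynomial (Fin n) w.Completion := fun w =>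
      MvPolynomial.map ((algebraMap k w.Completion).comp (algebraMap (𝓞 k) k)) g
    have hgw : ∀ w, gw w ≠ 0 := by
      intro w h
      have hinj : Function.Injective ⇑((algebraMap k w.Completion).comp (algebraMap (𝓞 k) k)) := by
        rw [RingHom.coe_comp]
        exact (algebraMap k w.Completion).injective.comp (IsFractionRing.injective (𝓞 k) k)
      refine hg (MvPolynomial.map_injective _ hinj ?_)
      rw [map_zero]
      exact h
    have hBine' : ∀ w, (Bi w ∩ {y | MvPolynomial.eval y (gw w) ≠ 0}).Nonempty := by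
      intro w
      obtain ⟨y, hy⟩ := hBine w
      obtain ⟨ε, hε, hball⟩ := Metric.isOpen_iff.1 (hBi w) y hy
      by_contra h
      rw [Set.not_nonempty_iff_eq_empty] at h
      refine hgw w (MvPolynomial.funext_set (fun i => Metric.ball (y i) ε) (fun i => ?_) fun z hz => ?_)
      · letI : NontriviallyNormedField w.Completion :=
          { (inferInstance : NormedField w.Completion) with
            non_trivial := ⟨algebraMap k w.Completion 2, by
              rw [norm_algebraMap_completion, ← w.norm_embedding_eq, map_ofNat]; norm_num⟩ }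
        exact infinite_of_mem_nhds (y i) (Metric.ball_mem_nhds _ hε)
      · rw [map_zero]
        by_contra h'
        have hzB : z ∈ Bi w := hball (by
          rw [Metric.mem_ball, dist_pi_lt_iff hε]
          exact fun i => hz i (Set.mem_univ i))
        exact Set.eq_empty_iff_forall_notMem.1 h z ⟨hzB, h'⟩
    -- induction
    obtain ⟨P', hP'int, hP'S, hP'i⟩ := ih (ι × Fin (D + 1)) c hdim' S₁ hS₁ B
      (fun v _ => ⟨hB v, hBne v⟩) (fun w => Bi w ∩ {y | MvPolynomial.eval y (gw w) ≠ 0})
      (fun w => ⟨(hBi w).inter (isOpen_ne_fun (continuous_eval' _) continuous_const), hBine' w⟩)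
      (fun v hv hv0 => by
        obtain ⟨R, hR, j, hj⟩ := hne v (fun h => hv (Finset.mem_union_left _ h)) hv0
        have hR' : ∀ i, Valued.v (Fin.tail R i) ≤ 1 := fun i => hR _
        refine ⟨Fin.tail R, hR', ?_⟩
        by_contra hc
        push Not at hc
        have hlt : ∀ l : Fin (D + 1), Valued.v (aeval (Fin.tail R) (c (j, l))) < 1 := fun l =>
          lt_of_le_of_ne (valued_aeval_le v _ hR' _) (hc (j, l))
        rw [← Fin.cons_self_tail R, aeval_cons, Polynomial.eval₂_eq_sum_range' _
          (lt_of_le_of_lt (hD j) (Nat.lt_succ_self D))] at hj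
        refine absurd hj (ne_of_lt ?_)
        refine Valuation.map_sum_lt _ one_ne_zero fun l hl => ?_
        rw [map_mul, map_pow]
        exact lt_of_le_of_lt (mul_le_of_le_one_right' (pow_le_one' (hR 0) _))
          (hlt ⟨l, Finset.mem_range.1 hl⟩))
    have hgP : aeval P' g ≠ 0 := by
      obtain ⟨w⟩ : Nonempty (InfinitePlace k) := inferInstance
      intro h
      apply (hP'i w).2
      have e : MvPolynomial.eval (fun i => algebraMap k w.Completion (P' i)) (gw w) =
          algebraMap k w.Completion (aeval P' g) := by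
        simp only [gw, eval_map, aeval_def]
        rw [← RingHom.coe_coe, eval₂_comp_left]
        rfl
      rw [e, h, map_zero]
    -- the bad places
    obtain ⟨⟨x, z⟩, hxz⟩ := IsLocalization.surj (𝓞 k)⁰ (aeval P' g)
    have hx : x ≠ 0 := by
      intro h
      rw [h, map_zero, mul_eq_zero] at hxz
      exact hxz.elim hgP (by simpa using nonZeroDivisors.ne_zero z.2)
    have hBad : {v : Pl | v ∉ S₁ ∧ v ≠ v₀ ∧ v.valuation k (aeval P' g) ≠ 1}.Finite := by
      refine (Ideal.finite_factors (I := Ideal.span {x}) (by simpa using hx)).subset fun v hv => ?_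
      obtain ⟨hv1, hv2, hv3⟩ := hv
      refine (v.intValuation_lt_one_iff_dvd x).1 ?_
      simp only at hxz
      rw [← v.valuation_of_algebraMap (K := k)]
      refine lt_of_eq_of_lt (congrArg (v.valuation k) hxz.symm) ?_
      rw [map_mul]
      refine lt_of_le_of_lt (mul_le_of_le_one_right' (v.valuation_le_one _)) ?_
      exact lt_of_le_of_ne (valuation_aeval_le v P' (hP'int v hv1 hv2).1 g) hv3
    let S₂ : Finset Pl := S₁ ∪ hBad.toFinset
    have hS₂ : v₀ ∉ S₂ := by simp [S₂, hS₁]
    let P'v : ∀ v : Pl, Fin n → v.adicCompletion k := fun v i => algebraMap k (v.adicCompletion k) (P' i)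
    let A₂ : ∀ v : Pl, Set (v.adicCompletion k) :=
      fun v => if v ∈ S₁ then A v else {a | Fin.cons a (P'v v) ∈ goodSet v f}
    have hA₂ : ∀ v ∈ S₂, IsOpen (A₂ v) ∧ (A₂ v).Nonempty := by
      intro v hv
      by_cases h : v ∈ S₁
      · simp only [A₂, if_pos h]; exact ⟨hA v, hAne v⟩
      · simp only [A₂, if_neg h]
        obtain ⟨-, hv0, -⟩ := hBad.mem_toFinset.1 ((Finset.mem_union.1 hv).resolve_left h)
        refine ⟨(isOpen_goodSet v f).preimage (continuous_pi fun i => ?_), ?_⟩
        · refine Fin.cases ?_ (fun j => ?_) i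
          · simpa using continuous_id'
          · simpa using continuous_const
        obtain ⟨hint, ⟨j, l⟩, hjl⟩ := hP'int v h hv0
        have hbig : D < Ideal.absNorm v.asIdeal := by
          by_contra hc
          exact h (Finset.mem_union_right _
            (Finset.mem_erase.2 ⟨hv0, hsmall.mem_toFinset.2 (not_lt.1 hc)⟩))
        obtain ⟨a, ha⟩ := exists_distinct_residues v D hbig
        let p : Polynomial k := Polynomial.map (aeval P').toRingHom (finSuccEquiv (𝓞 k) n (f j))
        obtain ⟨i, hi⟩ : ∃ i, ¬ v.valuation k (p.eval (algebraMap (𝓞 k) k (a i))) < 1 := by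
          by_contra hc
          push Not at hc
          have := coeff_val_lt_one (v.valuation k) D p (fun i => algebraMap (𝓞 k) k (a i))
            (Polynomial.natDegree_map_le.trans (hD j)) (fun i => v.valuation_le_one _)
            (fun i i' hii => by rw [← map_sub]; exact ha i i' hii) hc (l : ℕ)
          rw [Polynomial.coeff_map] at this
          exact this.ne hjl
        refine ⟨algebraMap k (v.adicCompletion k) (algebraMap (𝓞 k) k (a i)), ?_, j, ?_⟩
        · refine Fin.cases ?_ (fun i' => ?_)
          · simp only [Fin.cons_zero]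
            rw [valued_algebraMap]
            exact v.valuation_le_one _
          · simp only [Fin.cons_succ, P'v]
            rw [valued_algebraMap]
            exact hint i'
        · have hle := valuation_aeval_le v (Fin.cons (algebraMap (𝓞 k) k (a i)) P')
            (fun i' => Fin.cases (by simpa using v.valuation_le_one (a i)) (fun i'' => by simpa using hint i'') i') (f j)
          have e : aeval (Fin.cons (algebraMap (𝓞 k) k (a i)) P' : Fin (n + 1) → k) (f j) =
              p.eval (algebraMap (𝓞 k) k (a i)) := by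
            rw [aeval_cons, Polynomial.eval_map]
          have e2 : (Fin.cons (algebraMap k (v.adicCompletion k) (algebraMap (𝓞 k) k (a i))) (P'v v) :
              Fin (n + 1) → v.adicCompletion k) = fun i' => algebraMap k (v.adicCompletion k)
                ((Fin.cons (algebraMap (𝓞 k) k (a i)) P' : Fin (n + 1) → k) i') := by
            funext i'
            refine Fin.cases ?_ (fun i'' => ?_) i' <;> simp [P'v]
          rw [e2, ← algebraMap_aeval, valued_algebraMap]
          exact le_antisymm hle (not_lt.1 (e ▸ hi))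
    obtain ⟨a, haint, haS, hai⟩ := exists_strongApprox v₀ S₂ hS₂ A₂ hA₂ Ai (fun w => ⟨hAi w, hAine w⟩)
    let P : Fin (n + 1) → k := Fin.cons a P'
    have hPv : ∀ v : Pl, (fun i => algebraMap k (v.adicCompletion k) (P i)) =
        (Fin.cons (algebraMap k (v.adicCompletion k) a) (P'v v) : Fin (n + 1) → _) := by
      intro v
      funext i
      refine Fin.cases ?_ (fun i' => ?_) i <;> simp [P, P'v]
    have hgood : ∀ v : Pl, (fun i => algebraMap k (v.adicCompletion k) (P i)) ∈ goodSet v f →
        (∀ i, v.valuation k (P i) ≤ 1) ∧ ∃ j, v.valuation k (aeval P (f j)) = 1 := by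
      rintro v ⟨h1, j, h2⟩
      exact ⟨fun i => valued_algebraMap v (P i) ▸ h1 i,
        j, valued_algebraMap v (aeval P (f j)) ▸ (algebraMap_aeval v P (f j)).symm ▸ h2⟩
    refine ⟨P, fun v hv hv0 => ?_, fun v hv => ?_, fun w => ?_⟩
    · by_cases h1 : v ∈ S₁
      · refine hgood v ?_
        rw [hPv]
        have h := haS v (Finset.mem_union_left _ h1)
        simp only [A₂, if_pos h1] at h
        have := hAB v h1 _ h _ (hP'S v h1)
        simpa only [U₁, if_neg hv] using this
      · by_cases h2 : v ∈ S₂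
        · refine hgood v ?_
          rw [hPv]
          have := haS v h2
          simp only [A₂, if_neg h1] at this
          exact this
        · have hunit : v.valuation k (aeval P' g) = 1 := by
            by_contra hc
            exact h2 (Finset.mem_union_right _ (hBad.mem_toFinset.2 ⟨h1, hv0, hc⟩))
          have hint : ∀ i, v.valuation k (P i) ≤ 1 :=
            Fin.cases (by simpa [P] using haint v hv0 h2) (fun i => by simpa [P] using (hP'int v h1 hv0).1 i)
          refine ⟨hint, ?_⟩
          by_contra hc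
          push Not at hc
          have e := congrArg (aeval P) hgeq
          simp only [map_mul, map_sum, aeval_C, aeval_rename] at e
          have e' : aeval P' g = algebraMap (𝓞 k) k d' * ∑ j, aeval P (H j) * aeval P (f j) := by
            rw [← e]
            simp only [g, map_mul, aeval_C]
            congr 2
          rw [e', map_mul] at hunit
          refine absurd hunit (ne_of_lt ?_)
          refine lt_of_le_of_lt (mul_le_of_le_one_left' (v.valuation_le_one d')) ?_
          refine Valuation.map_sum_lt _ one_ne_zero fun j _ => ?_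
          rw [map_mul]
          exact lt_of_le_of_lt (mul_le_of_le_one_left' (valuation_aeval_le v P hint _))
            (lt_of_le_of_ne (valuation_aeval_le v P hint _) (hc j))
    · have h1 : v ∈ S₁ := Finset.mem_union_left _ hv
      rw [hPv]
      have h := haS v (Finset.mem_union_left _ h1)
      simp only [A₂, if_pos h1] at h
      have := hAB v h1 _ h _ (hP'S v h1)
      simpa only [U₁, if_pos hv] using this
    · have e : (fun i => algebraMap k w.Completion (P i)) =
          (Fin.cons (algebraMap k w.Completion a) (fun i => algebraMap k w.Completion (P' i)) :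
            Fin (n + 1) → _) := by
        funext i
        refine Fin.cases ?_ (fun i' => ?_) i <;> simp [P]
      rw [e]
      exact hABi w _ (hai w) _ (hP'i w).1

end Arith

end Groth.Agent.H23.CodimTwo
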