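import Groth.Prelude.Def_Red
import Mathlib.RingTheory.Localization.Away.Basic
import Mathlib.RingTheory.Nilpotent.Lemmas
import Mathlib.AlgebraicGeometry.Cover.Open

/-!
# Rigidity of homomorphisms out of diagonalisable groups

A homomorphism from `D(M)` to a group scheme `X` over `Spec R` that is trivial modulo a nilpotent
ideal is trivial.  The point is that points congruent to the unit modulo a square-zero ideal and
landing in an affine open `V` multiply by the rule `φ + ψ - e`.
-/

set_option autoImplicit false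
set_option backward.isDefEq.respectTransparency false
set_option linter.style.haveILetI false

universe u

open CategoryTheory MonoidalCategory CartesianMonoidalCategory MonObj AlgebraicGeometry WithConv

namespace Groth.Agent.H23.DiagRigid

noncomputable section

variable {R : Type u} [CommRing R]

/-- `Spec B` over `Spec R`. -/
abbrev sp (R : Type u) [CommRing R] (B : Type u) [CommRing B] [Algebra R B] :
    Over (Spec (CommRingCat.of R)) :=
  (Spec (CommRingCat.of B)).asOver (Spec (CommRingCat.of R))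

variable {B B' : Type u} [CommRing B] [Algebra R B] [CommRing B'] [Algebra R B']

/-- The map of spectra of an algebra homomorphism. -/
def sMap (a : B →ₐ[R] B') : sp R B' ⟶ sp R B :=
  Over.homMk (Spec.map (CommRingCat.ofHom a.toRingHom)) (by
    change Spec.map _ ≫ Spec.map (CommRingCat.ofHom (algebraMap R B)) =
      Spec.map (CommRingCat.ofHom (algebraMap R B'))
    rw [← Spec.map_comp, ← CommRingCat.ofHom_comp]
    exact congrArg (fun g => Spec.map (CommRingCat.ofHom g)) a.comp_algebraMap)

@[simp] theorem sMap_left (a : B →ₐ[R] B') :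
    (sMap a).left = Spec.map (CommRingCat.ofHom a.toRingHom) := rfl

theorem sMap_comp {B'' : Type u} [CommRing B''] [Algebra R B''] (a : B →ₐ[R] B') (b : B' →ₐ[R] B'') :
    sMap b ≫ sMap a = sMap (b.comp a) := by
  apply Over.OverMorphism.ext
  rw [Over.comp_left, sMap_left, sMap_left, sMap_left, ← Spec.map_comp]
  rfl

theorem sp_surjective (q : B →ₐ[R] B') (hq : ∀ b : B, q b = 0 → IsNilpotent b)
    (hqs : Function.Surjective q) : Function.Surjective (sMap q).left := by
  intro x
  have hx : x ∈ Set.range (PrimeSpectrum.comap q.toRingHom) := by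
    rw [range_comap_of_surjective _ q.toRingHom hqs, PrimeSpectrum.mem_zeroLocus]
    intro b hb
    obtain ⟨n, hn⟩ := hq b hb
    exact x.isPrime.mem_of_pow_mem n (hn ▸ x.asIdeal.zero_mem)
  obtain ⟨y, rfl⟩ := hx
  exact ⟨y, rfl⟩

variable {X : Over (Spec (CommRingCat.of R))}

section rep

variable {V : X.left.Opens} (hV : IsAffineOpen V)

/-- `φ` is given by the ring homomorphism `a` through the affine open `V`. -/
def Rep (φ : sp R B ⟶ X) (a : Γ(X.left, V) →+* B) : Prop :=
  φ.left = Spec.map (CommRingCat.ofHom a) ≫ hV.fromSpec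

theorem exists_rep (φ : sp R B ⟶ X) (h : ∀ x, φ.left x ∈ V) : ∃ a, Rep hV φ a := by
  have hr : Set.range φ.left ⊆ Set.range hV.fromSpec := by
    rintro _ ⟨x, rfl⟩
    rw [hV.range_fromSpec]
    exact h x
  refine ⟨(Spec.preimage (IsOpenImmersion.lift hV.fromSpec φ.left hr)).hom, ?_⟩
  rw [Rep, CommRingCat.ofHom_hom, Spec.map_preimage, IsOpenImmersion.lift_fac]

theorem Rep.unique {φ : sp R B ⟶ X} {a b : Γ(X.left, V) →+* B} (ha : Rep hV φ a) (hb : Rep hV φ b) :
    a = b := by
  have h := ha.symm.trans hb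
  rw [cancel_mono] at h
  exact congrArg CommRingCat.Hom.hom (Spec.map_injective h)

theorem Rep.eq {φ ψ : sp R B ⟶ X} {a : Γ(X.left, V) →+* B} (ha : Rep hV φ a) (hb : Rep hV ψ a) :
    φ = ψ :=
  Over.OverMorphism.ext (ha.trans hb.symm)

theorem Rep.comp {φ : sp R B ⟶ X} {a : Γ(X.left, V) →+* B} (ha : Rep hV φ a) (b : B →ₐ[R] B') :
    Rep hV (sMap b ≫ φ) (b.toRingHom.comp a) := by
  rw [Rep, CommRingCat.ofHom_comp, Spec.map_comp, Category.assoc, Over.comp_left, ha]
  rfl

/-- The map `R → Γ(X, V)`. -/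
def base : CommRingCat.of R ⟶ Γ(X.left, V) := Spec.preimage (hV.fromSpec ≫ X.hom)

theorem Rep.base {φ : sp R B ⟶ X} {a : Γ(X.left, V) →+* B} (ha : Rep hV φ a) :
    a.comp (base hV).hom = algebraMap R B := by
  have h : Spec.map (CommRingCat.ofHom a) ≫ hV.fromSpec ≫ X.hom =
      Spec.map (CommRingCat.ofHom (algebraMap R B)) := by
    rw [← Category.assoc, ← ha]
    exact Over.w φ
  rw [← Spec.map_preimage (hV.fromSpec ≫ X.hom), ← Spec.map_comp] at h
  exact congrArg CommRingCat.Hom.hom (Spec.map_injective h)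

theorem exists_point (a : Γ(X.left, V) →+* B) (ha : a.comp (DiagRigid.base hV).hom = algebraMap R B) :
    ∃ φ : sp R B ⟶ X, Rep hV φ a := by
  refine ⟨Over.homMk (Spec.map (CommRingCat.ofHom a) ≫ hV.fromSpec) ?_, rfl⟩
  rw [Category.assoc, ← Spec.map_preimage (hV.fromSpec ≫ X.hom), ← Spec.map_comp]
  exact congrArg (fun z => Spec.map (CommRingCat.ofHom z)) ha

end rep

section mul

variable [GrpObj X]

theorem one_left (T : Over (Spec (CommRingCat.of R))) :
    (1 : T ⟶ X).left = T.hom ≫ (η[X]).left := by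
  rw [Hom.one_def, Over.comp_left, Over.toUnit_left]

theorem range_subset_of_congr {V : X.left.Opens} (q : B →ₐ[R] B')
    (hq : ∀ b : B, q b = 0 → IsNilpotent b) (hqs : Function.Surjective q) {φ : sp R B ⟶ X}
    (hφ : sMap q ≫ φ = 1) (h1 : ∀ x, (1 : sp R B ⟶ X).left x ∈ V) : ∀ x, φ.left x ∈ V := by
  intro x
  obtain ⟨y, rfl⟩ := sp_surjective q hq hqs x
  have h : (sMap q).left ≫ φ.left = (sMap q).left ≫ (1 : sp R B ⟶ X).left := by
    rw [← Over.comp_left, ← Over.comp_left, hφ, MonObj.comp_one]
  rw [← Scheme.Hom.comp_apply, h, Scheme.Hom.comp_apply]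
  exact h1 _

variable {V : X.left.Opens} (hV : IsAffineOpen V) (q : B →ₐ[R] B')

/-- Triples congruent modulo the kernel of `q`. -/
def triples : Subalgebra R (B × B × B) :=
  (AlgHom.equalizer (q.comp (AlgHom.fst R B (B × B)))
      ((q.comp (AlgHom.fst R B B)).comp (AlgHom.snd R B (B × B)))) ⊓
    (AlgHom.equalizer (q.comp (AlgHom.fst R B (B × B)))
      ((q.comp (AlgHom.snd R B B)).comp (AlgHom.snd R B (B × B))))

theorem mem_triples {x : B × B × B} : x ∈ triples q ↔ q x.1 = q x.2.1 ∧ q x.1 = q x.2.2 := by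
  simp [triples, AlgHom.mem_equalizer]

theorem mul_rep (hsq : ∀ b b' : B, q b = 0 → q b' = 0 → b * b' = 0) (hqs : Function.Surjective q)
    (h1 : ∀ x, (1 : sp R B ⟶ X).left x ∈ V) {φ ψ : sp R B ⟶ X}
    (hφ : sMap q ≫ φ = 1) (hψ : sMap q ≫ ψ = 1) {a b e c : Γ(X.left, V) →+* B}
    (ha : Rep hV φ a) (hb : Rep hV ψ b) (he : Rep hV (1 : sp R B ⟶ X) e)
    (hc : Rep hV (φ * ψ) c) (x : Γ(X.left, V)) : c x = a x + b x - e x := by
  have hqa : q.toRingHom.comp a = q.toRingHom.comp e := by
    have h1' := ha.comp hV q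
    have h2' := he.comp hV q
    rw [hφ] at h1'
    rw [MonObj.comp_one] at h2'
    exact h1'.unique hV h2'
  have hqb : q.toRingHom.comp b = q.toRingHom.comp e := by
    have h1' := hb.comp hV q
    have h2' := he.comp hV q
    rw [hψ] at h1'
    rw [MonObj.comp_one] at h2'
    exact h1'.unique hV h2'
  let p0 : triples q →ₐ[R] B := (AlgHom.fst R B (B × B)).comp (triples q).val
  let p1 : triples q →ₐ[R] B :=
    ((AlgHom.fst R B B).comp (AlgHom.snd R B (B × B))).comp (triples q).val
  let p2 : triples q →ₐ[R] B :=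
    ((AlgHom.snd R B B).comp (AlgHom.snd R B (B × B))).comp (triples q).val
  let u : triples q →ₐ[R] B :=
    AlgHom.ofLinearMap (p1.toLinearMap + p2.toLinearMap - p0.toLinearMap)
      (by simp [p0, p1, p2])
      (fun z w => by
        have hz := (mem_triples q).1 z.2
        have hw := (mem_triples q).1 w.2
        have h12 := hsq (p1 z - p0 z) (p2 w - p0 w) (by simp [p0, p1, hz.1.symm])
          (by simp [p0, p2]; rw [← hw.2, sub_self])
        have h21 := hsq (p2 z - p0 z) (p1 w - p0 w) (by simp [p0, p2]; rw [← hz.2, sub_self])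
          (by simp [p0, p1]; rw [← hw.1, sub_self])
        simp only [LinearMap.sub_apply, LinearMap.add_apply, AlgHom.toLinearMap_apply, map_mul]
        linear_combination -(h12 + h21))
  have hmk : ∀ (s t : Γ(X.left, V) →+* B), q.toRingHom.comp s = q.toRingHom.comp e →
      q.toRingHom.comp t = q.toRingHom.comp e → s.comp (base hV).hom = algebraMap R B →
      t.comp (base hV).hom = algebraMap R B →
      ∃ (Φ : sp R (triples q) ⟶ X) (A : Γ(X.left, V) →+* triples q), Rep hV Φ A ∧
        p0.toRingHom.comp A = e ∧ p1.toRingHom.comp A = s ∧ p2.toRingHom.comp A = t := by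
    intro s t hs ht hs' ht'
    let A : Γ(X.left, V) →+* triples q := RingHom.codRestrict (e.prod (s.prod t)) (triples q)
      fun y => (mem_triples q).2 ⟨(DFunLike.congr_fun hs y).symm, (DFunLike.congr_fun ht y).symm⟩
    obtain ⟨Φ, hΦ⟩ := exists_point hV A (by
      refine RingHom.ext fun r => Subtype.ext (Prod.ext ?_ (Prod.ext ?_ ?_))
      · exact DFunLike.congr_fun (he.base hV) r
      · exact DFunLike.congr_fun hs' r
      · exact DFunLike.congr_fun ht' r)
    exact ⟨Φ, A, hΦ, rfl, rfl, rfl⟩
  obtain ⟨Φ, A, hΦ, hA0, hA1, hA2⟩ := hmk a e hqa rfl (ha.base hV) (he.base hV)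
  obtain ⟨Ψ, A', hΨ, hA0', hA1', hA2'⟩ := hmk e b rfl hqb (he.base hV) (hb.base hV)
  have key : ∀ (p : triples q →ₐ[R] B) (Θ : sp R (triples q) ⟶ X) (D : Γ(X.left, V) →+* triples q)
      (χ : sp R B ⟶ X) (d : Γ(X.left, V) →+* B),
      Rep hV Θ D → Rep hV χ d → p.toRingHom.comp D = d → sMap p ≫ Θ = χ :=
    fun p Θ D χ d hΘ hχ hD => Rep.eq hV (hD ▸ hΘ.comp hV p) hχ
  have hp0 : sMap p0 ≫ (Φ * Ψ) = 1 := by
    rw [MonObj.comp_mul, key p0 Φ A 1 e hΦ he hA0, key p0 Ψ A' 1 e hΨ he hA0', _root_.mul_one]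
  have hp1 : sMap p1 ≫ (Φ * Ψ) = φ := by
    rw [MonObj.comp_mul, key p1 Φ A φ a hΦ ha hA1, key p1 Ψ A' 1 e hΨ he hA1', _root_.mul_one]
  have hp2 : sMap p2 ≫ (Φ * Ψ) = ψ := by
    rw [MonObj.comp_mul, key p2 Φ A 1 e hΦ he hA2, key p2 Ψ A' ψ b hΨ hb hA2', _root_.one_mul]
  have hp0nil : ∀ z : triples q, p0 z = 0 → IsNilpotent z := fun z hz => by
    have hz' := (mem_triples q).1 z.2
    have h0 : (z : B × B × B).1 = 0 := hz
    rw [h0, map_zero] at hz'
    refine ⟨2, Subtype.ext ?_⟩
    rw [pow_two]
    refine Prod.ext ?_ (Prod.ext ?_ ?_)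
    · simp [h0]
    · simpa using hsq _ _ hz'.1.symm hz'.1.symm
    · simpa using hsq _ _ hz'.2.symm hz'.2.symm
  have hrange : ∀ y, (Φ * Ψ).left y ∈ V := by
    intro y
    obtain ⟨w, rfl⟩ := sp_surjective p0 hp0nil
      (fun z => ⟨⟨(z, z, z), (mem_triples q).2 ⟨rfl, rfl⟩⟩, rfl⟩) y
    rw [← Scheme.Hom.comp_apply, ← Over.comp_left, hp0]
    exact h1 w
  obtain ⟨D, hD⟩ := exists_rep hV _ hrange
  have hD0 : p0.toRingHom.comp D = e := (hp0 ▸ hD.comp hV p0).unique hV he
  have hD1 : p1.toRingHom.comp D = a := (hp1 ▸ hD.comp hV p1).unique hV ha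
  have hD2 : p2.toRingHom.comp D = b := (hp2 ▸ hD.comp hV p2).unique hV hb
  have hu : u.toRingHom.comp D = c := by
    refine Rep.unique hV (hD.comp hV u) ?_
    have hu1 : u.toRingHom.comp A = a := RingHom.ext fun y => by
      change p1 (A y) + p2 (A y) - p0 (A y) = a y
      rw [show p1 (A y) = a y from DFunLike.congr_fun hA1 y,
        show p2 (A y) = e y from DFunLike.congr_fun hA2 y,
        show p0 (A y) = e y from DFunLike.congr_fun hA0 y, add_sub_cancel_right]
    have hu2 : u.toRingHom.comp A' = b := RingHom.ext fun y => by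
      change p1 (A' y) + p2 (A' y) - p0 (A' y) = b y
      rw [show p1 (A' y) = e y from DFunLike.congr_fun hA1' y,
        show p2 (A' y) = b y from DFunLike.congr_fun hA2' y,
        show p0 (A' y) = e y from DFunLike.congr_fun hA0' y, add_sub_cancel_left]
    rw [MonObj.comp_mul, key u Φ A φ a hΦ ha hu1, key u Ψ A' ψ b hΨ hb hu2]
    exact hc
  rw [← hu]
  change p1 (D x) + p2 (D x) - p0 (D x) = _
  rw [show p1 (D x) = a x from DFunLike.congr_fun hD1 x,
    show p2 (D x) = b x from DFunLike.congr_fun hD2 x,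
    show p0 (D x) = e x from DFunLike.congr_fun hD0 x]

end mul

section diag

variable (R) (M : Type) [AddCommGroup M] (R' : Type u) [CommRing R'] [Algebra R R']

/-- The tautological point of `D(M)` over an `R`-algebra. -/
def chiR : MonoidAlgebra R (Multiplicative M) →ₐ[R] MonoidAlgebra R' (Multiplicative M) :=
  MonoidAlgebra.lift R _ _ (MonoidAlgebra.of R' (Multiplicative M))

/-- The point of `D(M)` given by an algebra homomorphism. -/
def pt (χ : MonoidAlgebra R (Multiplicative M) →ₐ[R] B) : sp R B ⟶ Red.diag R M :=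
  Spec.mapMulEquiv (toConv χ)

variable {R M}

theorem pt_left (χ : MonoidAlgebra R (Multiplicative M) →ₐ[R] B) :
    (pt R M χ).left = Spec.map (CommRingCat.ofHom χ.toRingHom) := rfl

theorem sMap_pt (χ : MonoidAlgebra R (Multiplicative M) →ₐ[R] B) (a : B →ₐ[R] B') :
    sMap a ≫ pt R M χ = pt R M (a.comp χ) := by
  apply Over.OverMorphism.ext
  rw [Over.comp_left, sMap_left, pt_left, pt_left, ← Spec.map_comp]
  rfl

theorem pt_mul (χ₁ χ₂ χ : MonoidAlgebra R (Multiplicative M) →ₐ[R] B)
    (h : ∀ m, χ (MonoidAlgebra.single m 1) =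
      χ₁ (MonoidAlgebra.single m 1) * χ₂ (MonoidAlgebra.single m 1)) :
    pt R M χ₁ * pt R M χ₂ = pt R M χ := by
  rw [pt, pt, pt, ← map_mul]
  congr 1
  apply WithConv.ofConv_injective
  refine MonoidAlgebra.algHom_ext (fun m => ?_) (by ext)
  rw [ofConv_toConv, h m]
  refine (AlgHom.convMul_apply _ _ _).trans ?_
  simp

/-- The statement that `f` is trivial over an `R`-algebra. -/
def Triv (f : Red.diag R M ⟶ X) [GrpObj X] : Prop :=
  pt R M (chiR R M R') ≫ f = 1

variable [GrpObj X] (f : Red.diag R M ⟶ X)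

theorem Triv.map {S' : Type u} [CommRing S'] [Algebra R S'] (h : Triv R' f) (a : R' →ₐ[R] S') :
    Triv S' f := by
  let b : MonoidAlgebra R' (Multiplicative M) →ₐ[R] MonoidAlgebra S' (Multiplicative M) :=
    { MonoidAlgebra.mapRingHom (Multiplicative M) a.toRingHom with
      commutes' := fun r => by
        simp [MonoidAlgebra.coe_algebraMap] }
  have hb : b.comp (chiR R M R') = chiR R M S' := by
    refine MonoidAlgebra.algHom_ext (fun m => ?_) (by ext)
    simp [b, chiR]
  rw [Triv, ← hb, ← sMap_pt, Category.assoc, show pt R M (chiR R M R') ≫ f = 1 from h,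
    MonObj.comp_one]

variable [IsMonHom f]

/-- The local step. -/
theorem triv_of_affine {R'' : Type u} [CommRing R''] [Algebra R R''] (q : R' →ₐ[R] R'')
    (hq : Function.Surjective q) (hsq : ∀ x y, q x = 0 → q y = 0 → x * y = 0)
    {V : X.left.Opens} (hV : IsAffineOpen V)
    (hR' : ∀ x, (η[X]).left (Spec.map (CommRingCat.ofHom (algebraMap R R')) x) ∈ V)
    (h : Triv R'' f) : Triv R' f := by
  classical
  let M2 := Multiplicative M × Multiplicative M
  let P := MonoidAlgebra R' (Multiplicative M)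
  let P2 := MonoidAlgebra R' M2
  let Q1 : P →ₐ[R] MonoidAlgebra R'' (Multiplicative M) :=
    { MonoidAlgebra.mapRingHom (Multiplicative M) q.toRingHom with
      commutes' := fun r => by simp [P, MonoidAlgebra.coe_algebraMap] }
  let Q2 : P2 →ₐ[R] MonoidAlgebra R'' M2 :=
    { MonoidAlgebra.mapRingHom M2 q.toRingHom with
      commutes' := fun r => by simp [P2, MonoidAlgebra.coe_algebraMap] }
  have hQ2s : Function.Surjective Q2 := by
    intro y
    induction y using MonoidAlgebra.induction_linear with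
    | zero => exact ⟨0, map_zero _⟩
    | add y z hy hz =>
      obtain ⟨y, rfl⟩ := hy
      obtain ⟨z, rfl⟩ := hz
      exact ⟨y + z, map_add _ _ _⟩
    | single m r =>
      obtain ⟨r, rfl⟩ := hq r
      exact ⟨MonoidAlgebra.single m r, MonoidAlgebra.mapRingHom_single _ _ _⟩
  have hQ2sq : ∀ b b' : P2, Q2 b = 0 → Q2 b' = 0 → b * b' = 0 := by
    intro b b' hb hb'
    ext m
    rw [MonoidAlgebra.mul_apply]
    refine Finset.sum_eq_zero fun i _ => Finset.sum_eq_zero fun j _ => ?_
    have hi := congrArg (fun z : MonoidAlgebra R'' M2 => z.coeff i) hb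
    have hj := congrArg (fun z : MonoidAlgebra R'' M2 => z.coeff j) hb'
    simp [Q2] at hi hj
    simp [hsq _ _ hi hj]
  -- the three maps `P → P2`
  let j1 : P →ₐ[R] P2 := (MonoidAlgebra.mapDomainAlgHom R' R' (MonoidHom.inl _ _)).restrictScalars R
  let j2 : P →ₐ[R] P2 := (MonoidAlgebra.mapDomainAlgHom R' R' (MonoidHom.inr _ _)).restrictScalars R
  let j3 : P →ₐ[R] P2 := (MonoidAlgebra.mapDomainAlgHom R' R'
    ((MonoidHom.id (Multiplicative M)).prod (MonoidHom.id _))).restrictScalars R
  have hmul : pt R M (j1.comp (chiR R M R')) * pt R M (j2.comp (chiR R M R')) =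
      pt R M (j3.comp (chiR R M R')) :=
    pt_mul _ _ _ fun m => by simp [j1, j2, j3, chiR, P, P2, M2]
  have hkill : ∀ (j : P →ₐ[R] P2) (j' : MonoidAlgebra R'' (Multiplicative M) →ₐ[R] MonoidAlgebra R'' M2),
      Q2.comp j = j'.comp Q1 → sMap Q2 ≫ pt R M (j.comp (chiR R M R')) ≫ f = 1 := by
    intro j j' hj
    rw [← Category.assoc, sMap_pt, ← AlgHom.comp_assoc, hj, AlgHom.comp_assoc, ← sMap_pt,
      Category.assoc]
    have : Q1.comp (chiR R M R') = chiR R M R'' := by
      refine MonoidAlgebra.algHom_ext (fun m => ?_) (by ext)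
      simp [Q1, chiR, P]
    rw [this, show pt R M (chiR R M R'') ≫ f = 1 from h, MonObj.comp_one]
  have h1B : ∀ x, (1 : sp R P2 ⟶ X).left x ∈ V := by
    intro x
    rw [one_left]
    have e : Spec.map (CommRingCat.ofHom (algebraMap R P2)) =
        Spec.map (CommRingCat.ofHom (algebraMap R' P2)) ≫
          Spec.map (CommRingCat.ofHom (algebraMap R R')) := by
      rw [← Spec.map_comp, ← CommRingCat.ofHom_comp]
      congr 2
    change (η[X]).left (Spec.map (CommRingCat.ofHom (algebraMap R P2)) x) ∈ V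
    rw [e]
    exact hR' _
  have h1P : ∀ x, (1 : sp R P ⟶ X).left x ∈ V := by
    intro x
    rw [one_left]
    have e : Spec.map (CommRingCat.ofHom (algebraMap R P)) =
        Spec.map (CommRingCat.ofHom (algebraMap R' P)) ≫
          Spec.map (CommRingCat.ofHom (algebraMap R R')) := by
      rw [← Spec.map_comp, ← CommRingCat.ofHom_comp]
      congr 2
    change (η[X]).left (Spec.map (CommRingCat.ofHom (algebraMap R P)) x) ∈ V
    rw [e]
    exact hR' _
  have hQ1s : Function.Surjective Q1 := by
    intro y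
    induction y using MonoidAlgebra.induction_linear with
    | zero => exact ⟨0, map_zero _⟩
    | add y z hy hz =>
      obtain ⟨y, rfl⟩ := hy
      obtain ⟨z, rfl⟩ := hz
      exact ⟨y + z, map_add _ _ _⟩
    | single m r =>
      obtain ⟨r, rfl⟩ := hq r
      exact ⟨MonoidAlgebra.single m r, MonoidAlgebra.mapRingHom_single _ _ _⟩
  have hQ1sq : ∀ b b' : P, Q1 b = 0 → Q1 b' = 0 → b * b' = 0 := by
    intro b b' hb hb'
    ext m
    rw [MonoidAlgebra.mul_apply]
    refine Finset.sum_eq_zero fun i _ => Finset.sum_eq_zero fun j _ => ?_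
    have hi := congrArg (fun z : MonoidAlgebra R'' (Multiplicative M) => z.coeff i) hb
    have hj := congrArg (fun z : MonoidAlgebra R'' (Multiplicative M) => z.coeff j) hb'
    simp [Q1] at hi hj
    simp [hsq _ _ hi hj]
  -- the representatives
  set φ := pt R M (chiR R M R') ≫ f with hφdef
  have hφ : sMap Q1 ≫ φ = 1 := by
    rw [hφdef, ← Category.assoc, sMap_pt]
    have : Q1.comp (chiR R M R') = chiR R M R'' := by
      refine MonoidAlgebra.algHom_ext (fun m => ?_) (by ext)
      simp [Q1, chiR, P]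
    rw [this]; exact h
  obtain ⟨g, hg⟩ := exists_rep hV φ (range_subset_of_congr Q1
    (fun b hb => ⟨2, by rw [pow_two]; exact hQ1sq b b hb hb⟩) hQ1s hφ h1P)
  obtain ⟨e, he⟩ := exists_rep hV (1 : sp R P ⟶ X) h1P
  have hrep : ∀ j : P →ₐ[R] P2, Rep hV (pt R M (j.comp (chiR R M R')) ≫ f) (j.toRingHom.comp g) :=
    fun j => by
      rw [← sMap_pt, Category.assoc]
      exact hg.comp hV j
  have hone : ∀ j : P →ₐ[R] P2, Rep hV (1 : sp R P2 ⟶ X) (j.toRingHom.comp e) := fun j => by
    have := he.comp hV j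
    rwa [MonObj.comp_one] at this
  let k1 : MonoidAlgebra R'' (Multiplicative M) →ₐ[R] MonoidAlgebra R'' M2 :=
    (MonoidAlgebra.mapDomainAlgHom R'' R'' (MonoidHom.inl _ _)).restrictScalars R
  let k2 : MonoidAlgebra R'' (Multiplicative M) →ₐ[R] MonoidAlgebra R'' M2 :=
    (MonoidAlgebra.mapDomainAlgHom R'' R'' (MonoidHom.inr _ _)).restrictScalars R
  have hk1 : Q2.comp j1 = k1.comp Q1 := by
    apply AlgHom.ext
    intro z
    induction z using MonoidAlgebra.induction_linear with
    | zero => simp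
    | add y z hy hz => simp only [map_add, hy, hz]
    | single m r =>
      change Q2 (j1 (MonoidAlgebra.single m r)) = k1 (Q1 (MonoidAlgebra.single m r))
      have a1 : Q1 (MonoidAlgebra.single m r) = MonoidAlgebra.single m (q r) :=
        MonoidAlgebra.mapRingHom_single _ _ _
      have a2 : ∀ n : M2, Q2 (MonoidAlgebra.single n r) = MonoidAlgebra.single n (q r) := fun n =>
        MonoidAlgebra.mapRingHom_single _ _ _
      rw [a1]
      refine (congrArg Q2 (show j1 (MonoidAlgebra.single m r) =
        MonoidAlgebra.single (MonoidHom.inl _ _ m) r from ?_)).trans ((a2 _).trans ?_)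
      · exact MonoidAlgebra.mapDomain_single ..
      · exact (MonoidAlgebra.mapDomain_single ..).symm
  have hk2 : Q2.comp j2 = k2.comp Q1 := by
    apply AlgHom.ext
    intro z
    induction z using MonoidAlgebra.induction_linear with
    | zero => simp
    | add y z hy hz => simp only [map_add, hy, hz]
    | single m r =>
      change Q2 (j2 (MonoidAlgebra.single m r)) = k2 (Q1 (MonoidAlgebra.single m r))
      have a1 : Q1 (MonoidAlgebra.single m r) = MonoidAlgebra.single m (q r) :=
        MonoidAlgebra.mapRingHom_single _ _ _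
      have a2 : ∀ n : M2, Q2 (MonoidAlgebra.single n r) = MonoidAlgebra.single n (q r) := fun n =>
        MonoidAlgebra.mapRingHom_single _ _ _
      rw [a1]
      refine (congrArg Q2 (show j2 (MonoidAlgebra.single m r) =
        MonoidAlgebra.single (MonoidHom.inr _ _ m) r from ?_)).trans ((a2 _).trans ?_)
      · exact MonoidAlgebra.mapDomain_single ..
      · exact (MonoidAlgebra.mapDomain_single ..).symm
  have hadd : ∀ x, j3 (g x) = j1 (g x) + j2 (g x) - j1 (e x) := by
    intro x
    refine mul_rep hV Q2 hQ2sq hQ2s h1B (hkill j1 k1 hk1) (hkill j2 k2 hk2) (hrep j1) (hrep j2)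
      (hone j1) (c := j3.toRingHom.comp g) ?_ x
    have h3 := hrep j3
    rwa [← hmul, MonObj.mul_comp] at h3
  have he1 : ∀ x, j1 (e x) = j2 (e x) ∧ j1 (e x) = j3 (e x) := fun x =>
    ⟨DFunLike.congr_fun ((hone j1).unique hV (hone j2)) x,
      DFunLike.congr_fun ((hone j1).unique hV (hone j3)) x⟩
  have hge : g = e := by
    refine RingHom.ext fun x => ?_
    have hd : j3 (g x - e x) = j1 (g x - e x) + j2 (g x - e x) := by
      have h2' := (he1 x).1
      have h3' := (he1 x).2
      rw [map_sub, map_sub, map_sub, hadd x, ← h3', ← h2']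
      abel
    rw [← sub_eq_zero]
    ext m
    set d := g x - e x
    have inj1 : Function.Injective (MonoidHom.inl (Multiplicative M) (Multiplicative M)) :=
      fun a b hab => congrArg Prod.fst hab
    have inj2 : Function.Injective (MonoidHom.inr (Multiplicative M) (Multiplicative M)) :=
      fun a b hab => congrArg Prod.snd hab
    have inj3 : Function.Injective
        ((MonoidHom.id (Multiplicative M)).prod (MonoidHom.id (Multiplicative M))) :=
      fun a b hab => congrArg Prod.fst hab
    have hc := congrArg (fun z : P2 => z.coeff (m, m)) hd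
    replace hc : (j3 d).coeff (m, m) = (j1 d).coeff (m, m) + (j2 d).coeff (m, m) :=
      hc.trans (by exact Finsupp.add_apply _ _ _)
    have e3 : (j3 d).coeff (m, m) = d.coeff m := by
      exact Finsupp.mapDomain_apply inj3 d.coeff m
    rcases eq_or_ne m 1 with rfl | hm
    · have e1 : (j1 d).coeff (1, 1) = d.coeff 1 := by
        exact Finsupp.mapDomain_apply inj1 d.coeff 1
      have e2 : (j2 d).coeff (1, 1) = d.coeff 1 := by
        exact Finsupp.mapDomain_apply inj2 d.coeff 1
      rw [e1, e2, e3] at hc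
      simpa using hc
    · have e1 : (j1 d).coeff (m, m) = 0 := by
        refine Finsupp.mapDomain_notin_range d.coeff (m, m) ?_
        rintro ⟨a, ha⟩
        exact hm (congrArg Prod.snd ha).symm
      have e2 : (j2 d).coeff (m, m) = 0 := by
        refine Finsupp.mapDomain_notin_range d.coeff (m, m) ?_
        rintro ⟨a, ha⟩
        exact hm (congrArg Prod.fst ha).symm
      rw [e1, e2, e3, add_zero] at hc
      simpa using hc
  exact Rep.eq hV (hge ▸ hg) he

/-- Triviality spreads over square-zero thickenings. -/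
theorem triv_of_sq {R'' : Type u} [CommRing R''] [Algebra R R''] (q : R' →ₐ[R] R'')
    (hq : Function.Surjective q) (hsq : ∀ x y, q x = 0 → q y = 0 → x * y = 0)
    (h : Triv R'' f) : Triv R' f := by
  let P := MonoidAlgebra R' (Multiplicative M)
  have key : ∀ x : PrimeSpectrum P, ∃ r : R, algebraMap R P r ∉ x.asIdeal ∧
      Triv (Localization.Away (algebraMap R R' r)) f := by
    intro x
    let s : PrimeSpectrum R := PrimeSpectrum.comap (algebraMap R P) x
    obtain ⟨_, ⟨V, hV, rfl⟩, hsV, -⟩ := X.left.isBasis_affineOpens.exists_subset_of_mem_open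
      (Set.mem_univ ((η[X]).left s)) isOpen_univ
    have ho : IsOpen ((η[X]).left ⁻¹' (V : Set X.left)) :=
      V.2.preimage (η[X]).left.continuous
    obtain ⟨_, ⟨r, rfl⟩, hr, hrV⟩ := PrimeSpectrum.isTopologicalBasis_basic_opens.exists_subset_of_mem_open
      (a := s) hsV ho
    refine ⟨r, hr, ?_⟩
    let L := Localization.Away (algebraMap R R' r)
    let K : Ideal L := (RingHom.ker q.toRingHom).map (algebraMap R' L)
    let q' : R'' →ₐ[R] L ⧸ K := AlgHom.liftOfSurjective q hq
      ((Ideal.Quotient.mkₐ R K).comp (IsScalarTower.toAlgHom R R' L)) (by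
        intro y hy
        rw [RingHom.mem_ker]
        exact Ideal.Quotient.eq_zero_iff_mem.2 (Ideal.mem_map_of_mem _ hy))
    refine triv_of_affine L f (Ideal.Quotient.mkₐ R K) (Ideal.Quotient.mkₐ_surjective R K) ?_ hV ?_
      (h.map _ f q')
    · intro y z hy hz
      have hy' := Ideal.Quotient.eq_zero_iff_mem.1 hy
      have hz' := Ideal.Quotient.eq_zero_iff_mem.1 hz
      have hK : K * K = ⊥ := by
        rw [← Ideal.map_mul, eq_bot_iff, Ideal.map_le_iff_le_comap, Ideal.mul_le]
        intro a ha b hb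
        simp [hsq a b ha hb]
      exact (Submodule.mem_bot L).1 (hK ▸ Ideal.mul_mem_mul hy' hz')
    · intro y
      refine hrV ?_
      change r ∉ (PrimeSpectrum.comap (algebraMap R L) y).asIdeal
      intro hmem
      refine y.isPrime.ne_top (Ideal.eq_top_of_isUnit_mem _ hmem ?_)
      rw [IsScalarTower.algebraMap_apply R R' L]
      exact IsLocalization.Away.algebraMap_isUnit _
  choose r hr htriv using key
  have hspan : Ideal.span (Set.range fun x => algebraMap R P (r x)) = ⊤ := by
    by_contra hne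
    obtain ⟨m, hm, hle⟩ := Ideal.exists_le_maximal _ hne
    exact hr ⟨m, hm.isPrime⟩ (hle (Ideal.subset_span ⟨⟨m, hm.isPrime⟩, rfl⟩))
  apply Over.OverMorphism.ext
  refine Scheme.Cover.hom_ext
    (Scheme.affineOpenCoverOfSpanRangeEqTop (R := CommRingCat.of P) _ hspan).openCover _ _ fun x => ?_
  let L := Localization.Away (algebraMap R P (r x))
  let L' := Localization.Away (algebraMap R R' (r x))
  let α : L' →ₐ[R] L := IsLocalization.liftAlgHom (M := Submonoid.powers (algebraMap R R' (r x)))
    (f := ((IsScalarTower.toAlgHom R P L).comp (IsScalarTower.toAlgHom R R' P))) (by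
      rintro ⟨_, k, rfl⟩
      rw [map_pow]
      refine IsUnit.pow k ?_
      change IsUnit (algebraMap P L (algebraMap R' P (algebraMap R R' (r x))))
      rw [← IsScalarTower.algebraMap_apply R R' P]
      exact IsLocalization.Away.algebraMap_isUnit _)
  let Λ : MonoidAlgebra L' (Multiplicative M) →ₐ[R] L :=
    { MonoidAlgebra.liftNCRingHom α.toRingHom
        ((algebraMap P L).toMonoidHom.comp (MonoidAlgebra.of R' (Multiplicative M)))
        (fun _ _ => Commute.all _ _) with
      commutes' := fun z => by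
        simp [MonoidAlgebra.coe_algebraMap] }
  let incl : P →ₐ[R] L := IsScalarTower.toAlgHom R P L
  have e2 : sMap incl ≫ pt R M (chiR R M R') ≫ f = sMap incl ≫ (1 : sp R P ⟶ X) := by
    have hΛ : Λ.comp (chiR R M L') = incl.comp (chiR R M R') := by
      refine MonoidAlgebra.algHom_ext (fun m => ?_) (by ext)
      simp [Λ, incl, chiR, P, L, MonoidAlgebra.of]
    rw [← Category.assoc, sMap_pt, ← hΛ, ← sMap_pt, Category.assoc,
      show pt R M (chiR R M L') ≫ f = 1 from htriv x, MonObj.comp_one, MonObj.comp_one]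
  exact congrArg (fun z => z.left) e2

end diag

end

end Groth.Agent.H23.DiagRigid
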