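import Groth.Agent.Lib.PosLin.CohBound
import Groth.Agent.Lib.Curves.RelSurj
import Groth.Agent.Lib.HProj.QuasiProj
import Groth.Agent.Lib.ModelFibre.TorsGen
import Groth.Agent.Lib.Ample.Basis
import Groth.Agent.Lib.Cyc.DegK.SuppVanish
import Groth.Agent.Lib.Snapper.DimBound

/-!
# Higher cohomology of powers of a globally generated invertible module

`dim H^i(X, L^m ⊗ F) = O(m^{dim Supp F - 1})` for `i ≥ 1`.
-/

set_option autoImplicit false
set_option linter.style.haveILetI false
universe u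

open CategoryTheory CategoryTheory.Limits AlgebraicGeometry TopologicalSpace

namespace Groth.Agent.H23.GGBound

open Groth.Agent.Lib Groth.Agent.Lib.Snapper
open Groth.Agent.Lib.TensorMod.Basic (comm assoc tensorIso leftUnit rightUnit)
open Groth.Agent.Lib.TensorMod.Invertible (isInvertible_tensorPow)
open Groth.Agent.Lib.PosLin.CohBound (hd hd_congr hd_mid_le exists_mulSeq rec_bound isCoh_twist_pb)

variable (k : Type u) [Field k] {X : Scheme.{u}} [X.Over (Spec (CommRingCat.of k))]
  [IsProper (X ↘ Spec (CommRingCat.of k))] {L : X.Modules}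

include k in
/-- A section of a power avoiding finitely many points. -/
theorem exists_pow_section (hL : PicF.IsInvertible L) (hgg : Curv2.IsGloballyGenerated L)
    {Z : Set X} (hZ : Z.Finite) :
    ∃ (e : ℕ) (s : Coh.structureModule X ⟶ CohB1.tensorPow L e),
      0 < e ∧ Z ⊆ CohB1.genLocus _ s := by
  obtain ⟨N, t, -, hcov⟩ := Curves.RelSurj.exists_sections k hL hgg
  obtain ⟨r, -, τ, -⟩ := ProjMor.Poly.exists_map N k (X ↘ Spec (CommRingCat.of k)) L hL t
    (ProjMor.Embed.generatedBy_of_locus t hcov)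
  have hA : CohB1.IsAmple (Twist.twistProjSpace N k 1) := HProj.QuasiProj.isAmple_twist_projSpace N k
  haveI := Ample.Pullback.quasiSeparatedSpace_of_isAmple hA
  obtain ⟨n, hn, s, hs, -, -⟩ := Ample.Basis.exists_locus_of_finite hA (r '' Z) (hZ.image r) ⊤
    (fun _ _ => trivial)
  obtain ⟨e⟩ := ModelFibre.TorsGen.nonempty_pullback_tensorPow r (Twist.twistProjSpace N k 1) n
  refine ⟨n, ((PicLoc.pullbackStructureIso r).inv ≫ (Scheme.Modules.pullback r).map s) ≫
    (e ≪≫ Ample.Pow.powIso τ n).hom, hn, ?_⟩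
  rw [Ample.GenLocus.genLocus_comp_iso]
  exact fun x hx => (Ample.GenLocus.genLocus_pullback r (isInvertible_tensorPow hA.1 n) s
    (PicLoc.pullbackStructureIso r).symm).ge (hs ⟨x, hx, rfl⟩)

/-- **The bound.** -/
theorem exists_bound (hL : PicF.IsInvertible L) (hgg : Curv2.IsGloballyGenerated L) :
    ∀ (r : ℕ) (F : X.Modules), Coh.IsCoh F →
      (∀ x ∈ CohB1.support F, VarDim.Basic.pdim (X ↘ Spec (CommRingCat.of k)) x < r) →
      ∀ i : ℕ, 1 ≤ i → ∃ K : ℕ, (r ≤ 1 → K = 0) ∧ ∀ m : ℕ,
        hd k X (CohB1.tensorMod (CohB1.tensorPow L m) F) i ≤ K * (m + 1) ^ (r - 2) := by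
  haveI := Curves.GlobalSections.isNoetherian_of_proper k X
  obtain ⟨d, hdX⟩ := DimBound.exists_dim_bound k X
  have low : ∀ (r : ℕ) (F : X.Modules), r ≤ 1 → Coh.IsCoh F →
      (∀ x ∈ CohB1.support F, VarDim.Basic.pdim (X ↘ Spec (CommRingCat.of k)) x < r) →
      ∀ i : ℕ, 1 ≤ i → ∀ m : ℕ, hd k X (CohB1.tensorMod (CohB1.tensorPow L m) F) i = 0 := by
    intro r F hr hF hsupp i hi m
    haveI := hF.2
    have hW : IsClosed (CohB1.support F) := Modules.Support.isClosed_support F
    haveI : Subsingleton (Coh.HH X (CohB1.tensorMod (CohB1.tensorPow L m) F) i) := by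
      refine Cyc.DegK.SuppVanish.H_subsingleton (X := X.carrier) d hdX _ hW 0 ?_ (fun x hx => ?_) i hi
      · refine (VarDim.Basic.topologicalKrullDim_le_iff (X ↘ Spec (CommRingCat.of k))
          hW.isLocallyClosed _).2 fun x hx => ?_
        exact_mod_cast (show VarDim.Basic.pdim (X ↘ Spec (CommRingCat.of k)) x ≤ 0 by
          have := hsupp x hx; omega)
      · exact Modules.Support.not_mem_support_iff.mp
          (by rw [Twist.support_twist (isInvertible_tensorPow hL m)]; exact hx)
    exact Module.finrank_zero_of_subsingleton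
  intro r
  induction r with
  | zero =>
    exact fun F hF h i hi => ⟨0, fun _ => rfl, fun m => by rw [low 0 F (by omega) hF h i hi m]; simp⟩
  | succ r ih =>
    intro F hF hsupp i hi
    rcases Nat.eq_zero_or_pos r with hr | hr
    · exact ⟨0, fun _ => rfl, fun m => by rw [low (r + 1) F (by omega) hF hsupp i hi m]; simp⟩
    haveI := hF.2
    have hT : IsClosed (CohB1.support F) := Modules.Support.isClosed_support F
    let Z : Set X := {x | x ∈ CohB1.support F ∧ ∀ z ∈ CohB1.support F, z ⤳ x → z = x} ∪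
      {y | Curv2.IsAssPoint F y}
    have hZ : Z.Finite := (Devissage.Dim.finite_maximal hT).union
      (UnifReg.Hyperplane.finite_assPoints hF)
    obtain ⟨e, s, he, hs⟩ := exists_pow_section k hL hgg hZ
    have hE := isInvertible_tensorPow hL e
    obtain ⟨Q, φ, π, w, hS, hQ, hsQ⟩ := exists_mulSeq hF hE s fun x hx => hs (Or.inr hx)
    have hQ' : ∀ x ∈ CohB1.support Q, VarDim.Basic.pdim (X ↘ Spec (CommRingCat.of k)) x < r := by
      intro x hx
      obtain ⟨h1, h2⟩ := hsQ x hx
      obtain ⟨z, hz, hzx, hmax⟩ := Ideal.Prime.exists_maximal_generization hT h2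
      have hne : z ≠ x := fun h => h1 (hs (Or.inl (h ▸ ⟨hz, hmax⟩)))
      have h3 := VarDim.Basic.pdim_lt (X ↘ Spec (CommRingCat.of k)) hzx hne
      have h4 := hsupp z hz
      omega
    obtain ⟨K', hK0, hK⟩ := ih Q hQ hQ' i hi
    let P : ℕ → ℕ := fun m => hd k X (CohB1.tensorMod (CohB1.tensorPow L m) F) i
    have hstep : ∀ m, P (m + e) ≤ P m + K' * (m + e + 1) ^ (r - 2) := by
      intro m
      have hm := isInvertible_tensorPow hL m
      have hFE : Coh.IsCoh (CohB1.tensorMod F (CohB1.tensorPow L e)) :=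
        PosLin.SectionBound.isCoh_twist_right hF hE
      have h := hd_mid_le (k := k) (Twist.twistSeq_shortExact hm hS) (Twist.isCoh_twist hm hF)
        (Twist.isCoh_twist hm hFE) (Twist.isCoh_twist hm hQ) i
      let eM : CohB1.tensorMod (CohB1.tensorPow L m) (CohB1.tensorMod F (CohB1.tensorPow L e)) ≅
          CohB1.tensorMod (CohB1.tensorPow L (m + e)) F :=
        tensorIso (Iso.refl _) (comm _ _) ≪≫ (assoc _ _ _).symm ≪≫
          tensorIso (Ample.Pow.powAdd L m e).symm (Iso.refl F)
      exact (hd_congr (k := k) eM i).ge.trans (h.trans (Nat.add_le_add_left ((hK m).trans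
        (Nat.mul_le_mul_left K' (Nat.pow_le_pow_left (by omega) (r - 2)))) _))
    refine ⟨(∑ j ∈ Finset.range e, P j) + K', fun h => absurd h (by omega), fun m => ?_⟩
    refine (rec_bound he hstep m).trans ?_
    rw [add_mul (∑ j ∈ Finset.range e, P j)]
    refine add_le_add (Nat.le_mul_of_pos_right _ (pow_pos m.succ_pos _)) ?_
    rcases Nat.lt_or_ge r 2 with hr2 | hr2
    · simp [hK0 (by omega)]
    · rw [show r + 1 - 2 = (r - 2) + 1 by omega, mul_assoc, pow_succ']
      exact Nat.mul_le_mul_left _ (Nat.mul_le_mul_right _ (Nat.le_succ m))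

/-- The case of `L^m` itself. -/
theorem exists_bound_tensorPow (hL : PicF.IsInvertible L) (hgg : Curv2.IsGloballyGenerated L) {r : ℕ}
    (hdim : topologicalKrullDim X ≤ r) {i : ℕ} (hi : 1 ≤ i) :
    ∃ K : ℕ, ∀ m : ℕ, 1 ≤ m → hd k X (CohB1.tensorPow L m) i ≤ K * m ^ (r - 1) := by
  obtain ⟨K, -, hK⟩ := exists_bound k hL hgg (r + 1) _ (Twist.isCoh_structureModule X)
    (fun x _ => by
      have h := (VarDim.Basic.topologicalKrullDim_scheme_le_iff (X ↘ Spec (CommRingCat.of k)) _).1
        hdim x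
      have : VarDim.Basic.pdim (X ↘ Spec (CommRingCat.of k)) x ≤ r := by exact_mod_cast h
      omega) i hi
  refine ⟨K * 2 ^ (r - 1), fun m hm => ?_⟩
  rw [← hd_congr (k := k) (rightUnit (CohB1.tensorPow L m)) i]
  refine (hK m).trans ?_
  rw [show r + 1 - 2 = r - 1 by omega, mul_assoc, ← mul_pow]
  exact Nat.mul_le_mul_left _ (Nat.pow_le_pow_left (by omega) _)

end Groth.Agent.H23.GGBound
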