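import Groth.Agent.Lib.Flat55.GenericStrata
import Groth.Agent.S6894
import Groth.Agent.S6895
import Groth.Agent.H25.FittingLoc
import Mathlib.RingTheory.LocalRing.Module
import Mathlib.RingTheory.Spectrum.Prime.FreeLocus

/-!
# The stratum of a Hilbert function of a graded module
-/

universe u

open TensorProduct

namespace Groth.Agent.H23.HilbStrata

variable {A : Type u} [CommRing A]

theorem fitt_mono (M : Type u) [AddCommGroup M] [Module A M] {k l : ℕ} (h : k ≤ l) :
    Fitt.ideal A M k ≤ Fitt.ideal A M l :=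
  Ideal.span_mono fun _ ⟨n, x, a, hx, ha, hd⟩ => ⟨n, x, a, hx, fun i hi => ha i (by omega), hd⟩

/-- Over a local ring, a finite flat module has all Fitting ideals trivial. -/
theorem fitt_bot_or_top [IsLocalRing A] (M : Type u) [AddCommGroup M] [Module A M] [Module.Finite A M]
    [Module.Flat A M] (k : ℕ) : Fitt.ideal A M k = ⊥ ∨ Fitt.ideal A M k = ⊤ := by
  haveI : Module.Free A M := Module.free_of_flat_of_isLocalRing
  by_cases hk : k < Module.finrank A M
  · exact Or.inl (H25.Fitting.ideal_eq_bot_of_free hk)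
  · exact Or.inr (H25.Fitting.ideal_eq_top _ (Module.finBasis A M).span_eq (not_lt.mp hk))

theorem fitt_of_projective (M : Type u) [AddCommGroup M] [Module A M] [Module.Finite A M]
    [Module.Projective A M] (h : ℕ) (hr : ∀ p : PrimeSpectrum A, Module.rankAtStalk M p = h) :
    (∀ k, k < h → Fitt.ideal A M k = ⊥) ∧ Fitt.ideal A M h = ⊤ := by
  refine ⟨fun k hk => ?_, ?_⟩
  · refine ideal_eq_bot_of_localization' _ fun q hq => ?_
    rw [← H25.Fitting.ideal_localization]
    haveI : Module.Free (Localization.AtPrime q) (LocalizedModule q.primeCompl M) :=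
      Module.free_of_flat_of_isLocalRing
    exact H25.Fitting.ideal_eq_bot_of_free (by
      rw [show Module.finrank (Localization.AtPrime q) (LocalizedModule q.primeCompl M) = h from
        hr ⟨q, inferInstance⟩]
      exact hk)
  · by_contra hne
    obtain ⟨p, hp, hle⟩ := Ideal.exists_le_maximal _ hne
    refine (S6894.result M h p).1.mpr ?_ hle
    exact (Module.rankAtStalk_eq (M := M) ⟨p, hp.isPrime⟩).symm.trans_le (hr _).le

theorem projective_of_fitt (M : Type u) [AddCommGroup M] [Module A M] [Module.Finite A M] (h : ℕ)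
    (h0 : ∀ k, k < h → Fitt.ideal A M k = ⊥) (h1 : Fitt.ideal A M h = ⊤) :
    Module.Projective A M ∧ ∀ p : PrimeSpectrum A, Module.rankAtStalk M p = h := by
  have htop : ∀ k, h ≤ k → Fitt.ideal A M k = ⊤ := fun k hk =>
    top_le_iff.mp (h1.symm.trans_le (fitt_mono M hk))
  have hfree := (S6895.result M h).2 ⟨h0, htop⟩
  haveI hproj : Module.Projective A M := H25.Fitting.projective_of_free_away (fun p hp => by
    obtain ⟨c, hc, hfr, -⟩ := @hfree p hp
    exact ⟨c, hc, hfr⟩)
  refine ⟨hproj, fun p => ?_⟩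
  rw [Module.rankAtStalk_eq]
  refine le_antisymm ((S6894.result M h p.asIdeal).1.mp (by
    rw [h1, top_le_iff]; exact p.isPrime.ne_top)) ?_
  by_contra hlt
  push Not at hlt
  exact (S6894.result M _ p.asIdeal).1.mpr le_rfl ((h0 _ hlt).trans_le bot_le)

variable [IsNoetherianRing A]
  (R : Type u) [CommRing R] [Algebra A R] [Algebra.FiniteType A R]
  (M : Type u) [AddCommGroup M] [Module A M] [Module R M] [IsScalarTower A R M] [Module.Finite R M]
  (ℳ : ℤ → Submodule A M) [DirectSum.Decomposition ℳ] [∀ v, Module.Finite A (ℳ v)]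

omit [IsNoetherianRing A] [Algebra A R] [Algebra.FiniteType A R] [Module R M]
  [IsScalarTower A R M] [Module.Finite R M] [∀ v, Module.Finite A (ℳ v)] in
/-- The graded pieces of a flat base change are flat. -/
theorem flat_piece (C : Type u) [CommRing C] [Algebra A C] [Module.Flat C (C ⊗[A] M)] (v : ℤ) :
    Module.Flat C (C ⊗[A] ℳ v) := by
  classical
  let r : M →ₗ[A] ℳ v :=
    DirectSum.component A ℤ (fun i => ℳ i) v ∘ₗ (DirectSum.decomposeLinearEquiv ℳ).toLinearMap
  refine Module.Flat.of_retract ((ℳ v).subtype.baseChange C) (r.baseChange C) ?_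
  rw [← LinearMap.baseChange_comp, ← LinearMap.baseChange_id]
  congr 1
  refine LinearMap.ext fun x => ?_
  change DirectSum.component A ℤ (fun i => ℳ i) v (DirectSum.decompose ℳ (x : M)) = x
  rw [DirectSum.decompose_coe, ← DirectSum.lof_eq_of A, DirectSum.component.lof_self]

include R in
/-- Finitely many primes see all the Fitting ideals of the graded pieces. -/
theorem finite_profiles :
    ∃ P₀ : Set (Ideal A), P₀.Finite ∧ ∀ p : Ideal A, p.IsPrime → ∃ P ∈ P₀,
      ∀ (v : ℤ) (k : ℕ), Fitt.ideal A (ℳ v) k ≤ p ↔ Fitt.ideal A (ℳ v) k ≤ P := by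
  suffices h : ∀ I : Ideal A, Relation.ReflTransGen (Lib.Flat55.GenericStrata.Step A M) I ⊤ →
      ∃ P₀ : Set (Ideal A), P₀.Finite ∧ ∀ p : Ideal A, p.IsPrime → I ≤ p → ∃ P ∈ P₀,
        ∀ (v : ℤ) (k : ℕ), Fitt.ideal A (ℳ v) k ≤ p ↔ Fitt.ideal A (ℳ v) k ≤ P by
    obtain ⟨P₀, hf, hProf⟩ := h ⊥ (Lib.Flat55.GenericStrata.exists_chain_noetherian (R₀ := A) (M₀ := M) R ⊥)
    exact ⟨P₀, hf, fun p hp => hProf p hp bot_le⟩
  intro I hI
  induction hI using Relation.ReflTransGen.head_induction_on with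
  | refl => exact ⟨∅, Set.finite_empty, fun p hp h => absurd (top_le_iff.mp h) hp.ne_top⟩
  | @head I I' hstep hrest ih =>
    obtain ⟨P₀, hfin, hProf⟩ := ih
    refine ⟨I.minimalPrimes ∪ P₀, (Ideal.finite_minimalPrimes_of_isNoetherianRing A I).union hfin,
      fun p hp hIp => ?_⟩
    by_cases hI'p : I' ≤ p
    · obtain ⟨P, hP, h⟩ := hProf p hp hI'p
      exact ⟨P, Or.inr hP, h⟩
    obtain ⟨hII', -, hflat⟩ := hstep
    obtain ⟨P, hP, hPp⟩ := Ideal.exists_minimalPrimes_le hIp
    refine ⟨P, Or.inl hP, fun v k => ?_⟩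
    haveI := hp
    haveI := hP.1.1
    let pbar := p.map (Ideal.Quotient.mk I)
    haveI : pbar.IsPrime := Ideal.isPrime_map_quotientMk_of_isPrime hIp
    let C := Localization.AtPrime pbar
    haveI : IsScalarTower A (A ⧸ I) C := inferInstance
    have hC0 : I.map (algebraMap A C) = ⊥ := by
      rw [IsScalarTower.algebraMap_eq A (A ⧸ I) C, ← Ideal.map_map, Ideal.Quotient.algebraMap_eq,
        Ideal.map_quotient_self, Ideal.map_bot]
    obtain ⟨x, hx, hxp⟩ := Set.not_subset.mp hI'p
    have hC1 : I'.map (algebraMap A C) = ⊤ := by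
      refine Ideal.eq_top_of_isUnit_mem _ (Ideal.mem_map_of_mem _ hx) ?_
      rw [IsScalarTower.algebraMap_apply A (A ⧸ I) C]
      refine IsLocalization.map_units C (⟨Ideal.Quotient.mk I x, ?_⟩ : pbar.primeCompl)
      intro h
      exact hxp ((Ideal.mem_quotient_iff_mem hIp).mp h)
    haveI := hflat C hC0 hC1
    haveI := flat_piece M ℳ C v
    have hdich := fitt_bot_or_top (A := C) (C ⊗[A] ℳ v) k
    rw [H25.Fitting.ideal_baseChange C k] at hdich
    have hmax : (IsLocalRing.maximalIdeal C).comap (algebraMap A C) = p := by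
      rw [IsScalarTower.algebraMap_eq A (A ⧸ I) C, ← Ideal.comap_comap,
        show (IsLocalRing.maximalIdeal C).comap (algebraMap (A ⧸ I) C) = pbar from
          Localization.AtPrime.under_maximalIdeal, Ideal.Quotient.algebraMap_eq,
        Ideal.comap_map_of_surjective _ Ideal.Quotient.mk_surjective, ← RingHom.ker_eq_comap_bot,
        Ideal.mk_ker, sup_eq_left.mpr hIp]
    rcases hdich with h | h
    · have hle : Fitt.ideal A (ℳ v) k ≤ RingHom.ker (algebraMap A C) := fun y hy =>
        RingHom.mem_ker.mpr ((Submodule.mem_bot C).mp (h ▸ Ideal.mem_map_of_mem _ hy))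
      have hker : ∀ Q : Ideal A, Q.IsPrime → I ≤ Q → Q ≤ p → RingHom.ker (algebraMap A C) ≤ Q := by
        intro Q hQ hIQ hQp y hy
        rw [RingHom.mem_ker, IsScalarTower.algebraMap_apply A (A ⧸ I) C,
          IsLocalization.map_eq_zero_iff pbar.primeCompl C] at hy
        obtain ⟨⟨s, hs⟩, hsy⟩ := hy
        obtain ⟨s, rfl⟩ := Ideal.Quotient.mk_surjective s
        rw [Ideal.Quotient.algebraMap_eq, ← map_mul, Ideal.Quotient.eq_zero_iff_mem] at hsy
        exact (hQ.mem_or_mem (hIQ hsy)).resolve_left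
          fun hsQ => hs (Ideal.mem_map_of_mem _ (hQp hsQ))
      exact iff_of_true (hle.trans (hker p hp hIp le_rfl)) (hle.trans (hker P hP.1.1 hP.1.2 hPp))
    · have hnp : ¬ Fitt.ideal A (ℳ v) k ≤ p := fun hle => by
        rw [← hmax, ← Ideal.map_le_iff_le_comap, h, top_le_iff] at hle
        exact (IsLocalRing.maximalIdeal.isMaximal C).ne_top hle
      exact iff_of_false hnp fun hle => hnp (hle.trans hPp)

include R in
theorem exists_ideals (h : ℤ → ℕ) :
    ∃ a b : Ideal A, ∀ (B : Type u) [CommRing B] [Algebra A B],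
      ((∀ v : ℤ, Module.Finite B (B ⊗[A] ℳ v) ∧ Module.Projective B (B ⊗[A] ℳ v) ∧
          ∀ p : PrimeSpectrum B, Module.rankAtStalk (B ⊗[A] ℳ v) p = h v) ↔
        (a.map (algebraMap A B) = ⊥ ∧ b.map (algebraMap A B) = ⊤)) := by
  classical
  obtain ⟨P₀, hfin, hProf⟩ := finite_profiles R M ℳ
  let Good : Ideal A → ℤ → Prop := fun P v =>
    ¬ Fitt.ideal A (ℳ v) (h v) ≤ P ∧ ∀ k < h v, Fitt.ideal A (ℳ v) k ≤ P
  let pick : Ideal A → ℤ := fun P => if hP : ∃ v, ¬ Good P v then hP.choose else 0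
  let V₀ : Finset ℤ := hfin.toFinset.image pick
  refine ⟨⨆ v : ℤ, ⨆ k : Fin (h v), Fitt.ideal A (ℳ v) k, ∏ v ∈ V₀, Fitt.ideal A (ℳ v) (h v),
    fun B _ _ => ⟨fun H => ?_, fun ⟨ha, hb⟩ v => ?_⟩⟩
  · have hF : ∀ v, (∀ k, k < h v → (Fitt.ideal A (ℳ v) k).map (algebraMap A B) = ⊥) ∧
        (Fitt.ideal A (ℳ v) (h v)).map (algebraMap A B) = ⊤ := fun v => by
      obtain ⟨_, _, hr⟩ := H v
      simpa [H25.Fitting.ideal_baseChange] using fitt_of_projective (B ⊗[A] ℳ v) (h v) hr
    refine ⟨?_, ?_⟩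
    · simp only [Ideal.map_iSup, iSup_eq_bot]
      exact fun v k => (hF v).1 k k.isLt
    · rw [← Ideal.mapHom_apply, map_prod]
      exact (Finset.prod_eq_one fun v _ => (hF v).2.trans Ideal.one_eq_top.symm).trans Ideal.one_eq_top
  · have ha' : ∀ v k, k < h v → (Fitt.ideal A (ℳ v) k).map (algebraMap A B) = ⊥ := by
      intro v k hk
      exact le_bot_iff.mp ((Ideal.map_mono (le_iSup_of_le v
        (le_iSup_of_le (f := fun k : Fin (h v) => Fitt.ideal A (ℳ v) k) ⟨k, hk⟩ le_rfl))).trans ha.le)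
    have htop : ∀ v, (Fitt.ideal A (ℳ v) (h v)).map (algebraMap A B) = ⊤ := by
      intro v
      by_contra hne
      obtain ⟨q, hq, hle⟩ := Ideal.exists_le_maximal _ hne
      haveI := hq.isPrime
      set p := q.comap (algebraMap A B) with hp
      obtain ⟨P, hP, hPp⟩ := hProf p inferInstance
      have hgood : ∀ w ∈ V₀, Good P w := by
        intro w hw
        refine ⟨fun hwP => ?_, fun k hk => (hPp w k).mp ?_⟩
        · have : (Fitt.ideal A (ℳ w) (h w)).map (algebraMap A B) = ⊤ := by
            refine top_le_iff.mp (hb.symm.trans_le (Ideal.map_mono ?_))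
            exact Ideal.le_of_dvd (Finset.dvd_prod_of_mem _ hw)
          have h2 := Ideal.map_le_iff_le_comap.mpr ((hPp w (h w)).mpr hwP)
          rw [this, top_le_iff] at h2
          exact hq.ne_top h2
        · rw [hp, ← Ideal.map_le_iff_le_comap, ha' w k hk]
          exact bot_le
      have hallgood : ∀ w, Good P w := by
        by_contra hall
        push Not at hall
        have hw : pick P ∈ V₀ := Finset.mem_image.mpr ⟨P, hfin.mem_toFinset.mpr hP, rfl⟩
        have hpk := hgood _ hw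
        simp only [pick, dif_pos hall] at hpk
        exact hall.choose_spec hpk
      exact (hallgood v).1 ((hPp v (h v)).mp (Ideal.map_le_iff_le_comap.mp hle))
    refine ⟨inferInstance, projective_of_fitt (B ⊗[A] ℳ v) (h v) (fun k hk => ?_) ?_⟩
    · rw [H25.Fitting.ideal_baseChange]; exact ha' v k hk
    · rw [H25.Fitting.ideal_baseChange]; exact htop v

end Groth.Agent.H23.HilbStrata
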