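import Groth.Prelude.Def_W4c5algebraiztannakaNis
import Mathlib.AlgebraicGeometry.Morphisms.Immersion
import Mathlib.AlgebraicGeometry.Morphisms.ClosedImmersion
import Mathlib.AlgebraicGeometry.PullbackCarrier
import Mathlib.RingTheory.Support
import Mathlib.RingTheory.Nakayama
import Mathlib.RingTheory.Flat.FaithfullyFlat.Algebra

/-!
# Generators of a module along a Nisnevich cover of bounded length
-/

universe u v

open CategoryTheory Limits AlgebraicGeometry TopologicalSpace
open scoped TensorProduct

namespace Groth.Agent.H23.NisGen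

/-- Generators along a stratification by closed subsets. -/
theorem gen_of_chain {R : Type u} [CommRing R] {M : Type v} [AddCommGroup M] [Module R M]
    [Module.Finite R M] (n m : ℕ) (Z : Fin (m + 1) → Set (PrimeSpectrum R))
    (h0 : Z 0 = ∅) (h1 : Z (Fin.last m) = Set.univ) (hcl : ∀ k, IsClosed (Z k))
    (hgen : ∀ (k : Fin m) (J : Ideal R), J.IsRadical →
      PrimeSpectrum.zeroLocus (J : Set R) ⊆ Z k.succ \ Z k.castSucc →
      ∃ t : Fin n → M, ⊤ ≤ Submodule.span R (Set.range t) ⊔ J • (⊤ : Submodule R M)) :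
    ∃ s : Fin (n * m) → M, Submodule.span R (Set.range s) = ⊤ := by
  have key : ∀ k : Fin (m + 1), ∃ s : Fin (n * (k : ℕ)) → M,
      Disjoint (Module.support R (M ⧸ Submodule.span R (Set.range s))) (Z k) := by
    intro k
    induction k using Fin.induction with
    | zero => exact ⟨fun _ => 0, by rw [h0]; exact Set.disjoint_empty _⟩
    | succ k ih =>
      obtain ⟨s, hs⟩ := ih
      set N := Submodule.span R (Set.range s) with hN
      let W : Set (PrimeSpectrum R) := Module.support R (M ⧸ N) ∩ Z k.succ
      have hW : IsClosed W := by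
        refine IsClosed.inter ?_ (hcl _)
        rw [Module.support_eq_zeroLocus]
        exact PrimeSpectrum.isClosed_zeroLocus _
      let J := PrimeSpectrum.vanishingIdeal W
      have hJ : PrimeSpectrum.zeroLocus (J : Set R) = W := by
        rw [PrimeSpectrum.zeroLocus_vanishingIdeal_eq_closure, hW.closure_eq]
      have hsub : W ⊆ Z k.succ \ Z k.castSucc :=
        fun p hp => ⟨hp.2, fun h => Set.disjoint_left.mp hs hp.1 h⟩
      have hrad : J.IsRadical := PrimeSpectrum.isRadical_vanishingIdeal W
      obtain ⟨t, ht⟩ := hgen k J hrad (hJ.trans_subset hsub)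
      let s' : Fin (n * ((k.succ : Fin (m + 1)) : ℕ)) → M :=
        fun i => Fin.append s t (Fin.cast (by simp [Nat.mul_succ]) i)
      refine ⟨s', ?_⟩
      set N' := Submodule.span R (Set.range s') with hN'
      have hle : N ⊔ Submodule.span R (Set.range t) ≤ N' := by
        refine sup_le (Submodule.span_le.mpr ?_) (Submodule.span_le.mpr ?_)
        · rintro _ ⟨i, rfl⟩
          exact Submodule.subset_span ⟨Fin.cast (by simp [Nat.mul_succ]) (Fin.castAdd n i),
            by simp [s']⟩
        · rintro _ ⟨i, rfl⟩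
          exact Submodule.subset_span
            ⟨Fin.cast (by simp [Nat.mul_succ]) (Fin.natAdd (n * (k : ℕ)) i), by simp [s']⟩
      rw [Set.disjoint_left]
      intro p hp hpZ
      have hp1 : p ∈ Module.support R (M ⧸ N) := by
        refine Module.support_subset_of_surjective (Submodule.factor (le_sup_left.trans hle)) ?_ hp
        exact Submodule.factor_surjective _
      have hJp : J ≤ p.asIdeal := by
        have : p ∈ PrimeSpectrum.zeroLocus (J : Set R) := hJ ▸ ⟨hp1, hpZ⟩
        exact this
      have htop : (⊤ : Submodule R (M ⧸ N')) ≤ J • ⊤ := by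
        intro x _
        obtain ⟨x, rfl⟩ := N'.mkQ_surjective x
        obtain ⟨a, ha, b, hb, rfl⟩ := Submodule.mem_sup.mp (ht (Submodule.mem_top : x ∈ ⊤))
        rw [map_add, show N'.mkQ a = 0 from (Submodule.Quotient.mk_eq_zero _).mpr
          (hle (Submodule.mem_sup_right ha)), zero_add]
        have := Submodule.mem_map_of_mem (f := N'.mkQ) hb
        rw [Submodule.map_smul'', Submodule.map_top, Submodule.range_mkQ] at this
        exact this
      obtain ⟨r, hr, hr0⟩ := Submodule.exists_sub_one_mem_and_smul_eq_zero_of_fg_of_le_smul J ⊤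
        Module.Finite.fg_top htop
      have hrp : r ∈ p.asIdeal := Module.mem_support_iff_of_finite.mp hp
        (Module.mem_annihilator.mpr fun x => hr0 x Submodule.mem_top)
      refine p.isPrime.ne_top ((Ideal.eq_top_iff_one _).mpr ?_)
      simpa using sub_mem hrp (hJp hr)
  obtain ⟨s, hs⟩ := key (Fin.last m)
  refine ⟨fun i => s (Fin.cast (by simp) i), ?_⟩
  rw [h1, Set.disjoint_univ, Module.support_eq_empty_iff, Submodule.Quotient.subsingleton_iff]
    at hs
  rw [eq_top_iff] at hs ⊢
  refine hs.trans (Submodule.span_mono ?_)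
  rintro _ ⟨i, rfl⟩
  exact ⟨Fin.cast (by simp) i, by simp⟩

variable {R : Type u} [CommRing R]

/-- A section over a stratum lifts every reduced closed subscheme inside it. -/
theorem exists_lift {U : Scheme.{u}} (f : U ⟶ Spec (CommRingCat.of R))
    {W : Set (Spec (CommRingCat.of R))} (hsec : W4c5algebraiztannaka.HasSectOver f W)
    (J : Ideal R) (hJ : J.IsRadical) (hsub : PrimeSpectrum.zeroLocus (J : Set R) ⊆ W) :
    ∃ u : Spec (CommRingCat.of (R ⧸ J)) ⟶ U,
      u ≫ f = Spec.map (CommRingCat.ofHom (Ideal.Quotient.mk J)) := by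
  obtain ⟨T, g, s, hg, hr, hs⟩ := hsec
  set i := Spec.map (CommRingCat.ofHom (Ideal.Quotient.mk J)) with hi
  haveI : IsReduced (R ⧸ J) := (Ideal.isRadical_iff_quotient_reduced J).mp hJ
  have hrange : Set.range (pullback.snd g i) = Set.univ := by
    rw [Scheme.Pullback.range_snd, Set.preimage_eq_univ_iff]
    have : Set.range g = W := hr
    rw [this]
    refine Set.Subset.trans ?_ hsub
    rintro _ ⟨q, rfl⟩
    intro a ha
    change Ideal.Quotient.mk J a ∈ q.asIdeal
    rw [Ideal.Quotient.eq_zero_iff_mem.mpr ha]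
    exact q.asIdeal.zero_mem
  haveI : IsClosedImmersion (pullback.snd g i) :=
    .of_isPreimmersion _ (hrange ▸ isClosed_univ)
  haveI : Surjective (pullback.snd g i) := ⟨Set.range_eq_univ.mp hrange⟩
  haveI : IsIso (pullback.snd g i) := isIso_of_isClosedImmersion_of_surjective _
  refine ⟨inv (pullback.snd g i) ≫ pullback.fst g i ≫ s, ?_⟩
  rw [Category.assoc, Category.assoc, hs, pullback.condition, IsIso.inv_hom_id_assoc]

variable {B : Type u} [CommRing B] [Algebra R B]

/-- A Nisnevich cover is surjective on spectra. -/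
theorem comap_surjective {m : ℕ} (h : W4c5algebraiztannaka.IsNisCoverLen
    (Spec.map (CommRingCat.ofHom (algebraMap R B))) m) :
    Function.Surjective (PrimeSpectrum.comap (algebraMap R B)) := by
  obtain ⟨Z, h0, h1, hmono, hcl, hsec⟩ := h.flag
  intro p
  have key : ∀ k : Fin (m + 1), p ∈ Z k → ∃ q, PrimeSpectrum.comap (algebraMap R B) q = p := by
    intro k
    induction k using Fin.induction with
    | zero => intro hp; rw [h0] at hp; exact hp.elim
    | succ k ih =>
      intro hp
      by_cases hk : p ∈ Z k.castSucc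
      · exact ih hk
      · obtain ⟨T, g, s, -, hr, hs⟩ := hsec k
        obtain ⟨t, ht⟩ : p ∈ Set.range fun t : T => g t := hr ▸ ⟨hp, hk⟩
        refine ⟨s t, ?_⟩
        rw [← ht, ← hs]
        rfl
  exact key (Fin.last m) (h1 ▸ trivial)

/-- A Nisnevich cover is flat. -/
theorem flat {m : ℕ} (h : W4c5algebraiztannaka.IsNisCoverLen
    (Spec.map (CommRingCat.ofHom (algebraMap R B))) m) : Module.Flat R B := by
  haveI := h.etale
  have := (HasRingHomProperty.Spec_iff (P := @Etale)).mp
    (inferInstance : Etale (Spec.map (CommRingCat.ofHom (algebraMap R B))))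
  have h2 : Algebra.Etale R B := RingHom.etale_algebraMap.mp this
  infer_instance

theorem faithfullyFlat {m : ℕ} (h : W4c5algebraiztannaka.IsNisCoverLen
    (Spec.map (CommRingCat.ofHom (algebraMap R B))) m) : Module.FaithfullyFlat R B :=
  haveI := flat h
  Module.FaithfullyFlat.of_comap_surjective (comap_surjective h)

/-- Generators of `M` from generators of `B ⊗ M`. -/
theorem gen_of_nisCover {M : Type v} [AddCommGroup M] [Module R M] [Module.Finite R M] {m n : ℕ}
    (h : W4c5algebraiztannaka.IsNisCoverLen (Spec.map (CommRingCat.ofHom (algebraMap R B))) m)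
    (g : (Fin n → B) →ₗ[B] B ⊗[R] M) (hg : Function.Surjective g) :
    ∃ s : Fin (n * m) → M, Submodule.span R (Set.range s) = ⊤ := by
  obtain ⟨Z, h0, h1, hmono, hcl, hsec⟩ := h.flag
  refine gen_of_chain n m Z h0 h1 (fun k => (hcl k).1) fun k J hJ hsub => ?_
  obtain ⟨w, hw⟩ := exists_lift _ (hsec k) J hJ hsub
  obtain ⟨ψ, rfl⟩ := Spec.map_surjective w
  rw [← Spec.map_comp] at hw
  have hψ : ∀ r, ψ.hom (algebraMap R B r) = Ideal.Quotient.mk J r :=
    fun r => RingHom.congr_fun (congrArg CommRingCat.Hom.hom (Spec.map_injective hw)) r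
  let ψ' : B →ₐ[R] R ⧸ J := { ψ.hom with commutes' := hψ }
  let N := J • (⊤ : Submodule R M)
  let Ψ : B ⊗[R] M →ₗ[R] M ⧸ N := TensorProduct.lift
    (((LinearMap.lsmul (R ⧸ J) (M ⧸ N)).restrictScalars₁₂ R R).comp ψ'.toLinearMap |>.compl₂ N.mkQ)
  have hΨ : ∀ b x, Ψ (b ⊗ₜ x) = ψ' b • N.mkQ x := fun b x => rfl
  have hsemi : ∀ b z, Ψ (b • z) = ψ' b • Ψ z := by
    intro b z
    induction z using TensorProduct.induction_on with
    | zero => simp
    | tmul c x => rw [TensorProduct.smul_tmul', hΨ, hΨ, smul_eq_mul, map_mul, mul_smul]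
    | add a c ha hc => rw [smul_add, map_add, map_add, smul_add, ha, hc]
  choose t ht using fun i => N.mkQ_surjective (Ψ (g (fun j => if i = j then 1 else 0)))
  refine ⟨t, fun x _ => ?_⟩
  obtain ⟨c, hc⟩ := hg (1 ⊗ₜ x)
  choose r hr using fun i => Ideal.Quotient.mk_surjective (ψ' (c i))
  have : N.mkQ x = N.mkQ (∑ i, r i • t i) := by
    calc N.mkQ x = Ψ (g c) := by rw [hc, hΨ, map_one, one_smul]
      _ = ∑ i, ψ' (c i) • Ψ (g (fun j => if i = j then 1 else 0)) := by
        conv_lhs => rw [pi_eq_sum_univ c, map_sum, map_sum]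
        exact Finset.sum_congr rfl fun i _ => by rw [map_smul, hsemi]
      _ = _ := by
        rw [map_sum]
        refine Finset.sum_congr rfl fun i _ => ?_
        rw [← ht, map_smul, ← hr]
        rfl
  have hmem : x - ∑ i, r i • t i ∈ N := (Submodule.Quotient.eq N).mp this
  exact Submodule.mem_sup.mpr ⟨_, Submodule.sum_mem _ fun i _ => Submodule.smul_mem _ _
    (Submodule.subset_span ⟨i, rfl⟩), _, hmem, add_sub_cancel _ x⟩

end Groth.Agent.H23.NisGen
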