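import Mathlib.RingTheory.MvPowerSeries.Substitution
import Mathlib.RingTheory.MvPowerSeries.Inverse
import Mathlib.RingTheory.AdicCompletion.Completeness
import Mathlib.RingTheory.AdicCompletion.Topology
import Mathlib.RingTheory.Henselian
import Mathlib.Data.Finsupp.WellFounded
import Mathlib.Data.Finsupp.Interval
import Mathlib.Algebra.CharP.Two

/-!
Coordinate changes `X i ↦ X i * u i` of power series rings, and roots of units `≡ 1`.
-/

open MvPowerSeries

namespace Groth.Agent.H23.PSAut

universe u v
variable {σ : Type v} [Finite σ] {R : Type u} [CommRing R]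

lemma mem_span_X_of_constantCoeff (f : MvPowerSeries σ R) (hf : constantCoeff f = 0) :
    f ∈ Ideal.span (Set.range (X : σ → MvPowerSeries σ R)) := by
  classical
  cases nonempty_fintype σ
  rcases isEmpty_or_nonempty σ with h | h
  · have : f = 0 := by
      ext n
      rw [Subsingleton.elim n 0, coeff_zero_eq_constantCoeff_apply, hf, map_zero]
    rw [this]; exact zero_mem _
  let ch : (σ →₀ ℕ) → σ := fun n =>
    if h : ∃ i, n i ≠ 0 then h.choose else Classical.arbitrary σ
  let g : σ → MvPowerSeries σ R := fun i (m : σ →₀ ℕ) =>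
    if ch (m + Finsupp.single i 1) = i then coeff (m + Finsupp.single i 1) f else 0
  have : f = ∑ i, X i * g i := by
    ext n
    rw [map_sum]
    simp only [X, coeff_monomial_mul, one_mul]
    rcases eq_or_ne n 0 with rfl | hn
    · simp [hf]
    · have hex : ∃ i, n i ≠ 0 := by
        by_contra h
        push_neg at h
        exact hn (Finsupp.ext h)
      have hch : n (ch n) ≠ 0 := by
        simp only [ch, dif_pos hex]; exact hex.choose_spec
      have hle : Finsupp.single (ch n) 1 ≤ n := by
        rw [Finsupp.single_le_iff]; omega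
      rw [Finset.sum_eq_single (ch n)]
      · rw [if_pos hle]
        show coeff n f = g (ch n) (n - Finsupp.single (ch n) 1)
        simp only [g, tsub_add_cancel_of_le hle, if_true]
      · intro i _ hi
        split_ifs with hle'
        · show g i (n - Finsupp.single i 1) = 0
          simp only [g, tsub_add_cancel_of_le hle', if_neg (Ne.symm hi)]
        · rfl
      · simp
  rw [this]
  exact Ideal.sum_mem _ fun i _ => Ideal.mul_mem_right _ _ (Ideal.subset_span ⟨i, rfl⟩)

/-- Down-sets of exponents are finite. -/
noncomputable local instance downFinite : LocallyFiniteOrderBot (σ →₀ ℕ) := by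
  classical exact LocallyFiniteOrder.toLocallyFiniteOrderBot

lemma hasSubst_mul_X (u : σ → MvPowerSeries σ R) : HasSubst (fun i => X i * u i) :=
  hasSubst_of_constantCoeff_zero fun i => by simp

lemma coeff_subst_mul_X (u : σ → MvPowerSeries σ R) (f : MvPowerSeries σ R) (n : σ →₀ ℕ) :
    coeff n (subst (fun i => X i * u i) f) =
      ∑ d ∈ Finset.Iic n, coeff d f * coeff (n - d) (d.prod fun s e => u s ^ e) := by
  classical
  rw [coeff_subst (hasSubst_mul_X u)]
  have hterm : ∀ d : σ →₀ ℕ, coeff n (d.prod fun s e => (X s * u s) ^ e) =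
      if d ≤ n then coeff (n - d) (d.prod fun s e => u s ^ e) else 0 := by
    intro d
    have : (d.prod fun s e => (X s * u s) ^ e) =
        monomial d (1 : R) * d.prod fun s e => u s ^ e := by
      rw [MvPowerSeries.monomial_one_eq, ← Finsupp.prod_mul]
      simp [mul_pow]
    rw [this, coeff_monomial_mul]
    simp
  rw [finsum_eq_sum_of_support_subset (s := Finset.Iic n)]
  · refine Finset.sum_congr rfl fun d hd => ?_
    rw [hterm, if_pos (Finset.mem_Iic.1 hd), smul_eq_mul]
  · intro d hd
    simp only [Finset.coe_Iic, Set.mem_Iic]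
    by_contra h
    apply hd
    simp [hterm, h]

lemma subst_mul_X_bijective (u : σ → MvPowerSeries σ R)
    (hu : ∀ i, IsUnit (constantCoeff (u i))) :
    Function.Bijective (subst (R := R) fun i => X i * u i) := by
  classical
  let c : (σ →₀ ℕ) → Rˣ := fun n =>
    (show IsUnit (constantCoeff (n.prod fun s e => u s ^ e)) by
      rw [map_finsuppProd]
      refine Finset.prod_induction _ IsUnit (fun a b => IsUnit.mul) isUnit_one ?_
      intro s _
      simp only [map_pow]
      exact (hu s).pow _).unit
  have hc : ∀ n, (c n : R) = coeff (n - n) (n.prod fun s e => u s ^ e) := by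
    intro n
    simp [c, tsub_self, coeff_zero_eq_constantCoeff_apply]
  have hsplit : ∀ (f : MvPowerSeries σ R) n, coeff n (subst (fun i => X i * u i) f) =
      coeff n f * (c n : R) + ∑ d ∈ (Finset.Iio n).attach,
        coeff d.1 f * coeff (n - d.1) (d.1.prod fun s e => u s ^ e) := by
    intro f n
    rw [coeff_subst_mul_X, ← Finset.Iio_insert, Finset.sum_insert (by simp), hc,
      Finset.sum_attach (Finset.Iio n) (fun d => coeff d f * coeff (n - d) (d.prod fun s e => u s ^ e))]
  refine ⟨fun f g hfg => ?_, fun g => ?_⟩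
  · ext n
    induction n using WellFoundedLT.induction with
    | _ n ih =>
      have := congrArg (coeff n) hfg
      rw [hsplit, hsplit, Finset.sum_congr rfl fun d _ => by rw [ih d.1 (Finset.mem_Iio.1 d.2)],
        add_left_inj] at this
      exact (c n).isUnit.mul_left_inj.1 this
  · let F : (σ →₀ ℕ) → R := WellFoundedLT.fix fun n rec =>
      (coeff n g - ∑ d ∈ (Finset.Iio n).attach,
        rec d.1 (Finset.mem_Iio.1 d.2) * coeff (n - d.1) (d.1.prod fun s e => u s ^ e)) * (↑(c n)⁻¹ : R)
    let F' : MvPowerSeries σ R := F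
    refine ⟨F', ?_⟩
    ext n
    rw [hsplit F' n]
    have : coeff n F' = (coeff n g - ∑ d ∈ (Finset.Iio n).attach,
        coeff d.1 F' * coeff (n - d.1) (d.1.prod fun s e => u s ^ e)) * (↑(c n)⁻¹ : R) := by
      show F n = _
      simp only [F]
      rw [WellFoundedLT.fix_eq]
      rfl
    rw [this, mul_assoc, Units.inv_mul, mul_one, sub_add_cancel]

/-- The automorphism `X i ↦ X i * u i`. -/
noncomputable def mulXEquiv (u : σ → MvPowerSeries σ R) (hu : ∀ i, IsUnit (constantCoeff (u i))) :
    MvPowerSeries σ R ≃ₐ[R] MvPowerSeries σ R :=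
  AlgEquiv.ofBijective (substAlgHom (hasSubst_mul_X u))
    (by simpa [coe_substAlgHom] using subst_mul_X_bijective u hu)

lemma mulXEquiv_X (u : σ → MvPowerSeries σ R) (hu : ∀ i, IsUnit (constantCoeff (u i))) (i : σ) :
    mulXEquiv u hu (X i) = X i * u i := by
  exact substAlgHom_X (hasSubst_mul_X u) i

lemma mulXEquiv_C (u : σ → MvPowerSeries σ R) (hu : ∀ i, IsUnit (constantCoeff (u i))) (r : R) :
    mulXEquiv u hu (C r) = C r :=
  (mulXEquiv u hu).commutes r

/-- An `n`-th root of a series with constant coefficient `1`, for `n` invertible. -/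
lemma exists_root (n : ℕ) (hn0 : n ≠ 0) (hn : IsUnit (n : R)) (f : MvPowerSeries σ R)
    (hf : constantCoeff f = 1) :
    ∃ g : MvPowerSeries σ R, g ^ n = f ∧ constantCoeff g = 1 := by
  classical
  set I : Ideal (MvPowerSeries σ R) := Ideal.span (Set.range (X : σ → MvPowerSeries σ R)) with hI
  have hker : ∀ h : MvPowerSeries σ R, h ∈ I → constantCoeff h = 0 := by
    intro h hh
    have : I ≤ RingHom.ker (constantCoeff (σ := σ) (R := R)) := by
      rw [hI, Ideal.span_le]; rintro _ ⟨i, rfl⟩; simp
    exact this hh
  have hmem : ∀ h : MvPowerSeries σ R, constantCoeff h = 0 → h ∈ I :=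
    fun h hh => mem_span_X_of_constantCoeff h hh
  obtain ⟨g, hg, hg'⟩ := HenselianRing.is_henselian (R := MvPowerSeries σ R) (I := I)
    (Polynomial.X ^ n - Polynomial.C f) (Polynomial.monic_X_pow_sub_C f hn0) 1
    (hmem _ (by simp [hf])) (by
      apply IsUnit.map
      simp only [Polynomial.derivative_sub, Polynomial.derivative_C, Polynomial.derivative_X_pow,
        sub_zero, Polynomial.eval_mul, Polynomial.eval_C, Polynomial.eval_pow, Polynomial.eval_X,
        one_pow, mul_one]
      simpa using hn.map (C : R →+* MvPowerSeries σ R))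
  refine ⟨g, by simpa [Polynomial.IsRoot, sub_eq_zero] using hg, ?_⟩
  have := hker _ hg'
  rwa [map_sub, map_one, sub_eq_zero] at this

end Groth.Agent.H23.PSAut
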