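import Groth.Prelude.Def_W4bk4bump814p2PDiff
import Mathlib

/-!
# Higher exact differentials in characteristic p
-/

universe u v

open MvPolynomial W4bk4bump814p2

namespace Groth.Agent.H23.PDiff

variable (p : ℕ) [hp : Fact p.Prime]

/-- The Witt components of `[X] + [Y]`. -/
noncomputable def comp (j : ℕ) : MvPolynomial (Fin 2) ℤ :=
  (WittVector.teichmuller p (X 0 : MvPolynomial (Fin 2) ℤ) + WittVector.teichmuller p (X 1)).coeff j

lemma sum_comp (i : ℕ) : ∑ j ∈ Finset.range (i + 1), (p : MvPolynomial (Fin 2) ℤ) ^ j * comp p j ^ p ^ (i - j) =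
    X 0 ^ p ^ i + X 1 ^ p ^ i := by
  have h := (WittVector.ghostComponent (p := p) i).map_add (WittVector.teichmuller p (X 0 : MvPolynomial (Fin 2) ℤ))
    (WittVector.teichmuller p (X 1))
  rw [WittVector.ghostComponent_teichmuller, WittVector.ghostComponent_teichmuller] at h
  rw [← h]
  simp [WittVector.ghostComponent_apply, wittPolynomial, map_sum, MvPolynomial.aeval_monomial, comp]

lemma comp_zero : comp p 0 = X 0 + X 1 := by
  simpa using sum_comp p 0

lemma sum_pderiv (i : ℕ) (v : Fin 2) :
    ∑ j ∈ Finset.range (i + 1), comp p j ^ (p ^ (i - j) - 1) * pderiv v (comp p j) =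
      X 0 ^ (p ^ i - 1) * pderiv v (X 0) + X 1 ^ (p ^ i - 1) * pderiv v (X 1) := by
  have h := congrArg (pderiv v) (sum_comp p i)
  rw [map_sum, map_add, pderiv_pow, pderiv_pow] at h
  have hterm : ∀ j ∈ Finset.range (i + 1), pderiv v ((p : MvPolynomial (Fin 2) ℤ) ^ j * comp p j ^ p ^ (i - j)) =
      (p : MvPolynomial (Fin 2) ℤ) ^ i * (comp p j ^ (p ^ (i - j) - 1) * pderiv v (comp p j)) := by
    intro j hj
    rw [pderiv_mul, pderiv_pow, pderiv_pow]
    simp only [map_natCast, Derivation.map_natCast, mul_zero, zero_mul, zero_add]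
    push_cast
    rw [← mul_assoc, ← mul_assoc, ← pow_add, Nat.add_sub_cancel' (Finset.mem_range_succ_iff.mp hj), mul_assoc]
  rw [Finset.sum_congr rfl hterm, ← Finset.mul_sum] at h
  refine mul_left_cancel₀ (pow_ne_zero i (Nat.cast_ne_zero.mpr hp.out.ne_zero)) (h.trans ?_)
  push_cast
  ring

variable (K : Type u) (A : Type v) [Field K] [CommRing A] [Algebra K A]

lemma D_aeval (x y : A) (P : MvPolynomial (Fin 2) ℤ) :
    KaehlerDifferential.D K A (aeval ![x, y] P) =
      aeval ![x, y] (pderiv 0 P) • KaehlerDifferential.D K A x +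
      aeval ![x, y] (pderiv 1 P) • KaehlerDifferential.D K A y := by
  induction P using MvPolynomial.induction_on with
  | C a => simp
  | add P Q hP hQ => simp only [map_add, hP, hQ, add_smul]; abel
  | mul_X P n hP =>
    fin_cases n <;> simp [hP, Derivation.leibniz, pderiv_X, add_smul, smul_add, smul_smul, mul_comm] <;> abel

lemma delta_sum (i : ℕ) (x y : A) :
    ∑ j ∈ Finset.range (i + 1), delta K A p (i - j) (aeval ![x, y] (comp p j)) =
      delta K A p i x + delta K A p i y := by
  have h0 := congrArg (aeval ![x, y]) (sum_pderiv p i 0)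
  have h1 := congrArg (aeval ![x, y]) (sum_pderiv p i 1)
  rw [map_sum] at h0 h1
  simp [pderiv_X] at h0 h1
  simp only [delta, D_aeval, smul_add, smul_smul, Finset.sum_add_distrib, ← Finset.sum_smul]
  rw [h0, h1]

/-- The subgroup generated by the lower power differentials. -/
noncomputable def grp (i : ℕ) : AddSubgroup (Ω[A⁄K]) :=
  AddSubgroup.closure (⋃ j ∈ Finset.range i, Set.range (delta K A p j))

lemma delta_mem {i j : ℕ} (h : j < i) (x : A) : delta K A p j x ∈ grp p K A i :=
  AddSubgroup.subset_closure (Set.mem_biUnion (Finset.mem_range.mpr h) ⟨x, rfl⟩)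

lemma grp_mono {i j : ℕ} (h : i ≤ j) : grp p K A i ≤ grp p K A j :=
  AddSubgroup.closure_mono (Set.biUnion_subset_biUnion_left fun _ hk =>
    Finset.mem_range.mpr ((Finset.mem_range.mp hk).trans_le h))

lemma delta_add_sub (i : ℕ) (x y : A) :
    delta K A p i (x + y) - delta K A p i x - delta K A p i y ∈ grp p K A i := by
  have h := delta_sum p K A i x y
  rw [Finset.sum_range_succ', Nat.sub_zero, comp_zero] at h
  simp only [map_add, aeval_X, Matrix.cons_val_zero, Matrix.cons_val_one] at h
  have h' : delta K A p i (x + y) - delta K A p i x - delta K A p i y =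
      - ∑ j ∈ Finset.range i, delta K A p (i - (j + 1)) (aeval ![x, y] (comp p (j + 1))) := by
    rw [sub_sub, ← h]; abel
  rw [h']
  exact neg_mem (sum_mem fun j hj => delta_mem p K A (by have := Finset.mem_range.mp hj; omega) _)

lemma delta_zero_arg (i : ℕ) : delta K A p i 0 = 0 := by simp [delta]

theorem sigma_eq (i : ℕ) : sigma K A p i = (grp p K A i : Set (Ω[A⁄K])) := by
  induction i with
  | zero => simp [grp]
  | succ i ih =>
    ext ω
    rw [mem_sigma_succ, ih]
    constructor
    · rintro ⟨x, hx⟩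
      have := add_mem (grp_mono p K A i.le_succ hx) (delta_mem p K A i.lt_succ_self x)
      rwa [sub_add_cancel] at this
    · intro hω
      induction hω using AddSubgroup.closure_induction with
      | mem ω hω =>
        obtain ⟨j, hj, x, rfl⟩ := Set.mem_iUnion₂.mp hω
        rcases Nat.lt_succ_iff_lt_or_eq.mp (Finset.mem_range.mp hj) with h | rfl
        · exact ⟨0, by rw [delta_zero_arg, sub_zero]; exact delta_mem p K A h x⟩
        · exact ⟨x, by rw [sub_self]; exact zero_mem _⟩
      | zero => exact ⟨0, by rw [delta_zero_arg, sub_zero]; exact zero_mem _⟩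
      | add a b _ _ ha hb =>
        obtain ⟨x, hx⟩ := ha
        obtain ⟨y, hy⟩ := hb
        refine ⟨x + y, ?_⟩
        have := sub_mem (add_mem hx hy) (delta_add_sub p K A i x y)
        have h' : a + b - delta K A p i (x + y) = (a - delta K A p i x) + (b - delta K A p i y) -
            (delta K A p i (x + y) - delta K A p i x - delta K A p i y) := by abel
        exact (SetLike.mem_coe).mpr (h' ▸ this)
      | neg a _ ha =>
        obtain ⟨x, hx⟩ := ha
        refine ⟨-x, ?_⟩
        have h1 := delta_add_sub p K A i x (-x)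
        rw [add_neg_cancel, delta_zero_arg, zero_sub] at h1
        have := add_mem (neg_mem hx) h1
        have h' : -a - delta K A p i (-x) = -(a - delta K A p i x) + (-delta K A p i x - delta K A p i (-x)) := by abel
        exact (SetLike.mem_coe).mpr (h' ▸ this)

variable [CharP K p]

include K in
lemma cast_p : (p : A) = 0 := by
  rw [← map_natCast (algebraMap K A), CharP.cast_eq_zero, map_zero]

lemma pow_smul_delta {i j : ℕ} (h : j < i) (x y : A) :
    x ^ p ^ i • delta K A p j y = delta K A p j (x ^ p ^ (i - j) * y) := by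
  have hD : KaehlerDifferential.D K A (x ^ p ^ (i - j)) = 0 := by
    rw [Derivation.leibniz_pow, ← Nat.cast_smul_eq_nsmul A, Nat.cast_pow, cast_p p K A, zero_pow (by omega), zero_smul]
  simp only [delta, Derivation.leibniz, hD, smul_zero, add_zero, smul_smul, mul_pow]
  congr 1
  have hq : 1 ≤ p ^ j := Nat.one_le_pow _ _ hp.out.pos
  have hs : p ^ i = p ^ (i - j) * (p ^ j - 1) + p ^ (i - j) := by
    rw [← Nat.mul_succ, Nat.succ_eq_add_one, Nat.sub_add_cancel hq, ← pow_add, Nat.sub_add_cancel h.le]
  rw [← pow_mul, hs, pow_add]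
  ring

theorem pow_smul_mem {i : ℕ} (x : A) {ω : Ω[A⁄K]} (hω : ω ∈ grp p K A i) :
    x ^ p ^ i • ω ∈ grp p K A i := by
  induction hω using AddSubgroup.closure_induction with
  | mem ω hω =>
    obtain ⟨j, hj, y, rfl⟩ := Set.mem_iUnion₂.mp hω
    rw [pow_smul_delta p K A (Finset.mem_range.mp hj)]
    exact delta_mem p K A (Finset.mem_range.mp hj) _
  | zero => rw [smul_zero]; exact zero_mem _
  | add a b _ _ ha hb => rw [smul_add]; exact add_mem ha hb
  | neg a _ ha => rw [smul_neg]; exact neg_mem ha

theorem smul_mem [PerfectRing K p] {i : ℕ} (c : K) {ω : Ω[A⁄K]} (hω : ω ∈ grp p K A i) :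
    c • ω ∈ grp p K A i := by
  induction hω using AddSubgroup.closure_induction with
  | mem ω hω =>
    obtain ⟨j, hj, y, rfl⟩ := Set.mem_iUnion₂.mp hω
    obtain ⟨d, hd⟩ := (bijective_iterateFrobenius K p j).2 c
    rw [iterateFrobenius_def] at hd
    have : c • delta K A p j y = delta K A p j (d • y) := by
      obtain ⟨m, hm⟩ : ∃ m, p ^ j = m + 1 := ⟨p ^ j - 1, (Nat.sub_add_cancel (Nat.one_le_pow _ _ hp.out.pos)).symm⟩
      simp only [delta, Derivation.map_smul, smul_pow, ← hd, hm, Nat.add_sub_cancel, pow_succ]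
      rw [smul_assoc, smul_comm (y ^ m) d, mul_smul]
    rw [this]
    exact delta_mem p K A (Finset.mem_range.mp hj) _
  | zero => rw [smul_zero]; exact zero_mem _
  | add a b _ _ ha hb => rw [smul_add]; exact add_mem ha hb
  | neg a _ ha => rw [smul_neg]; exact neg_mem ha

end Groth.Agent.H23.PDiff
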