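import Groth.Agent.H23.NisGen
import Groth.Agent.Lib.DR.FlatBC
import Mathlib.RingTheory.Flat.FaithfullyFlat.Basic
import Groth.Agent.Lib.Pure.ProjDescent

/-!
# A uniform bound on the global size of a locally bounded perfect complex
-/

universe u

open CategoryTheory CategoryTheory.Limits CategoryTheory.Pretriangulated TensorProduct
open Groth.Agent.Lib.DR Groth.Agent.Lib.DR.Basic
open W4c5algebraiztannaka

attribute [local instance] HasDerivedCategory.standard

set_option backward.isDefEq.respectTransparency false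

namespace Groth.Agent.H23.SizeGlob

variable {R : Type u} [CommRing R]

/-- `X` is a quotient of the free module of rank `r`. -/
def Gen (X : ModuleCat.{u} R) (r : ℕ) : Prop :=
  ∃ g : (Fin r → R) →ₗ[R] X, Function.Surjective g

theorem Gen.of_surj {X Y : ModuleCat.{u} R} {r : ℕ} (h : Gen X r) (f : X →ₗ[R] Y)
    (hf : Function.Surjective f) : Gen Y r :=
  ⟨f ∘ₗ h.choose, hf.comp h.choose_spec⟩

theorem Gen.of_epi {X Y : ModuleCat.{u} R} {r : ℕ} (h : Gen X r) (f : X ⟶ Y) [Epi f] : Gen Y r :=
  h.of_surj f.hom ((ModuleCat.epi_iff_surjective f).mp inferInstance)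

theorem Gen.mono {X : ModuleCat.{u} R} {r r' : ℕ} (h : Gen X r) (hr : r ≤ r') : Gen X r' := by
  obtain ⟨g, hg⟩ := h
  refine ⟨g ∘ₗ LinearMap.funLeft R R (Fin.castLE hr), hg.comp fun x => ?_⟩
  exact (LinearMap.funLeft_surjective_of_injective R R _ (Fin.castLE_injective hr)) x

theorem Gen.zero {X : ModuleCat.{u} R} (h : IsZero X) (r : ℕ) : Gen X r :=
  ⟨0, fun x => ⟨0, (ModuleCat.subsingleton_of_isZero h).elim _ _⟩⟩

theorem Gen.finite {X : ModuleCat.{u} R} {r : ℕ} (h : Gen X r) : Module.Finite R X :=
  Module.Finite.of_surjective _ h.choose_spec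

theorem Gen.of_decomp {A B X : ModuleCat.{u} R} {a b : ℕ} (hA : Gen A a) (hB : Gen B b)
    (s : X ⟶ A) (t : X ⟶ B) (i : A ⟶ X) (j : B ⟶ X) (h : s ≫ i + t ≫ j = 𝟙 X) :
    Gen X (a + b) := by
  obtain ⟨g, hg⟩ := hA
  obtain ⟨g', hg'⟩ := hB
  refine ⟨(i.hom ∘ₗ g).coprod (j.hom ∘ₗ g') ∘ₗ
    (LinearMap.funLeft R R (Fin.castAdd b)).prod (LinearMap.funLeft R R (Fin.natAdd a)), fun x => ?_⟩
  obtain ⟨u, hu⟩ := hg (s x)
  obtain ⟨v, hv⟩ := hg' (t x)
  refine ⟨Fin.append u v, ?_⟩
  have hu' : LinearMap.funLeft R R (Fin.castAdd b) (Fin.append u v) = u :=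
    funext fun k => Fin.append_left u v k
  have hv' : LinearMap.funLeft R R (Fin.natAdd a) (Fin.append u v) = v :=
    funext fun k => Fin.append_right u v k
  simp only [LinearMap.comp_apply, LinearMap.prod_apply, Function.prod_apply,
    LinearMap.coprod_apply, hu', hv', hu, hv]
  exact ConcreteCategory.congr_hom h x

theorem projective_of_decomp {A B X : ModuleCat.{u} R} (hA : Module.Projective R A)
    (hB : Module.Projective R B)
    (s : X ⟶ A) (t : X ⟶ B) (i : A ⟶ X) (j : B ⟶ X) (h : s ≫ i + t ≫ j = 𝟙 X) :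
    Module.Projective R X :=
  Module.Projective.of_split (s.hom.prod t.hom) (i.hom.coprod j.hom)
    (LinearMap.ext fun x => ConcreteCategory.congr_hom h x)

theorem catProjective (X : ModuleCat.{u} R) [Module.Projective R X] : Projective X :=
  (IsProjective.iff_projective (R := R) X).mp inferInstance

theorem projective_of_isZero {X : ModuleCat.{u} R} (h : IsZero X) : Module.Projective R X :=
  haveI := ModuleCat.subsingleton_of_isZero h
  Module.Projective.of_free

/-! ### Cycles of a complex of projectives exact above a degree -/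

/-- Above the top cohomology, cycles of a complex of projectives split off. -/
theorem retraction (K : DRing.Cx R) (b d : ℤ) (hb : ∀ i, b < i → IsZero (K.X i))
    (hp : ∀ i, Module.Projective R (K.X i)) (hex : ∀ i, d < i → K.ExactAt i) :
    ∀ i, d ≤ i → Module.Projective R (K.cycles i) ∧
      ∃ r : K.X i ⟶ K.cycles i, K.iCycles i ≫ r = 𝟙 _ := by
  suffices h : ∀ (n : ℕ) i, d ≤ i → b + 1 - n ≤ i → Module.Projective R (K.cycles i) ∧
      ∃ r : K.X i ⟶ K.cycles i, K.iCycles i ≫ r = 𝟙 _ from
    fun i hi => h (b + 1 - i).toNat i hi (by omega)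
  intro n
  induction n with
  | zero =>
    intro i _ hi
    have hz : IsZero (K.X i) := hb i (by omega)
    have hz' : IsZero (K.cycles i) := hz.of_mono (K.iCycles i)
    exact ⟨projective_of_isZero hz', 0, hz'.eq_of_src _ _⟩
  | succ n ih =>
    intro i hdi hi
    by_cases hi' : b + 1 - n ≤ i
    · exact ih i hdi hi'
    obtain ⟨hproj, -⟩ := ih (i + 1) (by omega) (by omega)
    haveI := catProjective (K.cycles (i + 1))
    have : Epi (K.toCycles i (i + 1)) :=
      Preadditive.epi_of_isZero_cokernel' _ (K.homologyIsCokernel i (i + 1) (by simp))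
        (hex (i + 1) (by omega)).isZero_homology
    let σ : K.cycles (i + 1) ⟶ K.X i := Projective.factorThru (𝟙 _) (K.toCycles i (i + 1))
    have hσ : σ ≫ K.toCycles i (i + 1) = 𝟙 _ := Projective.factorThru_comp _ _
    have hd : (𝟙 (K.X i) - K.toCycles i (i + 1) ≫ σ) ≫ K.d i (i + 1) = 0 := by
      rw [Preadditive.sub_comp, Category.id_comp, ← K.toCycles_i, Category.assoc,
        reassoc_of% hσ, sub_self]
    have hzero : K.iCycles i ≫ K.toCycles i (i + 1) = 0 := by
      rw [← cancel_mono (K.iCycles (i + 1)), Category.assoc, K.toCycles_i, K.iCycles_d, zero_comp]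
    let r : K.X i ⟶ K.cycles i := K.liftCycles _ (i + 1) (by simp) hd
    have hr : K.iCycles i ≫ r = 𝟙 _ := by
      rw [← cancel_mono (K.iCycles i), Category.assoc, K.liftCycles_i, Category.id_comp,
        Preadditive.comp_sub, Category.comp_id, reassoc_of% hzero, zero_comp, sub_zero]
    haveI := hp i
    exact ⟨Module.Projective.of_split (K.iCycles i).hom r.hom (congrArg ModuleCat.Hom.hom hr), r, hr⟩

theorem gen_cycles {K : DRing.Cx R} {b d : ℤ} (hb : ∀ i, b < i → IsZero (K.X i))
    (hp : ∀ i, Module.Projective R (K.X i)) (hex : ∀ i, d < i → K.ExactAt i) {r : ℕ}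
    (hg : Gen (K.X d) r) : Gen (K.cycles d) r := by
  obtain ⟨-, ρ, hρ⟩ := retraction K b d hb hp hex d le_rfl
  exact hg.of_surj ρ.hom fun x => ⟨K.iCycles d x, ConcreteCategory.congr_hom hρ x⟩

theorem gen_homology {K : DRing.Cx R} {b d : ℤ} (hb : ∀ i, b < i → IsZero (K.X i))
    (hp : ∀ i, Module.Projective R (K.X i)) (hex : ∀ i, d < i → K.ExactAt i) {r : ℕ}
    (hg : Gen (K.X d) r) : Gen (K.homology d) r :=
  (gen_cycles hb hp hex hg).of_epi (K.homologyπ d)

/-- The lowest cohomology group of a complex of projectives concentrated there is projective. -/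
theorem projective_homology_bottom {K : DRing.Cx R} {b d : ℤ} (hb : ∀ i, b < i → IsZero (K.X i))
    (hp : ∀ i, Module.Projective R (K.X i)) (hex : ∀ i, d < i → K.ExactAt i)
    (hlow : IsZero (K.X (d - 1))) : Module.Projective R (K.homology d) := by
  have := K.isIso_homologyπ (d - 1) d (by simp) (hlow.eq_of_src _ _)
  haveI := (retraction K b d hb hp hex d le_rfl).1
  exact Module.Projective.of_equiv (asIso (K.homologyπ d)).toLinearEquiv

/-! ### Complexes of bounded size -/

/-- Terms are projective, generated by `r` elements and vanish outside `[a, b]`. -/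
structure Small (P : DRing.Cx R) (a b : ℤ) (r : ℕ) : Prop where
  vanish : DRing.VanishesOutside P a b
  proj : ∀ i, Module.Projective R (P.X i)
  gen : ∀ i, Gen (P.X i) r

theorem Small.isKProjective {P : DRing.Cx R} {a b : ℤ} {r : ℕ} (h : Small P a b r) :
    P.IsKProjective := by
  have : P.IsStrictlyLE b := (P.isStrictlyLE_iff b).2 fun i hi => h.vanish i (Or.inr hi)
  have : ∀ n, Projective (P.X n) := fun n => by
    haveI := h.proj n
    exact catProjective _
  exact CochainComplex.isKProjective_of_projective P b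

theorem small_single (d : ℤ) (M : ModuleCat.{u} R) (hM : Module.Projective R M) {r : ℕ}
    (hg : Gen M r) : Small ((HomologicalComplex.single _ (ComplexShape.up ℤ) d).obj M) d d r := by
  refine ⟨fun i hi => HomologicalComplex.isZero_single_obj_X _ _ _ _ (by omega), fun i => ?_,
    fun i => ?_⟩
  all_goals by_cases hi : i = d
  · subst hi
    exact Module.Projective.of_equiv (HomologicalComplex.singleObjXSelf _ _ M).symm.toLinearEquiv
  · exact projective_of_isZero (HomologicalComplex.isZero_single_obj_X _ _ _ _ hi)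
  · subst hi
    exact hg.of_epi (HomologicalComplex.singleObjXSelf _ _ M).inv
  · exact Gen.zero (HomologicalComplex.isZero_single_obj_X _ _ _ _ hi) _

theorem small_cone {S K : DRing.Cx R} (f : S ⟶ K) {a b a' b' : ℤ} {r r' : ℕ}
    (hS : Small S a' b' r') (hK : Small K a b r) (ha : a ≤ a' - 1) (hb : b' - 1 ≤ b) :
    Small (CochainComplex.mappingCone f) a b (r' + r) := by
  refine ⟨fun i hi => ?_, fun i => ?_, fun i => ?_⟩
  · rw [IsZero.iff_id_eq_zero, ← CochainComplex.mappingCone.id_X f i (i + 1) rfl,
      (hS.vanish (i + 1) (by omega)).eq_of_tgt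
        ((CochainComplex.mappingCone.fst f).1.v i (i + 1) rfl) 0,
      (hK.vanish i hi).eq_of_tgt
        ((CochainComplex.mappingCone.snd f).v i i (add_zero i)) 0]
    simp
  · exact projective_of_decomp (hS.proj _) (hK.proj _) _ _ _ _
      (CochainComplex.mappingCone.id_X f i (i + 1) rfl)
  · exact (hS.gen _).of_decomp (hK.gen _) _ _ _ _
      (CochainComplex.mappingCone.id_X f i (i + 1) rfl)

/-- The cocone of a map from a small complex to a small single degree complex. -/
theorem small_cocone {P Y : DRing.Cx R} (w : P ⟶ Y) {a d : ℤ} {r : ℕ}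
    (hP : Small P a (d - 1) r) (hY : Small Y (d - 1) (d - 1) r) (had : a ≤ d) :
    Small (CochainComplex.mappingCocone w) a d r := by
  refine ⟨fun i hi => ?_, fun i => ?_, fun i => ?_⟩
  · rw [IsZero.iff_id_eq_zero, ← CochainComplex.mappingCocone.id_X w i (i + -1) rfl,
      (hP.vanish i (by omega)).eq_of_tgt ((CochainComplex.mappingCocone.fst w).f i) 0,
      (hY.vanish (i + -1) (by omega)).eq_of_tgt
        ((CochainComplex.mappingCocone.snd w).v i (i + -1) rfl) 0]
    simp
  · exact projective_of_decomp (hP.proj _) (hY.proj _) _ _ _ _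
      (CochainComplex.mappingCocone.id_X w i (i + -1) rfl)
  · by_cases hi : d ≤ i
    · refine ((Gen.zero (hP.vanish i (Or.inr (by omega))) 0).of_decomp (hY.gen _) _ _ _ _
        (CochainComplex.mappingCocone.id_X w i (i + -1) rfl)).mono ?_
      omega
    · refine ((hP.gen i).of_decomp (Gen.zero (hY.vanish (i + -1) (Or.inl (by omega))) 0) _ _ _ _
        (CochainComplex.mappingCocone.id_X w i (i + -1) rfl)).mono ?_
      omega

/-! ### Derived category facts -/

theorem nonempty_homology_iso {K L : DRing.Cx R} (e : DRing.toD K ≅ DRing.toD L) (i : ℤ) :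
    Nonempty (K.homology i ≅ L.homology i) :=
  ⟨(homologyQIso K i).symm ≪≫ (DerivedCategory.homologyFunctor _ i).mapIso e ≪≫ homologyQIso L i⟩

theorem exactAt_of_iso {K L : DRing.Cx R} (e : DRing.toD K ≅ DRing.toD L) {i : ℤ}
    (h : L.ExactAt i) : K.ExactAt i := by
  obtain ⟨j⟩ := nonempty_homology_iso e i
  exact (K.exactAt_iff_isZero_homology i).mpr (h.isZero_homology.of_iso j)

theorem cone_iso {S S' K K' : DRing.Cx R} (f : S ⟶ K) (f' : S' ⟶ K')
    (e₁ : DRing.toD S ≅ DRing.toD S') (e₂ : DRing.toD K ≅ DRing.toD K')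
    (comm : DerivedCategory.Q.map f ≫ e₂.hom = e₁.hom ≫ DerivedCategory.Q.map f') :
    Nonempty (DRing.toD (CochainComplex.mappingCone f) ≅
      DRing.toD (CochainComplex.mappingCone f')) :=
  ⟨Triangle.π₃.mapIso (isoTriangleOfIso₁₂ _ _
    (DerivedCategory.mappingCone_triangle_distinguished f)
    (DerivedCategory.mappingCone_triangle_distinguished f') e₁ e₂ comm)⟩

theorem exists_cocone_iso {S K P : DRing.Cx R} [P.IsKProjective] (f : S ⟶ K)
    (e : DRing.toD P ≅ DRing.toD (CochainComplex.mappingCone f)) :
    ∃ w : P ⟶ S⟦(1 : ℤ)⟧, Nonempty (DRing.toD (CochainComplex.mappingCocone w) ≅ DRing.toD K) := by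
  let T := DerivedCategory.Q.mapTriangle.obj (CochainComplex.mappingCone.triangle f)
  have hT : T ∈ distTriang _ := DerivedCategory.mappingCone_triangle_distinguished f
  let c := (DerivedCategory.Q.commShiftIso (1 : ℤ)).app S
  obtain ⟨w, hw⟩ := exists_Q_map_eq (E := P) (K := S⟦(1 : ℤ)⟧) (e.hom ≫ T.mor₃ ≫ c.inv)
  let U := DerivedCategory.Q.mapTriangle.obj (CochainComplex.mappingCocone.triangle w)
  have hU : U ∈ distTriang _ := DerivedCategory.mappingCocone_triangle_distinguished w
  let i := isoTriangleOfIso₁₂ T.rotate.rotate U.rotate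
    (rot_of_distTriang _ (rot_of_distTriang _ hT)) (rot_of_distTriang _ hU) e.symm c.symm
    (by
      change T.mor₃ ≫ c.inv = e.inv ≫ DerivedCategory.Q.map w
      rw [hw, Iso.inv_hom_id_assoc])
  exact ⟨w, ⟨((shiftFunctor (Dual.D R) (1 : ℤ)).preimageIso (Triangle.π₃.mapIso i)).symm⟩⟩

theorem exactAt_cone {S K : DRing.Cx R} (f : S ⟶ K) (i : ℤ)
    (hS : S.ExactAt (i + 1)) (hf : Epi (HomologicalComplex.homologyMap f i)) :
    (CochainComplex.mappingCone f).ExactAt i := by
  let T := DerivedCategory.Q.mapTriangle.obj (CochainComplex.mappingCone.triangle f)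
  have hT : T ∈ distTriang _ := DerivedCategory.mappingCone_triangle_distinguished f
  have h1 : IsZero ((DerivedCategory.homologyFunctor _ (i + 1)).obj T.obj₁) :=
    hS.isZero_homology.of_iso (homologyQIso S (i + 1))
  have h2 : Epi ((DerivedCategory.homologyFunctor _ i).map T.mor₁) := by
    change Epi ((DerivedCategory.homologyFunctor _ i).map (DerivedCategory.Q.map f))
    have := DerivedCategory.homologyFunctorFactors_hom_naturality f i
    rw [show (DerivedCategory.homologyFunctor _ i).map (DerivedCategory.Q.map f) =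
      (homologyQIso S i).hom ≫ HomologicalComplex.homologyMap f i ≫ (homologyQIso K i).inv by
        rw [← Category.assoc, Iso.eq_comp_inv]; exact this]
    infer_instance
  have h3 : (DerivedCategory.homologyFunctor _ i).map T.mor₂ = 0 :=
    (DerivedCategory.HomologySequence.epi_homologyMap_mor₁_iff T hT i).mp h2
  have h4 := (DerivedCategory.HomologySequence.exact₃ T hT i (i + 1) rfl).isZero_X₂ h3
    (h1.eq_of_tgt _ _)
  exact (HomologicalComplex.exactAt_iff_isZero_homology _ i).mpr
    (h4.of_iso (homologyQIso (CochainComplex.mappingCone f) i).symm)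

/-- A map from a single degree realising a map onto cohomology. -/
theorem exists_map_single (K : DRing.Cx R) (d : ℤ) (M : ModuleCat.{u} R)
    [Module.Projective R M] (p : M ⟶ K.homology d) :
    ∃ f : (HomologicalComplex.single _ (ComplexShape.up ℤ) d).obj M ⟶ K,
      (HomologicalComplex.singleObjHomologySelfIso (ComplexShape.up ℤ) d M).inv ≫
        HomologicalComplex.homologyMap f d = p := by
  haveI := catProjective M
  let σ : M ⟶ K.cycles d := Projective.factorThru p (K.homologyπ d)
  let f := HomologicalComplex.mkHomFromSingle (c := ComplexShape.up ℤ) (σ ≫ K.iCycles d)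
    (fun k hk => by rw [Category.assoc, K.iCycles_d, comp_zero])
  refine ⟨f, ?_⟩
  have hcyc : (HomologicalComplex.singleObjCyclesSelfIso (ComplexShape.up ℤ) d M).inv ≫
      HomologicalComplex.cyclesMap f d = σ := by
    rw [← cancel_mono (K.iCycles d), Category.assoc, HomologicalComplex.cyclesMap_i,
      HomologicalComplex.singleObjCyclesSelfIso_inv_iCycles_assoc,
      HomologicalComplex.mkHomFromSingle_f, Iso.inv_hom_id_assoc]
  rw [← HomologicalComplex.singleObjCyclesSelfIso_inv_homologyπ_assoc,
    HomologicalComplex.homologyπ_naturality, reassoc_of% hcyc, Projective.factorThru_comp]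

/-! ### Base change -/

variable (B : Type u) [CommRing B] [Algebra R B]

/-- Base change of complexes. -/
noncomputable abbrev bc : DRing.Cx R ⥤ DRing.Cx B := bcCx (algebraMap R B)

theorem gen_extend {M : ModuleCat.{u} R} {r : ℕ} (h : Gen M r) :
    Gen ((ModuleCat.extendScalars.{u, u, u} (algebraMap R B)).obj M) r := by
  obtain ⟨g, hg⟩ := h
  let e := (FlatBC.extEquiv R B M).symm.toLinearMap
  refine ⟨e ∘ₗ g.baseChange B ∘ₗ (TensorProduct.piScalarRight R B B (Fin r)).symm.toLinearMap, ?_⟩
  exact (FlatBC.extEquiv R B M).symm.surjective.comp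
    ((LinearMap.baseChange_surjective B hg).comp (LinearEquiv.surjective _))

theorem projective_extend {M : ModuleCat.{u} R} (h : Module.Projective R M) :
    Module.Projective B ((ModuleCat.extendScalars.{u, u, u} (algebraMap R B)).obj M) :=
  Module.Projective.of_equiv (FlatBC.extEquiv R B M).symm

theorem small_bc {P : DRing.Cx R} {a b : ℤ} {r : ℕ} (h : Small P a b r) :
    Small ((bc B).obj P) a b r :=
  ⟨fun i hi => (ModuleCat.extendScalars.{u, u, u} (algebraMap R B)).map_isZero (h.vanish i hi),
    fun i => projective_extend B (h.proj i), fun i => gen_extend B (h.gen i)⟩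

theorem nonempty_bc_homology [Module.Flat R B] (K : DRing.Cx R) (i : ℤ) :
    Nonempty (((bc B).obj K).homology i ≃ₗ[B] B ⊗[R] K.homology i) := by
  haveI := Functor.preservesHomologyOfExact (ModuleCat.extendScalars.{u, u, u} (algebraMap R B))
  exact ⟨((K.sc i).mapHomologyIso (ModuleCat.extendScalars.{u, u, u} (algebraMap R B))).toLinearEquiv
    ≪≫ₗ FlatBC.extEquiv R B (K.homology i)⟩

theorem exactAt_of_bc [Module.FaithfullyFlat R B] (K : DRing.Cx R) (i : ℤ)
    (h : ((bc B).obj K).ExactAt i) : K.ExactAt i := by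
  obtain ⟨e⟩ := nonempty_bc_homology B K i
  have hs := ModuleCat.subsingleton_of_isZero h.isZero_homology
  have : Subsingleton (B ⊗[R] K.homology i) := e.symm.injective.subsingleton
  have := Module.FaithfullyFlat.lTensor_reflects_triviality R B (K.homology i)
  exact (K.exactAt_iff_isZero_homology i).mpr (ModuleCat.isZero_of_subsingleton _)

/-- The bound. -/
def bd (m : ℕ) (n j : ℕ) : ℕ := n * (1 + m) ^ j * m

theorem main {m : ℕ}
    (hcov : IsNisCoverLen (AlgebraicGeometry.Spec.map (CommRingCat.ofHom (algebraMap R B))) m)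
    (A N : ℤ) : ∀ (j n : ℕ) (K : DRing.Cx R) (a b : ℤ) (r : ℕ) (Q : DRing.Cx B),
      A + j ≤ N → Small K a b r → Small Q A N n →
      Nonempty (DRing.toD Q ≅ DRing.toD ((bc B).obj K)) →
      (∀ i, A + j < i → K.ExactAt i) →
      ∃ P : DRing.Cx R, Small P A (A + j) (bd m n j) ∧ Nonempty (DRing.toD P ≅ DRing.toD K) := by
  haveI := NisGen.faithfullyFlat hcov
  intro j
  induction j with
  | zero =>
    rintro n K a b r Q hAN hK hQ ⟨eQ⟩ hex
    simp only [Nat.cast_zero, add_zero] at hex ⊢
    have hexQ : ∀ i, A < i → Q.ExactAt i := fun i hi =>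
      exactAt_of_iso eQ ((HomologicalComplex.exactAt_iff_isZero_homology _ i).mpr (by
        haveI := Functor.preservesHomologyOfExact
          (ModuleCat.extendScalars.{u, u, u} (algebraMap R B))
        exact IsZero.of_iso ((ModuleCat.extendScalars.{u, u, u} (algebraMap R B)).map_isZero
          (hex i hi).isZero_homology)
          ((K.sc i).mapHomologyIso (ModuleCat.extendScalars.{u, u, u} (algebraMap R B)))))
    let M := K.homology A
    obtain ⟨e₁⟩ := nonempty_bc_homology B K A
    obtain ⟨e₂⟩ := nonempty_homology_iso eQ A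
    let e : Q.homology A ≃ₗ[B] B ⊗[R] M := e₂.toLinearEquiv ≪≫ₗ e₁
    haveI : Module.Projective B (B ⊗[R] M) :=
      haveI := projective_homology_bottom (fun i hi => hQ.vanish i (Or.inr hi)) hQ.proj hexQ
        (hQ.vanish _ (Or.inl (by omega)))
      Module.Projective.of_equiv e
    obtain ⟨g, hg⟩ := gen_homology (fun i hi => hQ.vanish i (Or.inr hi)) hQ.proj hexQ (hQ.gen A)
    haveI : Module.Finite R M :=
      (gen_homology (fun i hi => hK.vanish i (Or.inr hi)) hK.proj hex (hK.gen A)).finite
    obtain ⟨s, hs⟩ := NisGen.gen_of_nisCover hcov (e.toLinearMap ∘ₗ g) (e.surjective.comp hg)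
    haveI : Module.Projective R M := Groth.Agent.Lib.Pure.ProjDescent.projective_of_faithfullyFlat (S := B)
    have hgM : Gen M (n * m) := ⟨Fintype.linearCombination R s, by
      rw [← LinearMap.range_eq_top, Fintype.range_linearCombination, hs]⟩
    have hS := small_single A M inferInstance hgM
    obtain ⟨f, hf⟩ := exists_map_single K A M (𝟙 M)
    refine ⟨_, ⟨hS.vanish, hS.proj, fun i => (hS.gen i).mono (by simp [bd])⟩, ?_⟩
    have : QuasiIso f := ⟨fun i => by
      rw [quasiIsoAt_iff_isIso_homologyMap]
      by_cases hi : i = A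
      · subst hi
        have : HomologicalComplex.homologyMap f i =
            (HomologicalComplex.singleObjHomologySelfIso (ComplexShape.up ℤ) i M).hom := by
          rw [← cancel_epi (HomologicalComplex.singleObjHomologySelfIso (ComplexShape.up ℤ) i M).inv,
            hf, Iso.inv_hom_id]
        rw [this]
        infer_instance
      · refine ⟨0, (HomologicalComplex.isZero_single_obj_homology _ _ _ _ hi).eq_of_src _ _, ?_⟩
        have hz : IsZero (K.homology i) := by
          rcases lt_or_gt_of_ne hi with h | h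
          · exact (exactAt_of_bc B K i (exactAt_of_iso eQ.symm
              (ShortComplex.exact_of_isZero_X₂ _ (hQ.vanish i (Or.inl h))))).isZero_homology
          · exact (hex i h).isZero_homology
        exact hz.eq_of_src _ _⟩
    exact ⟨asIso (DerivedCategory.Q.map f)⟩
  | succ j ih =>
    rintro n K a b r Q hAN hK hQ ⟨eQ⟩ hex
    have hexQ : ∀ i, A + ((j + 1 : ℕ) : ℤ) < i → Q.ExactAt i := fun i hi =>
      exactAt_of_iso eQ ((HomologicalComplex.exactAt_iff_isZero_homology _ i).mpr (by
        haveI := Functor.preservesHomologyOfExact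
          (ModuleCat.extendScalars.{u, u, u} (algebraMap R B))
        exact IsZero.of_iso ((ModuleCat.extendScalars.{u, u, u} (algebraMap R B)).map_isZero
          (hex i hi).isZero_homology)
          ((K.sc i).mapHomologyIso (ModuleCat.extendScalars.{u, u, u} (algebraMap R B)))))
    set d : ℤ := A + ((j + 1 : ℕ) : ℤ) with hd
    obtain ⟨e₁⟩ := nonempty_bc_homology B K d
    obtain ⟨e₂⟩ := nonempty_homology_iso eQ d
    let e : Q.homology d ≃ₗ[B] B ⊗[R] (K.homology d) := e₂.toLinearEquiv ≪≫ₗ e₁
    obtain ⟨g, hg⟩ := gen_homology (fun i hi => hQ.vanish i (Or.inr hi)) hQ.proj hexQ (hQ.gen d)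
    haveI : Module.Finite R (K.homology d) :=
      (gen_homology (fun i hi => hK.vanish i (Or.inr hi)) hK.proj hex (hK.gen d)).finite
    obtain ⟨s, hs⟩ := NisGen.gen_of_nisCover hcov (e.toLinearMap ∘ₗ g) (e.surjective.comp hg)
    let M := ModuleCat.of R (Fin (n * m) → R)
    let p : M ⟶ K.homology d := ModuleCat.ofHom (Fintype.linearCombination R s)
    haveI : Epi p := (ModuleCat.epi_iff_surjective p).mpr (LinearMap.range_eq_top.mp
      ((Fintype.range_linearCombination R s).trans hs))
    haveI : Module.Projective R M := Module.Projective.of_free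
    obtain ⟨f, hf⟩ := exists_map_single K d M p
    let S : DRing.Cx R := (HomologicalComplex.single _ (ComplexShape.up ℤ) d).obj M
    have hS : Small S d d (n * m) := small_single d M inferInstance ⟨LinearMap.id, Function.surjective_id⟩
    haveI := (small_bc B hS).isKProjective
    obtain ⟨w, hw⟩ := exists_Q_map_eq (E := (bc B).obj S) (K := Q)
      (DerivedCategory.Q.map ((bc B).map f) ≫ eQ.inv)
    obtain ⟨i₁⟩ := cone_iso w ((bc B).map f) (Iso.refl _) eQ
      (by rw [hw, Category.assoc, eQ.inv_hom_id, Category.comp_id, Iso.refl_hom, Category.id_comp])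
    let i₂ := DerivedCategory.Q.mapIso (CochainComplex.mappingCone.mapHomologicalComplexIso f
      (ModuleCat.extendScalars.{u, u, u} (algebraMap R B)))
    have hC : Small (CochainComplex.mappingCone f) (min a (d - 1)) (max b d) (n * m + r) :=
      small_cone f hS ⟨fun i hi => hK.vanish i (by omega), hK.proj, hK.gen⟩ (min_le_right _ _)
        (by omega)
    have hQ' : Small (CochainComplex.mappingCone w) A N (n * m + n) :=
      small_cone w (small_bc B hS) hQ (by omega) (by omega)
    have hexC : ∀ i, A + (j : ℤ) < i → (CochainComplex.mappingCone f).ExactAt i := by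
      intro i hi
      refine exactAt_cone f i (HomologicalComplex.exactAt_single_obj _ _ _ _ (by omega)) ?_
      by_cases hid : i = d
      · subst hid
        refine epi_of_epi_fac (f := (HomologicalComplex.singleObjHomologySelfIso
          (ComplexShape.up ℤ) d M).inv) (h := p) hf
      · refine ⟨fun {Z} g h _ => ?_⟩
        exact (hex i (by omega)).isZero_homology.eq_of_src _ _
    obtain ⟨P, hP, ⟨eP⟩⟩ := ih (n * m + n) _ _ _ _ (CochainComplex.mappingCone w) (by omega)
      hC hQ' ⟨i₁ ≪≫ i₂.symm⟩ hexC
    haveI := hP.isKProjective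
    obtain ⟨v, hv⟩ := exists_cocone_iso f eP
    have hG : bd m (n * m + n) j = bd m n (j + 1) := by simp only [bd]; ring
    have hnm : n * m ≤ bd m n (j + 1) := by
      simp only [bd]
      exact Nat.mul_le_mul_right m (Nat.le_mul_of_pos_right n (by positivity))
    have hY : Small (S⟦(1 : ℤ)⟧) (d - 1) (d - 1) (bd m n (j + 1)) :=
      ⟨fun i hi => (hS.vanish (i + 1) (by omega)).of_iso (S.shiftFunctorObjXIso 1 i (i + 1) rfl),
        fun i => haveI := hS.proj (i + 1)
          Module.Projective.of_equiv (S.shiftFunctorObjXIso 1 i (i + 1) rfl).symm.toLinearEquiv,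
        fun i => ((hS.gen (i + 1)).of_epi (S.shiftFunctorObjXIso 1 i (i + 1) rfl).inv).mono hnm⟩
    refine ⟨_, small_cocone v (a := A) (d := d) ?_ hY (by omega), hv⟩
    exact ⟨fun i hi => hP.vanish i (by omega), hP.proj, fun i => hG ▸ hP.gen i⟩

end Groth.Agent.H23.SizeGlob
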