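import Mathlib.NumberTheory.NumberField.InfiniteAdeleRing
import Mathlib.NumberTheory.NumberField.CanonicalEmbedding.ConvexBody
import Mathlib.RingTheory.DedekindDomain.AdicValuation
import Mathlib.RingTheory.DedekindDomain.Ideal.Lemmas
import Mathlib.RingTheory.Ideal.Norm.AbsNorm
import Mathlib.NumberTheory.NumberField.Basic
import Mathlib.RingTheory.DedekindDomain.Factorization

/-!
Strong approximation for the additive group of a number field, off one finite place.
-/

open NumberField IsDedekindDomain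
open scoped NumberField nonZeroDivisors

namespace Groth.Agent.H23.StrongApprox

universe u
variable (k : Type u) [Field k] [NumberField k]

local notation "Pl" => HeightOneSpectrum (𝓞 k)

variable {k}

lemma norm_algebraMap_completion (w : InfinitePlace k) (q : k) :
    ‖algebraMap k w.Completion q‖ = w q := by
  rw [InfinitePlace.Completion.algebraMap_apply]
  exact InfinitePlace.Completion.norm_coe w (WithAbs.toAbs w.1 q)

lemma valued_algebraMap (v : Pl) (x : k) :
    Valued.v (algebraMap k (v.adicCompletion k) x) = v.valuation k x :=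
  v.valuedAdicCompletion_eq_valuation' x

/-- A neighbourhood of a point of a completion contains all small translates. -/
lemma exists_intVal_nhd (v : Pl) {U : Set (v.adicCompletion k)} (hU : IsOpen U)
    {c : v.adicCompletion k} (hc : c ∈ U) :
    ∃ r : 𝓞 k, r ≠ 0 ∧ ∀ y : v.adicCompletion k,
      Valued.v y ≤ v.valuation k (algebraMap (𝓞 k) k r) → c + y ∈ U := by
  obtain ⟨γ, hγ⟩ := Valued.mem_nhds.1 (hU.mem_nhds hc)
  obtain ⟨x, hx⟩ := MonoidWithZeroHom.ValueGroup₀.restrict₀_surjective
    (.ofClass (Valued.v : Valuation (v.adicCompletion k) _)) γ.1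
  have hx0 : Valued.v x ≠ 0 := by
    intro h
    apply γ.ne_zero
    rw [← hx, MonoidWithZeroHom.ValueGroup₀.restrict₀_eq_zero_iff]
    exact h
  obtain ⟨π, hπ⟩ := v.intValuation_exists_uniformizer
  have hπ0 : π ≠ 0 := by rintro rfl; simp at hπ; exact WithZero.exp_ne_zero hπ.symm
  obtain ⟨m, hm⟩ : ∃ m : ℕ, (v.intValuation π) ^ m < Valued.v x := by
    obtain ⟨z, hz⟩ := WithZero.ne_zero_iff_exists.1 hx0
    refine ⟨(1 - z.toAdd).toNat, ?_⟩
    rw [hπ, ← WithZero.exp_nsmul, ← hz]
    show WithZero.exp _ < WithZero.exp z.toAdd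
    rw [WithZero.exp_lt_exp]
    simp
    omega
  refine ⟨π ^ m, pow_ne_zero _ hπ0, fun y hy => hγ ?_⟩
  rw [HeightOneSpectrum.valuation_of_algebraMap, map_pow] at hy
  rw [Set.mem_setOf_eq, add_sub_cancel_left, ← hx]
  exact (Valuation.restrict_lt_iff _).2 (hy.trans_lt hm)

/-- Simultaneous approximation at finitely many finite places by an element which is integral elsewhere. -/
lemma exists_finite_approx (S : Finset Pl) (U : ∀ v : Pl, Set (v.adicCompletion k))
    (hU : ∀ v ∈ S, IsOpen (U v) ∧ (U v).Nonempty) :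
    ∃ (b : k) (N : 𝓞 k), N ≠ 0 ∧ (∀ v ∉ S, v.valuation k b ≤ 1) ∧
      ∀ v ∈ S, ∀ y : k, v.valuation k y ≤ v.valuation k (algebraMap (𝓞 k) k N) →
        algebraMap k (v.adicCompletion k) (b + y) ∈ U v := by
  classical
  have hc : ∀ v : Pl, ∃ c : k, v ∈ S → algebraMap k (v.adicCompletion k) c ∈ U v := by
    intro v
    by_cases hv : v ∈ S
    · obtain ⟨c, hc⟩ := (HeightOneSpectrum.denseRange_algebraMap (K := k) v).exists_mem_open
        (hU v hv).1 (hU v hv).2
      exact ⟨c, fun _ => hc⟩
    · exact ⟨0, fun h => absurd h hv⟩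
  choose c hc using hc
  have hr : ∀ v : Pl, ∃ r : 𝓞 k, r ≠ 0 ∧ (v ∈ S → ∀ y : v.adicCompletion k,
      Valued.v y ≤ v.valuation k (algebraMap (𝓞 k) k r) →
        algebraMap k (v.adicCompletion k) (c v) + y ∈ U v) := by
    intro v
    by_cases hv : v ∈ S
    · obtain ⟨r, h0, hr⟩ := exists_intVal_nhd v (hU v hv).1 (hc v hv)
      exact ⟨r, h0, fun _ => hr⟩
    · exact ⟨1, one_ne_zero, fun h => absurd h hv⟩
  choose r hr0 hr using hr
  obtain ⟨⟨D, hD⟩, hDint⟩ := IsLocalization.exist_integer_multiples (𝓞 k)⁰ S c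
  have hD0 : D ≠ 0 := nonZeroDivisors.ne_zero hD
  choose! R hR using hDint
  let N : 𝓞 k := ∏ v ∈ S, r v
  have hN0 : N ≠ 0 := Finset.prod_ne_zero_iff.2 fun v _ => hr0 v
  have hNle : ∀ v ∈ S, v.valuation k (algebraMap (𝓞 k) k N) ≤ v.valuation k (algebraMap (𝓞 k) k (r v)) := by
    intro v hv
    simp only [N]
    rw [← Finset.mul_prod_erase _ _ hv, map_mul, map_mul]
    exact mul_le_of_le_one_right' (v.valuation_le_one _)
  -- congruence modulo `D * N`
  have hspan0 : Ideal.span {D * N} ≠ ⊥ := by simp [hD0, hN0]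
  have hfin : (S : Set Pl) ∪ {v : Pl | v.asIdeal ∣ Ideal.span {D * N}} |>.Finite :=
    S.finite_toSet.union (Ideal.finite_factors hspan0)
  let s : Finset Pl := hfin.toFinset
  obtain ⟨B, hB⟩ := IsDedekindDomain.exists_forall_sub_mem_ideal (s := s) (fun v : Pl => v.asIdeal)
    (fun v : Pl => (Associates.mk v.asIdeal).count (Associates.mk (Ideal.span {D * N})).factors)
    (fun v _ => v.prime) (fun v _ w _ h e => h (HeightOneSpectrum.ext e))
    (fun v => if (v : Pl) ∈ S then R v.1 else 0)
  have hBv : ∀ (v : Pl) (hv : v ∈ s), v.intValuation (B - if v ∈ S then R v else 0) ≤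
      v.intValuation (D * N) := by
    intro v hv
    have := (v.intValuation_le_pow_iff_mem _ _).2 (hB v hv)
    rw [v.intValuation_if_neg (mul_ne_zero hD0 hN0)]
    exact this
  have hDk : (algebraMap (𝓞 k) k D) ≠ 0 := by simpa using hD0
  refine ⟨algebraMap (𝓞 k) k B / algebraMap (𝓞 k) k D, N, hN0, fun v hv => ?_, fun v hv y hy => ?_⟩
  · rw [map_div₀, div_le_one₀ (zero_lt_iff.2 ((Valuation.ne_zero_iff _).2 hDk)),
      HeightOneSpectrum.valuation_of_algebraMap, HeightOneSpectrum.valuation_of_algebraMap]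
    by_cases hvs : v ∈ s
    · have := hBv v hvs
      rw [if_neg hv, sub_zero] at this
      refine this.trans ?_
      rw [map_mul]
      exact mul_le_of_le_one_right' (v.intValuation_le_one _)
    · have hnd : ¬ v.asIdeal ∣ Ideal.span {D * N} := by
        intro h
        exact hvs (hfin.mem_toFinset.2 (Or.inr h))
      have h1 : v.intValuation (D * N) = 1 :=
        le_antisymm (v.intValuation_le_one _) (not_lt.1 fun h => hnd ((v.intValuation_lt_one_iff_dvd _).1 h))
      rw [map_mul] at h1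
      calc v.intValuation B ≤ 1 := v.intValuation_le_one _
        _ = _ := h1.symm
        _ ≤ v.intValuation D := mul_le_of_le_one_right' (v.intValuation_le_one _)
  · have hvs : v ∈ s := hfin.mem_toFinset.2 (Or.inl hv)
    have := hBv v hvs
    rw [if_pos hv, map_mul] at this
    have hRv : algebraMap (𝓞 k) k (R v) = algebraMap (𝓞 k) k D * c v := by
      have := hR v hv
      simp only [Algebra.smul_def] at this
      exact this
    have h1 : v.valuation k (algebraMap (𝓞 k) k B / algebraMap (𝓞 k) k D - c v) ≤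
        v.valuation k (algebraMap (𝓞 k) k N) := by
      rw [show algebraMap (𝓞 k) k B / algebraMap (𝓞 k) k D - c v =
        algebraMap (𝓞 k) k (B - R v) / algebraMap (𝓞 k) k D by rw [map_sub, hRv]; field_simp,
        map_div₀, div_le_iff₀ (zero_lt_iff.2 ((Valuation.ne_zero_iff _).2 hDk))]
      simp only [HeightOneSpectrum.valuation_of_algebraMap]
      rwa [mul_comm]
    have key := hr v hv (algebraMap k (v.adicCompletion k)
      (algebraMap (𝓞 k) k B / algebraMap (𝓞 k) k D - c v + y)) (by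
        rw [valued_algebraMap]
        exact ((v.valuation k).map_add _ _).trans (max_le (h1.trans (hNle v hv)) (hy.trans (hNle v hv))))
    rw [← map_add] at key
    convert key using 2
    ring

/-- Approximation at all infinite places by an ideal with one denominator place. -/
lemma exists_infinite_approx (v₀ : Pl) (N : 𝓞 k) (hN : N ≠ 0)
    (t : (w : InfinitePlace k) → w.Completion) (ε : ℝ) (hε : 0 < ε) :
    ∃ y : k, (∀ w : InfinitePlace k, ‖t w - algebraMap k w.Completion y‖ < ε) ∧
      ∀ v : Pl, v ≠ v₀ → v.valuation k y ≤ v.valuation k (algebraMap (𝓞 k) k N) := by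
  classical
  let b := NumberField.RingOfIntegers.basis k
  let bq := NumberField.integralBasis k
  obtain ⟨C, hC0, hC⟩ : ∃ C : ℝ, 0 ≤ C ∧ ∀ q : k, ∃ a : 𝓞 k, ∀ w : InfinitePlace k,
      w (q - algebraMap (𝓞 k) k (N * a)) ≤ C := by
    let Nk : k := algebraMap (𝓞 k) k N
    have hNk : Nk ≠ 0 := by simpa [Nk] using hN
    refine ⟨∑ w : InfinitePlace k, ∑ i, w (Nk * algebraMap (𝓞 k) k (b i)),
      Finset.sum_nonneg fun w _ => Finset.sum_nonneg fun i _ => apply_nonneg _ _, fun q => ?_⟩
    let c := bq.repr (q / Nk)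
    refine ⟨∑ i, (⌊(c i : ℚ)⌋ : ℤ) • b i, fun w => ?_⟩
    have hq : q = ∑ i, (c i : k) * (Nk * algebraMap (𝓞 k) k (b i)) := by
      have := bq.sum_repr (q / Nk)
      simp only [bq, NumberField.integralBasis_apply, Rat.smul_def] at this
      calc q = Nk * (q / Nk) := by field_simp
        _ = _ := by rw [← this, Finset.mul_sum]; refine Finset.sum_congr rfl fun i _ => ?_; simp [c, bq]; ring
    have : q - algebraMap (𝓞 k) k (N * ∑ i, (⌊(c i : ℚ)⌋ : ℤ) • b i) =
        ∑ i, (((c i - ⌊(c i : ℚ)⌋ : ℚ)) : k) * (Nk * algebraMap (𝓞 k) k (b i)) := by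
      conv_lhs => rw [hq]
      rw [Finset.mul_sum, map_sum, ← Finset.sum_sub_distrib]
      refine Finset.sum_congr rfl fun i _ => ?_
      simp only [zsmul_eq_mul, map_mul, map_intCast, Rat.cast_sub, Rat.cast_intCast, Nk]
      ring
    rw [this]
    refine le_trans ?_ (Finset.single_le_sum
      (fun w _ => Finset.sum_nonneg fun i _ => apply_nonneg _ _) (Finset.mem_univ w))
    refine le_trans (w.1.sum_le _ _) (Finset.sum_le_sum fun i _ => ?_)
    rw [w.1.map_mul]
    refine mul_le_of_le_one_left (apply_nonneg _ _) ?_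
    rw [show w.1 = (w : InfinitePlace k).1 from rfl]
    have h1 := w.norm_embedding_eq (((c i - ⌊(c i : ℚ)⌋ : ℚ)) : k)
    rw [map_ratCast] at h1
    refine le_of_eq_of_le h1.symm ?_
    rw [Complex.norm_ratCast, abs_le]
    have h2 : (0 : ℚ) ≤ c i - ⌊(c i : ℚ)⌋ := sub_nonneg.2 (Int.floor_le _)
    have h3 : (c i : ℚ) - ⌊(c i : ℚ)⌋ ≤ 1 := by linarith [Int.lt_floor_add_one (c i : ℚ)]
    constructor
    · have : (0 : ℝ) ≤ ((c i - ⌊(c i : ℚ)⌋ : ℚ) : ℝ) := by exact_mod_cast h2
      linarith
    · exact_mod_cast h3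
  -- a small element
  let δ : ℝ := ε / (2 * (C + 1))
  have hδ : 0 < δ := by positivity
  obtain ⟨x, hx0, hxδ, hxv⟩ : ∃ x : k, x ≠ 0 ∧ (∀ w : InfinitePlace k, w x < δ) ∧
      ∀ v : Pl, v ≠ v₀ → v.valuation k x ≤ 1 := by
    let f : InfinitePlace k → NNReal := fun _ => δ.toNNReal
    have hf : ∀ w, f w ≠ 0 := fun w => (Real.toNNReal_pos.2 hδ).ne'
    let K0 : ENNReal := MeasureTheory.volume (ZSpan.fundamentalDomain (mixedEmbedding.latticeBasis k)) *
      2 ^ Module.finrank ℝ (mixedEmbedding.mixedSpace k)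
    have hpos : 0 < MeasureTheory.volume (mixedEmbedding.convexBodyLT k f) := by
      rw [mixedEmbedding.convexBodyLT_volume]
      exact pos_iff_ne_zero.2 (mul_ne_zero (by exact_mod_cast mixedEmbedding.convexBodyLTFactor_ne_zero k)
        (by exact_mod_cast Finset.prod_ne_zero_iff.2 fun w _ => pow_ne_zero _ (hf w)))
    have hK0 : K0 ≠ ⊤ := ENNReal.mul_ne_top (ZSpan.fundamentalDomain_isBounded _).measure_lt_top.ne
      (ENNReal.pow_ne_top ENNReal.ofNat_ne_top)
    have hq1 : 1 < Ideal.absNorm v₀.asIdeal := by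
      have h0 : Ideal.absNorm v₀.asIdeal ≠ 0 := by simpa [Ideal.absNorm_eq_zero_iff] using v₀.ne_bot
      have h1 : Ideal.absNorm v₀.asIdeal ≠ 1 := by
        simpa [Ideal.absNorm_eq_one_iff] using v₀.isPrime.ne_top
      omega
    let q : ℝ := ((Ideal.absNorm v₀.asIdeal : ℕ) : ℝ)⁻¹
    have hq : q < 1 := by
      simp only [q]; exact inv_lt_one_of_one_lt₀ (by exact_mod_cast hq1)
    have hq0 : 0 ≤ q := by simp only [q]; positivity
    obtain ⟨m, hm⟩ : ∃ m : ℕ, ENNReal.ofReal (q ^ m) * K0 < MeasureTheory.volume (mixedEmbedding.convexBodyLT k f) := by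
      have ht : Filter.Tendsto (fun m : ℕ => ENNReal.ofReal (q ^ m) * K0) Filter.atTop (nhds 0) := by
        have := ENNReal.Tendsto.mul_const (b := K0)
          (ENNReal.tendsto_ofReal (tendsto_pow_atTop_nhds_zero_of_lt_one hq0 hq)) (Or.inr hK0)
        simpa using this
      exact (ht.eventually (eventually_lt_nhds hpos)).exists
    have hI0 : ((v₀.asIdeal ^ m : Ideal (𝓞 k)) : FractionalIdeal (𝓞 k)⁰ k) ≠ 0 :=
      FractionalIdeal.coeIdeal_ne_zero.2 (pow_ne_zero _ v₀.ne_bot)
    obtain ⟨x, hxI, hx0, hxw⟩ := mixedEmbedding.exists_ne_zero_mem_ideal_lt k (f := f)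
      (Units.mk0 _ (inv_ne_zero hI0)) (by
        refine lt_of_le_of_lt (le_of_eq ?_) hm
        rw [mixedEmbedding.minkowskiBound, mixedEmbedding.volume_fundamentalDomain_fractionalIdealLatticeBasis,
          mul_assoc]
        congr 2
        simp [q, FractionalIdeal.coeIdeal_absNorm, inv_pow])
    refine ⟨x, hx0, fun w => by simpa [f, max_eq_left hδ.le] using hxw w, fun v hv => ?_⟩
    simp only [Units.val_mk0] at hxI
    obtain ⟨e, heI, hev⟩ : ∃ e ∈ v₀.asIdeal ^ m, e ∉ v.asIdeal := by
      by_contra h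
      push Not at h
      have h1 : v₀.asIdeal ≤ v.asIdeal := v.isPrime.le_of_pow_le h
      exact hv (HeightOneSpectrum.ext (v₀.isMaximal.eq_of_le v.isPrime.ne_top h1)).symm
    rw [FractionalIdeal.mem_inv_iff hI0] at hxI
    have := hxI _ (FractionalIdeal.mem_coeIdeal_of_mem _ heI)
    rw [FractionalIdeal.mem_one_iff] at this
    obtain ⟨z, hz⟩ := this
    have he1 : v.valuation k (algebraMap (𝓞 k) k e) = 1 :=
      le_antisymm (v.valuation_le_one e) (not_lt.1 fun h => hev ((v.valuation_lt_one_iff_mem e).1 h))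
    calc v.valuation k x = v.valuation k (x * algebraMap (𝓞 k) k e) := by rw [map_mul, he1, mul_one]
      _ = v.valuation k (algebraMap (𝓞 k) k z) := by rw [hz]
      _ ≤ 1 := v.valuation_le_one z
  -- approximate `t / x`
  obtain ⟨q, hq⟩ : ∃ q : k, ∀ w : InfinitePlace k,
      ‖t w / algebraMap k w.Completion x - algebraMap k w.Completion q‖ < 1 := by
    let s : Set (InfiniteAdeleRing k) :=
      {z | ∀ w, ‖t w / algebraMap k w.Completion x - z w‖ < 1}
    have hs : IsOpen s := by
      simp only [s, Set.setOf_forall]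
      exact isOpen_iInter_of_finite fun w =>
        isOpen_lt ((continuous_const.sub (continuous_apply w)).norm) continuous_const
    obtain ⟨q, hq⟩ := (InfiniteAdeleRing.denseRange_algebraMap k).exists_mem_open hs
      ⟨fun w => t w / algebraMap k w.Completion x, fun w => by simp⟩
    exact ⟨q, fun w => hq w⟩
  obtain ⟨a, ha⟩ := hC q
  refine ⟨x * algebraMap (𝓞 k) k (N * a), fun w => ?_, fun v hv => ?_⟩
  · have hxc : algebraMap k w.Completion x ≠ 0 := (map_ne_zero _).2 hx0
    have e : t w - algebraMap k w.Completion (x * algebraMap (𝓞 k) k (N * a)) =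
        algebraMap k w.Completion x * ((t w / algebraMap k w.Completion x - algebraMap k w.Completion q)
          + algebraMap k w.Completion (q - algebraMap (𝓞 k) k (N * a))) := by
      rw [map_mul, map_sub, mul_add, mul_sub, mul_sub, mul_div_cancel₀ _ hxc]
      ring
    rw [e, norm_mul, norm_algebraMap_completion]
    have h1 : ‖(t w / algebraMap k w.Completion x - algebraMap k w.Completion q)
          + algebraMap k w.Completion (q - algebraMap (𝓞 k) k (N * a))‖ ≤ 1 + C :=
      (norm_add_le _ _).trans (add_le_add (hq w).le (by rw [norm_algebraMap_completion]; exact ha w))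
    calc w x * _ ≤ δ * (1 + C) := mul_le_mul (hxδ w).le h1 (norm_nonneg _) hδ.le
      _ = ε / 2 := by simp only [δ]; field_simp; ring
      _ < ε := half_lt_self hε
  · rw [map_mul, map_mul, map_mul]
    calc _ ≤ 1 * (v.valuation k (algebraMap (𝓞 k) k N) * 1) :=
          mul_le_mul' (hxv v hv) (mul_le_mul' le_rfl (v.valuation_le_one a))
      _ = _ := by rw [one_mul, mul_one]

/-- **Strong approximation** off the place `v₀`. -/
theorem exists_strongApprox (v₀ : Pl) (S : Finset Pl) (hv₀ : v₀ ∉ S)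
    (U : ∀ v : Pl, Set (v.adicCompletion k)) (hU : ∀ v ∈ S, IsOpen (U v) ∧ (U v).Nonempty)
    (Ui : ∀ w : InfinitePlace k, Set w.Completion) (hUi : ∀ w, IsOpen (Ui w) ∧ (Ui w).Nonempty) :
    ∃ a : k, (∀ v : Pl, v ≠ v₀ → v ∉ S → v.valuation k a ≤ 1) ∧
      (∀ v ∈ S, algebraMap k (v.adicCompletion k) a ∈ U v) ∧
      ∀ w, algebraMap k w.Completion a ∈ Ui w := by
  classical
  obtain ⟨b, N, hN, hb, hbU⟩ := exists_finite_approx S U hU
  have : ∀ w : InfinitePlace k, ∃ t : w.Completion, ∃ r > 0, Metric.ball t r ⊆ Ui w := fun w => by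
    obtain ⟨t, ht⟩ := (hUi w).2
    exact ⟨t, Metric.isOpen_iff.1 (hUi w).1 t ht⟩
  choose t r hr hball using this
  let ε := Finset.univ.inf' Finset.univ_nonempty r
  have hε : 0 < ε := (Finset.lt_inf'_iff _).2 fun w _ => hr w
  obtain ⟨y, hy, hyv⟩ := exists_infinite_approx v₀ N hN
    (fun w => t w - algebraMap k w.Completion b) ε hε
  refine ⟨b + y, fun v hv hvS => ?_, fun v hv => hbU v hv y (hyv v fun h => hv₀ (h ▸ hv)), fun w => ?_⟩
  · exact ((v.valuation k).map_add _ _).trans
      (max_le (hb v hvS) ((hyv v hv).trans (v.valuation_le_one N)))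
  · apply hball w
    rw [Metric.mem_ball, dist_eq_norm, ← norm_neg,
      show -(algebraMap k w.Completion (b + y) - t w) =
        (t w - algebraMap k w.Completion b) - algebraMap k w.Completion y by rw [map_add]; ring]
    exact (hy w).trans_le (Finset.inf'_le r (Finset.mem_univ w))

end Groth.Agent.H23.StrongApprox
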