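import Mathlib

/-!
# Roots in henselian local rings of tame degree
-/

universe u v

open Polynomial IsLocalRing

namespace Groth.Agent.H23.TameRoot

/-- An element which is an `n`-th power in the residue field is an `n`-th power, for `n` prime to the
residue characteristic. -/
theorem exists_root {A : Type u} [CommRing A] [HenselianLocalRing A] {n : ℕ}
    (hn : (n : ResidueField A) ≠ 0) {a : A} (ha : IsUnit a) {b : A} (hb : b ^ n - a ∈ maximalIdeal A) :
    ∃ w : A, IsUnit w ∧ w ^ n = a ∧ w - b ∈ maximalIdeal A := by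
  have hn0 : n ≠ 0 := by rintro rfl; simp at hn
  have hbu : IsUnit b := by
    by_contra hc
    have : b ∈ maximalIdeal A := hc
    exact (mem_maximalIdeal a).mp (by
      have h1 := (maximalIdeal A).sub_mem (Ideal.pow_mem_of_mem _ this n (Nat.pos_of_ne_zero hn0)) hb
      rwa [sub_sub_cancel] at h1) ha
  have hnu : IsUnit (n : A) := by
    by_contra hc
    exact hn (by rw [← map_natCast (residue A), residue_eq_zero_iff]; exact hc)
  obtain ⟨w, hw, hwb⟩ := HenselianLocalRing.is_henselian (X ^ n - C a) (monic_X_pow_sub_C a hn0) b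
    (by simpa using hb) (by simpa [derivative_X_pow] using hnu.mul (hbu.pow (n - 1)))
  have hwn : w ^ n = a := by simpa [IsRoot, sub_eq_zero] using hw
  exact ⟨w, (isUnit_pow_iff hn0).mp (hwn ▸ ha), hwn, hwb⟩

theorem exists_root' {A : Type u} [CommRing A] [HenselianLocalRing A] [IsAlgClosed (ResidueField A)]
    {n : ℕ} (hn : (n : ResidueField A) ≠ 0) {a : A} (ha : IsUnit a) :
    ∃ w : A, IsUnit w ∧ w ^ n = a := by
  have hn0 : n ≠ 0 := by rintro rfl; simp at hn
  obtain ⟨r, hr⟩ := IsAlgClosed.exists_pow_nat_eq (residue A a) (Nat.pos_of_ne_zero hn0)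
  obtain ⟨b, rfl⟩ := residue_surjective r
  obtain ⟨w, h1, h2, -⟩ := exists_root hn ha (b := b)
    (by rw [← residue_eq_zero_iff, map_sub, map_pow, hr, sub_self])
  exact ⟨w, h1, h2⟩

theorem exists_primitiveRoot {A : Type u} [CommRing A] [HenselianLocalRing A]
    [IsAlgClosed (ResidueField A)] {n : ℕ} (hn : (n : ResidueField A) ≠ 0) :
    ∃ ζ : A, IsPrimitiveRoot ζ n := by
  haveI : NeZero (n : ResidueField A) := ⟨hn⟩
  obtain ⟨z, hz⟩ := HasEnoughRootsOfUnity.exists_primitiveRoot (ResidueField A) n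
  obtain ⟨b, rfl⟩ := residue_surjective z
  obtain ⟨w, -, h2, h3⟩ := exists_root hn isUnit_one (b := b)
    (by rw [← residue_eq_zero_iff, map_sub, map_pow, map_one, hz.pow_eq_one, sub_self])
  refine ⟨w, ⟨h2, fun l hl => ?_⟩⟩
  have h4 : residue A w = residue A b := by
    rwa [← sub_eq_zero, ← map_sub, residue_eq_zero_iff]
  exact hz.dvd_of_pow_eq_one l (by rw [← h4, ← map_pow, hl, map_one])

variable {O : Type u} [CommRing O] [IsDomain O] [IsDiscreteValuationRing O]

theorem irreducible_X_pow_sub_uniformizer {ϖ : O} (hϖ : Irreducible ϖ) {n : ℕ} (hn : 0 < n) :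
    Irreducible (X ^ n - C (algebraMap O (FractionRing O) ϖ)) := by
  have hm : (X ^ n - C ϖ : O[X]).Monic := monic_X_pow_sub_C ϖ hn.ne'
  have hd : (X ^ n - C ϖ : O[X]).natDegree = n := natDegree_X_pow_sub_C
  have hmax := (IsDiscreteValuationRing.irreducible_iff_uniformizer ϖ).mp hϖ
  have hE : (X ^ n - C ϖ : O[X]).IsEisensteinAt (maximalIdeal O) := by
    refine ⟨?_, fun hk => ?_, ?_⟩
    · rw [hm.leadingCoeff]
      exact fun h => (maximalIdeal.isMaximal O).ne_top ((Ideal.eq_top_iff_one _).mpr h)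
    · rw [hd] at hk
      rw [coeff_sub, coeff_X_pow, if_neg hk.ne, zero_sub, coeff_C, neg_mem_iff]
      split_ifs
      · rw [hmax]; exact Ideal.mem_span_singleton_self ϖ
      · exact zero_mem _
    · rw [coeff_sub, coeff_X_pow, if_neg hn.ne, zero_sub, coeff_C_zero, neg_mem_iff, hmax,
        Ideal.span_singleton_pow, Ideal.mem_span_singleton]
      rintro ⟨c, hc⟩
      refine hϖ.not_isUnit (IsUnit.of_mul_eq_one c (mul_left_cancel₀ hϖ.ne_zero ?_))
      rw [mul_one]
      linear_combination -hc
  have hirr := hE.irreducible (maximalIdeal.isMaximal O).isPrime hm.isPrimitive (by rw [hd]; exact hn)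
  have := (hm.irreducible_iff_irreducible_map_fraction_map (K := FractionRing O)).mp hirr
  simpa using this

theorem minpoly_eq {ϖ : O} (hϖ : Irreducible ϖ) {n : ℕ} (hn : 0 < n) {L : Type v} [Field L]
    [Algebra (FractionRing O) L] {x : L}
    (hx : x ^ n = algebraMap (FractionRing O) L (algebraMap O (FractionRing O) ϖ)) :
    minpoly (FractionRing O) x = X ^ n - C (algebraMap O (FractionRing O) ϖ) :=
  (minpoly.eq_of_irreducible_of_monic (irreducible_X_pow_sub_uniformizer hϖ hn)
    (by simp [hx]) (monic_X_pow_sub_C _ hn.ne')).symm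

theorem finrank_adjoin {ϖ : O} (hϖ : Irreducible ϖ) {n : ℕ} (hn : 0 < n) {L : Type v} [Field L]
    [Algebra (FractionRing O) L] {x : L}
    (hx : x ^ n = algebraMap (FractionRing O) L (algebraMap O (FractionRing O) ϖ)) :
    Module.finrank (FractionRing O) (IntermediateField.adjoin (FractionRing O) {x}) = n := by
  have hint : IsIntegral (FractionRing O) x :=
    ⟨X ^ n - C (algebraMap O (FractionRing O) ϖ), monic_X_pow_sub_C _ hn.ne', by simp [hx]⟩
  rw [IntermediateField.adjoin.finrank hint, minpoly_eq hϖ hn hx, natDegree_X_pow_sub_C]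

theorem finrank_isCyclic {ϖ : O} (hϖ : Irreducible ϖ) {n : ℕ} (hn : 0 < n) {ζ : O}
    (hζ : IsPrimitiveRoot ζ n) {L : Type v} [Field L] [Algebra (FractionRing O) L]
    [FiniteDimensional (FractionRing O) L] {x : L}
    (hx : x ^ n = algebraMap (FractionRing O) L (algebraMap O (FractionRing O) ϖ))
    (htop : IntermediateField.adjoin (FractionRing O) {x} = ⊤) :
    Module.finrank (FractionRing O) L = n ∧ IsCyclic Gal(L/FractionRing O) := by
  have hfr : Module.finrank (FractionRing O) L = n := by
    rw [← IntermediateField.finrank_top', ← htop, finrank_adjoin hϖ hn hx]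
  subst hfr
  refine ⟨rfl, ?_⟩
  have hK : (primitiveRoots (Module.finrank (FractionRing O) L) (FractionRing O)).Nonempty :=
    ⟨_, (mem_primitiveRoots hn).mpr (hζ.map_of_injective (IsFractionRing.injective O (FractionRing O)))⟩
  haveI := isSplittingField_X_pow_sub_C_of_root_adjoin_eq_top hK hx htop
  haveI : NeZero (Module.finrank (FractionRing O) L) := ⟨hn.ne'⟩
  exact isCyclic_of_isSplittingField_X_pow_sub_C hK (irreducible_X_pow_sub_uniformizer hϖ hn) L

/-- All roots of `X ^ n = ϖ` lie in the field generated by one of them. -/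
theorem mem_adjoin {n : ℕ} (hn : 0 < n) {ζ : O} (hζ : IsPrimitiveRoot ζ n) {L : Type v} [Field L]
    [Algebra (FractionRing O) L] {x y : L} (hx : x ≠ 0) (h : x ^ n = y ^ n) :
    ∃ j : ℕ, y = algebraMap (FractionRing O) L (algebraMap O (FractionRing O) ζ) ^ j * x := by
  haveI : NeZero n := ⟨hn.ne'⟩
  have hz := hζ.map_of_injective (f := (algebraMap (FractionRing O) L).comp (algebraMap O (FractionRing O)))
    ((algebraMap (FractionRing O) L).injective.comp (IsFractionRing.injective O (FractionRing O)))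
  obtain ⟨j, -, hj⟩ := hz.eq_pow_of_pow_eq_one (ξ := y / x) (by rw [div_pow, ← h, div_self (pow_ne_zero _ hx)])
  exact ⟨j, by rw [RingHom.comp_apply] at hj; rw [hj, div_mul_cancel₀ _ hx]⟩

end Groth.Agent.H23.TameRoot
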