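import Groth.Agent.Lib.ExtShStalk.Top
import Groth.Agent.Lib.ExtShStalk.DimBound
import Groth.Agent.Lib.ExtShStalk.Vanish
import Groth.Agent.Lib.ExtShStalk.Zero
import Groth.Agent.Lib.ProjCoh.TwistVanish
import Groth.Agent.Lib.Devissage.Basic
import Groth.Agent.Lib.Koszul.Euler
import Groth.Agent.Lib.VarDim.Basic
import Groth.Agent.Lib.WeilExt.Basic

/-!
A coherent module on projective space has a twist with nonzero cohomology in the degree of the
dimension of its support.
-/

set_option autoImplicit false
set_option linter.style.haveILetI false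

universe u

open CategoryTheory CategoryTheory.Limits CategoryTheory.Abelian AlgebraicGeometry IsLocalRing

noncomputable section

namespace Groth.Agent.H23.TopNonvanish

open Groth.Agent.Lib

/-- `Ext^c(M, R)` is nonzero for a nonzero module of finite length over a regular local ring of
dimension `c`. -/
theorem nontrivial_ext {R : Type u} [CommRing R] [IsRegularLocalRing R] (c : ℕ) (hd : ringKrullDim R = c)
    (M : Type u) [AddCommGroup M] [Module R M] [Module.Finite R M] [Nontrivial M]
    (hM : Module.length R M ≠ ⊤) :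
    Nontrivial (Ext.{u} (ModuleCat.of R M) (ModuleCat.of R R) c) := by
  haveI : IsSimpleModule R (ResidueField R) := InjHull.Matlis.isSimpleModule_quotient (m := maximalIdeal R)
  obtain ⟨φ, hφ, -⟩ := Devissage.Basic.exists_surjective_of_length hM
    (Module.length_eq_one_iff.2 (inferInstance : IsSimpleModule R (ResidueField R)))
  haveI : IsNoetherian R M := isNoetherian_of_isNoetherianRing_of_finite R M
  have hfin : IsFiniteLength R (LinearMap.ker φ) :=
    Module.length_ne_top_iff.1 (ne_top_of_le_ne_top hM
      (Module.length_le_of_injective _ (LinearMap.ker φ).injective_subtype))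
  have hS := LinearMap.shortExact_shortComplexKer (f := φ) hφ
  haveI := ExtShStalk.Top.isSimpleModule_ext_residueField c hd
  haveI := IsSimpleModule.nontrivial R (Ext.{u} (ModuleCat.of R (ResidueField R)) (ModuleCat.of R R) c)
  obtain ⟨v, hv⟩ := exists_ne (0 : Ext.{u} (ModuleCat.of R (ResidueField R)) (ModuleCat.of R R) c)
  refine nontrivial_of_ne ((Ext.mk₀ (ModuleCat.ofHom φ)).comp v (zero_add c)) 0 fun h0 => hv ?_
  cases c with
  | zero =>
    haveI : Epi (ModuleCat.ofHom φ) := (ModuleCat.epi_iff_surjective _).mpr hφ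
    exact Ext.precomp_mk₀_injective_of_epi (ModuleCat.of R R) (ModuleCat.ofHom φ)
      (h0.trans (Ext.comp_zero _ _ 0 _ (zero_add 0)).symm)
  | succ c =>
    obtain ⟨x₁, hx⟩ := Ext.contravariant_sequence_exact₃ hS _ v h0 (add_comm 1 c)
    haveI : Subsingleton (Ext.{u} (LinearMap.shortComplexKer φ).X₁ (ModuleCat.of R R) c) := by
      refine Depth.Vanish.subsingleton_ext_of_supportDim_lt
        (ModuleCat.of R (LinearMap.ker φ)) c (ModuleCat.of R R) ?_
      refine lt_of_le_of_lt (add_le_add le_rfl (Koszul.Euler.supportDim_le_zero_of_isFiniteLength hfin)) ?_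
      rw [add_zero]
      have h1 := (ExtShStalk.Vanish.ringKrullDim_eq_depth R).symm.trans hd
      refine lt_of_lt_of_eq ?_ h1.symm
      exact_mod_cast c.lt_succ_self
    rw [← hx, Subsingleton.elim x₁ 0, Ext.comp_zero]

open ProjCoh in
/-- Some twist has nonzero cohomology in the degree of the dimension of the support. -/
theorem exists_twist_nontrivial {k : Type u} [Field k] (n : ℕ) (G : (CohB1.ProjSpace n k).Modules)
    (hG : Coh.IsCoh G) (a : ℕ)
    (hdim : topologicalKrullDim ↥(CohB1.support G) = (a : WithBot ℕ∞)) :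
    ∃ m : ℤ, Nontrivial (Coh.HH (CohB1.ProjSpace n k)
      (CohB1.tensorMod G (Twist.twistProjSpace n k m)) a) := by
  classical
  let f := CohB1.ProjSpace.toSpec n k
  haveI : IsLocallyNoetherian (CohB1.ProjSpace n k) := LocallyOfFiniteType.isLocallyNoetherian f
  haveI := hG.2
  have hcl := Modules.Support.isClosed_support G
  obtain ⟨x, hx, hax⟩ : ∃ x ∈ CohB1.support G, a ≤ VarDim.Basic.pdim f x := by
    by_contra! h
    rcases a with _ | a'
    · rcases (CohB1.support G).eq_empty_or_nonempty with he | ⟨x, hx⟩
      · have h1 := (VarDim.Basic.topologicalKrullDim_le_iff f hcl.isLocallyClosed ⊥).2 fun x hx =>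
          absurd (he ▸ hx : x ∈ (∅ : Set _)) (Set.notMem_empty x)
        rw [hdim, le_bot_iff] at h1
        exact WithBot.natCast_ne_bot 0 h1
      · exact Nat.not_lt_zero _ (h x hx)
    · have := (VarDim.Basic.topologicalKrullDim_le_iff f hcl.isLocallyClosed ((a' : ℕ) : WithBot ℕ∞)).2
        fun x hx => by exact_mod_cast Nat.lt_succ_iff.1 (h x hx)
      rw [hdim] at this
      exact absurd this (not_le.2 (by exact_mod_cast a'.lt_succ_self))
  have hle : ∀ y ∈ CohB1.support G, VarDim.Basic.pdim f y ≤ a := fun y hy => by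
    exact_mod_cast hdim ▸ VarDim.Basic.pdim_le_topologicalKrullDim f hcl.isLocallyClosed hy
  have hpx : VarDim.Basic.pdim f x = a := le_antisymm (hle x hx) hax
  have hmax : Cyc.SheafLen.IsMaxSupp G x := fun y hy hn => by
    by_contra hne
    have h := (Cyc.FieldDim.isDimFun_fdelta f y x hy hne).1
    rw [VarDim.Basic.fdelta_eq, VarDim.Basic.fdelta_eq, hpx] at h
    have := hle y (not_subsingleton_iff_nontrivial.2 hn)
    omega
  have han : a ≤ n := by
    have h := VarDim.Basic.pdim_le_topologicalKrullDim_scheme f x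
    rw [hpx, ProjSpace.Dim.topologicalKrullDim_projSpace_of_field] at h
    exact_mod_cast h
  haveI := WeilExt.Basic.isRegularLocalRing_stalk f x
  have hδ : (Cyc.FieldDim.fdelta f x).toNat = a := by rw [VarDim.Basic.fdelta_eq, hpx]; rfl
  have hd : ringKrullDim ((CohB1.ProjSpace n k).presheaf.stalk x) = ((n - a : ℕ) : WithBot ℕ∞) := by
    refine le_antisymm ?_ ?_
    · have h := ExtShStalk.DimBound.ringKrullDim_stalk_le f
        (ProjSpace.Dim.topologicalKrullDim_projSpace_of_field n k).le x
      rwa [hδ] at h
    · have h := ExtShStalk.DimBound.le_ringKrullDim_stalk f (ExtShStalk.Zero.projSpace_components n k) x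
      rwa [hδ] at h
  by_contra! hcon
  haveI : HasExt.{u} (CohB1.ProjSpace n k).Modules := CategoryTheory.hasExt_of_enoughInjectives _
  have hv := (TwistVanish.main (n - a) G hG).1 ((TwistVanish.twist_iff (i := a) (j := n - a) (by omega) G hG).1
    ⟨0, fun m _ => hcon (-m)⟩) x
  haveI := RefHull.LocFree.finite_stalk hG x
  haveI : Nontrivial (G.presheaf.stalk x) := not_subsingleton_iff_nontrivial.1 hx
  haveI : Nontrivial _ := nontrivial_ext (n - a) hd (G.presheaf.stalk x) (Cyc.SheafLen.length_ne_top hG x hmax)
  exact not_subsingleton_iff_nontrivial.2 this hv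

end Groth.Agent.H23.TopNonvanish
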