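import Mathlib.Algebra.Module.FinitePresentation
import Mathlib.RingTheory.Localization.Away.Basic
import Mathlib.RingTheory.IsTensorProduct
import Mathlib.Algebra.Module.LocalizedModule.Basic
import Mathlib.RingTheory.Ideal.Maps
import Mathlib.RingTheory.TensorProduct.IsBaseChangePi

/-!
# Presentations with prescribed index types, glued along a cover by basic opens

The bounds on the number of generators and relations only depend on the local bounds, so products
of such modules are finitely presented.
-/

universe u v w

open Module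

namespace Groth.Agent.H23.UnifPres

section defs

variable (R : Type*) [CommRing R] (M : Type*) [AddCommGroup M] [Module R M]

/-- `M` has a presentation with generators indexed by `P` and relations indexed by `Q`. -/
def HasPres (P Q : Type*) [Fintype P] : Prop :=
  ∃ (g : P → M) (ρ : Q → P → R), Submodule.span R (Set.range g) = ⊤ ∧
    Submodule.span R (Set.range ρ) = LinearMap.ker (Fintype.linearCombination R g)

variable {R M}

theorem HasPres.finitePresentation {P Q : Type*} [Fintype P] [Finite Q] (h : HasPres R M P Q) :
    Module.FinitePresentation R M := by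
  obtain ⟨g, ρ, hg, hρ⟩ := h
  refine Module.finitePresentation_of_surjective (Fintype.linearCombination R g) ?_ ?_
  · rw [← LinearMap.range_eq_top, Fintype.range_linearCombination, hg]
  · rw [← hρ]; exact Submodule.fg_span (Set.finite_range _)

theorem exists_hasPres [Module.FinitePresentation R M] :
    ∃ n r : ℕ, HasPres R M (Fin n) (Fin r) := by
  obtain ⟨n, g, hg⟩ := Submodule.fg_iff_exists_fin_generating_family.1
    (Module.Finite.fg_top (R := R) (M := M))
  have hs : Function.Surjective (Fintype.linearCombination R g) := by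
    rw [← LinearMap.range_eq_top, Fintype.range_linearCombination, hg]
  obtain ⟨r, ρ, hρ⟩ := Submodule.fg_iff_exists_fin_generating_family.1
    (Module.FinitePresentation.fg_ker _ hs)
  exact ⟨n, r, g, ρ, hg, hρ⟩

theorem HasPres.baseChange {P Q : Type*} [Fintype P] (h : HasPres R M P Q)
    {S : Type*} [CommRing S] [Algebra R S] {M' : Type*} [AddCommGroup M'] [Module R M']
    [Module S M'] [IsScalarTower R S M'] {f : M →ₗ[R] M'} (hf : IsBaseChange S f) :
    HasPres S M' P Q := by
  classical
  obtain ⟨g, ρ, hg, hρ⟩ := h
  let ρ' : Q → P → S := fun q p => algebraMap R S (ρ q p)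
  refine ⟨fun p => f (g p), ρ', ?_, ?_⟩
  · rw [eq_top_iff]
    rintro y -
    induction y using hf.inductionOn with
    | zero => exact zero_mem _
    | tmul m =>
      have hm : m ∈ Submodule.span R (Set.range g) := hg ▸ Submodule.mem_top
      obtain ⟨c, hc⟩ := (Submodule.mem_span_range_iff_exists_fun R).1 hm
      rw [← hc, map_sum]
      refine Submodule.sum_mem _ fun p _ => ?_
      rw [map_smul, algebra_compatible_smul S]
      exact Submodule.smul_mem _ _ (Submodule.subset_span ⟨p, rfl⟩)
    | smul r x hx => exact Submodule.smul_mem _ _ hx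
    | add x y hx hy => exact add_mem hx hy
  · apply le_antisymm
    · rw [Submodule.span_le]
      rintro _ ⟨q, rfl⟩
      have hq : Fintype.linearCombination R g (ρ q) = 0 :=
        LinearMap.mem_ker.1 (hρ ▸ Submodule.subset_span ⟨q, rfl⟩)
      rw [SetLike.mem_coe, LinearMap.mem_ker, Fintype.linearCombination_apply]
      have := congrArg f hq
      rw [Fintype.linearCombination_apply, map_sum, map_zero] at this
      simpa [ρ', algebraMap_smul] using this
    · intro x hx
      let Z : Submodule S (P → S) := Submodule.span S (Set.range ρ')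
      let θ : (P → R) →ₗ[R] (P → S) ⧸ Z :=
        (Z.mkQ.restrictScalars R).comp ((Algebra.linearMap R S).compLeft P)
      have hθ : LinearMap.ker (Fintype.linearCombination R g) ≤ LinearMap.ker θ := by
        rw [← hρ, Submodule.span_le]
        rintro _ ⟨q, rfl⟩
        rw [SetLike.mem_coe, LinearMap.mem_ker]
        exact (Submodule.Quotient.mk_eq_zero Z).2 (Submodule.subset_span ⟨q, rfl⟩)
      have hs : Function.Surjective (Fintype.linearCombination R g) := by
        rw [← LinearMap.range_eq_top, Fintype.range_linearCombination, hg]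
      let e := (Fintype.linearCombination R g).quotKerEquivOfSurjective hs
      let θ' : M →ₗ[R] (P → S) ⧸ Z :=
        (Submodule.liftQ _ θ hθ).comp e.symm.toLinearMap
      let Ψ := hf.lift θ'
      have hΨ : ∀ p, Ψ (f (g p)) = Z.mkQ (Pi.single p 1) := by
        intro p
        rw [hf.lift_eq]
        have he : e.symm (g p) = Submodule.Quotient.mk (Pi.single p (1 : R)) := by
          rw [LinearEquiv.symm_apply_eq]
          simp [e, Fintype.linearCombination_apply_single]
        simp only [θ', LinearMap.comp_apply, LinearEquiv.coe_coe, he, Submodule.liftQ_apply, θ,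
          LinearMap.coe_restrictScalars]
        congr 1
        ext k
        rcases eq_or_ne k p with rfl | hk
        · simp
        · simp [Pi.single_eq_of_ne hk]
      have h0 := congrArg Ψ (LinearMap.mem_ker.1 hx)
      rw [Fintype.linearCombination_apply, map_sum, map_zero] at h0
      simp only [map_smul, hΨ] at h0
      rw [← Finset.sum_congr rfl (fun p _ => Z.mkQ.map_smul (x p) (Pi.single p 1)), ← map_sum] at h0
      have hxe : (∑ p, x p • Pi.single p (1 : S)) = x := by
        funext k
        simp [Finset.sum_apply, Pi.single_apply]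
      rw [hxe] at h0
      exact (Submodule.Quotient.mk_eq_zero Z).1 h0

end defs

section pi

variable {ι : Type*} {R : ι → Type*} [∀ i, CommRing (R i)] {M : ι → Type*}
  [∀ i, AddCommGroup (M i)] [∀ i, Module (R i) (M i)]

theorem hasPres_pi {P Q : Type*} [Fintype P] [Fintype Q] (h : ∀ i, HasPres (R i) (M i) P Q) :
    HasPres (∀ i, R i) (∀ i, M i) P Q := by
  classical
  choose g ρ hg hρ using h
  refine ⟨fun p i => g i p, fun q p i => ρ i q p, ?_, ?_⟩
  · rw [eq_top_iff]
    rintro x -
    have : ∀ i, ∃ c : P → R i, ∑ p, c p • g i p = x i := fun i =>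
      (Submodule.mem_span_range_iff_exists_fun _).1 (hg i ▸ Submodule.mem_top)
    choose c hc using this
    refine (Submodule.mem_span_range_iff_exists_fun _).2 ⟨fun p i => c i p, ?_⟩
    funext i
    simp [Finset.sum_apply, hc i]
  · apply le_antisymm
    · rw [Submodule.span_le]
      rintro _ ⟨q, rfl⟩
      rw [SetLike.mem_coe, LinearMap.mem_ker, Fintype.linearCombination_apply]
      funext i
      have : Fintype.linearCombination (R i) (g i) (ρ i q) = 0 :=
        LinearMap.mem_ker.1 (hρ i ▸ Submodule.subset_span ⟨q, rfl⟩)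
      rw [Fintype.linearCombination_apply] at this
      simpa [Finset.sum_apply] using this
    · intro x hx
      have hxi : ∀ i, ∃ c : Q → R i, ∑ q, c q • ρ i q = fun p => x p i := by
        intro i
        refine (Submodule.mem_span_range_iff_exists_fun _).1 ?_
        rw [hρ i, LinearMap.mem_ker, Fintype.linearCombination_apply]
        have := congrFun (LinearMap.mem_ker.1 hx) i
        rw [Fintype.linearCombination_apply] at this
        simpa [Finset.sum_apply] using this
      choose c hc using hxi
      refine (Submodule.mem_span_range_iff_exists_fun _).2 ⟨fun q i => c i q, ?_⟩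
      funext p i
      simpa [Finset.sum_apply] using congrFun (hc i) p

end pi

section glue

variable {R : Type u} [CommRing R] {M : Type v} [AddCommGroup M] [Module R M]

/-- Clearing denominators in a span. -/
theorem exists_pow_smul_mem_span {a : R} {R' : Type*} [CommRing R'] [Algebra R R']
    [IsLocalization.Away a R'] {M' : Type*} [AddCommGroup M'] [Module R M'] [Module R' M']
    [IsScalarTower R R' M'] (l : M →ₗ[R] M') [IsLocalizedModule (Submonoid.powers a) l]
    {P : Type*} [Fintype P] (m : P → M) {x : M}
    (hx : l x ∈ Submodule.span R' (Set.range fun p => l (m p))) :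
    ∃ (e : ℕ) (c : P → R), a ^ e • x = ∑ p, c p • m p := by
  obtain ⟨d, hd⟩ := (Submodule.mem_span_range_iff_exists_fun R').1 hx
  obtain ⟨s, hs⟩ := IsLocalization.exist_integer_multiples_of_finite (Submonoid.powers a) d
  choose c hc using hs
  have h1 : l ((s : R) • x) = l (∑ p, c p • m p) := by
    rw [map_smul, ← hd, Finset.smul_sum, map_sum]
    refine Finset.sum_congr rfl fun p _ => ?_
    rw [map_smul, ← algebraMap_smul R' (c p), hc p, smul_assoc]
  obtain ⟨t, ht⟩ := IsLocalizedModule.exists_of_eq (S := Submonoid.powers a) h1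
  obtain ⟨⟨_, k, rfl⟩, ⟨_, k', rfl⟩⟩ := s, t
  refine ⟨k' + k, fun p => a ^ k' * c p, ?_⟩
  simp only [Submonoid.smul_def] at ht
  rw [pow_add, mul_smul, ht, Finset.smul_sum]
  simp [mul_smul]

variable {J : Type w} [Fintype J]

theorem hasPres_of_cover (a : J → R) (ha : Ideal.span (Set.range a) = ⊤)
    (n r : J → ℕ) (R' : J → Type*) [∀ j, CommRing (R' j)] [∀ j, Algebra R (R' j)]
    [∀ j, IsLocalization.Away (a j) (R' j)] (M' : J → Type*) [∀ j, AddCommGroup (M' j)]
    [∀ j, Module R (M' j)] [∀ j, Module (R' j) (M' j)] [∀ j, IsScalarTower R (R' j) (M' j)]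
    (l : ∀ j, M →ₗ[R] M' j) [∀ j, IsLocalizedModule (Submonoid.powers (a j)) (l j)]
    (h : ∀ j, HasPres (R' j) (M' j) (Fin (n j)) (Fin (r j))) :
    HasPres R M (Σ j, Fin (n j)) (Σ j, (Σ j, Fin (n j)) ⊕ Fin (r j)) := by
  classical
  choose g ρ hg hρ using h
  -- common denominators for the generators
  have hm : ∀ j, ∃ (e : ℕ) (m : Fin (n j) → M), ∀ k, l j (m k) = a j ^ e • g j k := by
    intro j
    have : ∀ k, ∃ (e : ℕ) (m : M), l j m = a j ^ e • g j k := fun k => by
      obtain ⟨⟨m, ⟨_, e, rfl⟩⟩, hme⟩ := IsLocalizedModule.surj (Submonoid.powers (a j)) (l j) (g j k)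
      exact ⟨e, m, hme.symm⟩
    choose e m hme using this
    refine ⟨Finset.univ.sup e, fun k => a j ^ (Finset.univ.sup e - e k) • m k, fun k => ?_⟩
    rw [map_smul, hme k, smul_smul, ← pow_add,
      Nat.sub_add_cancel (Finset.le_sup (Finset.mem_univ k))]
  choose e0 m hm using hm
  let G : (Σ j, Fin (n j)) → M := fun p => m p.1 p.2
  have hu : ∀ j, IsUnit (algebraMap R (R' j) (a j ^ e0 j)) := fun j => by
    rw [map_pow]; exact (IsLocalization.Away.algebraMap_isUnit (a j)).pow _
  have hspan : ∀ j, Submodule.span (R' j) (Set.range fun k => l j (m j k)) = ⊤ := by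
    intro j
    rw [eq_top_iff, ← hg j, Submodule.span_le]
    rintro _ ⟨k, rfl⟩
    have hk : l j (m j k) ∈ Submodule.span (R' j) (Set.range fun k => l j (m j k)) :=
      Submodule.subset_span ⟨k, rfl⟩
    rw [hm j k, ← algebraMap_smul (R' j)] at hk
    exact (Submodule.smul_mem_iff_of_isUnit _ (hu j)).1 hk
  -- every generator is, up to a power of `a j`, a combination of the ones of index `j`
  have hc : ∀ j p, ∃ (e : ℕ) (c : Fin (n j) → R), a j ^ e • G p = ∑ k, c k • m j k := fun j p =>
    exists_pow_smul_mem_span (R' := R' j) (l j) (m j) (by rw [hspan j]; trivial)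
  choose ec c hc using hc
  -- lift of the relations
  have hσ : ∀ j (q : Fin (r j)), ∃ (d : ℕ) (σ : Fin (n j) → R),
      (∀ k, algebraMap R (R' j) (σ k) = algebraMap R (R' j) (a j ^ d) * ρ j q k) ∧
      ∑ k, σ k • m j k = 0 := by
    intro j q
    obtain ⟨⟨_, d, rfl⟩, hd⟩ :=
      IsLocalization.exist_integer_multiples_of_finite (Submonoid.powers (a j)) (ρ j q)
    choose σ hσ using hd
    have h0 : l j (∑ k, σ k • m j k) = l j 0 := by
      have : Fintype.linearCombination (R' j) (g j) (ρ j q) = 0 :=
        LinearMap.mem_ker.1 (hρ j ▸ Submodule.subset_span ⟨q, rfl⟩)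
      rw [Fintype.linearCombination_apply] at this
      rw [map_sum, map_zero]
      calc ∑ k, l j (σ k • m j k)
          = ∑ k, (a j ^ e0 j * a j ^ d) • (ρ j q k • g j k) := by
            refine Finset.sum_congr rfl fun k _ => ?_
            rw [map_smul, hm j k, ← algebraMap_smul (R' j) (σ k), hσ k, smul_assoc,
              mul_smul, smul_comm (a j ^ e0 j) (a j ^ d), smul_comm (ρ j q k) (a j ^ e0 j)]
        _ = 0 := by rw [← Finset.smul_sum, this, smul_zero]
    obtain ⟨⟨_, d', rfl⟩, ht⟩ := IsLocalizedModule.exists_of_eq (S := Submonoid.powers (a j)) h0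
    refine ⟨d' + d, fun k => a j ^ d' * σ k, fun k => ?_, ?_⟩
    · rw [map_mul, hσ k, pow_add, map_mul, Algebra.smul_def, mul_assoc]
    · rw [Submonoid.smul_def, smul_zero] at ht
      simpa [Finset.smul_sum, mul_smul] using ht
  choose d σ hσ hσ0 using hσ
  let V : (Σ j, (Σ j, Fin (n j)) ⊕ Fin (r j)) → (Σ j, Fin (n j)) → R := fun w =>
    match w with
    | ⟨j, Sum.inl p⟩ => a j ^ ec j p • Pi.single p 1 - ∑ k, c j p k • Pi.single ⟨j, k⟩ 1
    | ⟨j, Sum.inr q⟩ => ∑ k, σ j q k • Pi.single ⟨j, k⟩ 1
  have hsingle : ∀ p, Fintype.linearCombination R G (Pi.single p 1) = G p := fun p => by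
    rw [Fintype.linearCombination_apply_single, one_smul]
  refine ⟨G, V, ?_, ?_⟩
  · rw [eq_top_iff]
    rintro x -
    refine Submodule.mem_of_span_eq_top_of_smul_pow_mem _ _ ha x ?_
    rintro ⟨_, j, rfl⟩
    obtain ⟨e, c', hc'⟩ := exists_pow_smul_mem_span (a := a j) (R' := R' j) (l j) (m j) (x := x)
      (by rw [hspan j]; trivial)
    refine ⟨e, ?_⟩
    change a j ^ e • x ∈ _
    rw [hc']
    exact Submodule.sum_mem _ fun k _ =>
      Submodule.smul_mem _ _ (Submodule.subset_span ⟨⟨j, k⟩, rfl⟩)
  · apply le_antisymm
    · rw [Submodule.span_le]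
      rintro _ ⟨⟨j, p | q⟩, rfl⟩
      · simp [V, hsingle, hc, G]
      · simp [V, hsingle, hσ0, G]
    · intro x hx
      rw [LinearMap.mem_ker] at hx
      refine Submodule.mem_of_span_eq_top_of_smul_pow_mem _ _ ha x ?_
      rintro ⟨_, j, rfl⟩
      -- rewrite `x` on the generators of index `j`
      let E := Finset.univ.sup (ec j)
      let y : Fin (n j) → R := fun k => ∑ p, (x p * a j ^ (E - ec j p)) * c j p k
      have hxe : a j ^ E • x = (∑ p, (x p * a j ^ (E - ec j p)) • V ⟨j, Sum.inl p⟩) +
          ∑ k, y k • Pi.single (⟨j, k⟩ : Σ j, Fin (n j)) (1 : R) := by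
        simp only [V, smul_sub, Finset.sum_sub_distrib, Finset.smul_sum, smul_smul, y,
          Finset.sum_smul]
        rw [Finset.sum_comm (γ := Fin (n j)), sub_add_cancel]
        funext p
        simp [Finset.sum_apply, Pi.single_apply, E]
        conv_lhs => rw [← Nat.sub_add_cancel (Finset.le_sup (f := ec j) (Finset.mem_univ p))]
        ring
      have hy : ∑ k, y k • m j k = 0 := by
        have := congrArg (Fintype.linearCombination R G) hxe
        simpa [hx, hsingle, V, hc, G] using this.symm
      -- relations in the localization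
      have hker : (fun k => algebraMap R (R' j) (y k)) ∈
          LinearMap.ker (Fintype.linearCombination (R' j) (g j)) := by
        rw [LinearMap.mem_ker, Fintype.linearCombination_apply]
        refine ((hu j).smul_left_cancel).1 ?_
        rw [smul_zero, Finset.smul_sum, ← map_zero (l j), ← hy, map_sum]
        refine Finset.sum_congr rfl fun k _ => ?_
        rw [map_smul, hm j k, algebraMap_smul, algebraMap_smul, smul_comm]
      have hmem : (fun k => algebraMap R (R' j) (y k)) ∈ Submodule.span (R' j)
          (Set.range fun q => fun k => algebraMap R (R' j) (σ j q k)) := by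
        rw [← hρ j] at hker
        refine Submodule.span_le.2 ?_ hker
        rintro _ ⟨q, rfl⟩
        have hq : (fun k => algebraMap R (R' j) (σ j q k)) ∈ Submodule.span (R' j)
            (Set.range fun q => fun k => algebraMap R (R' j) (σ j q k)) :=
          Submodule.subset_span ⟨q, rfl⟩
        have he : (fun k => algebraMap R (R' j) (σ j q k)) =
            algebraMap R (R' j) (a j ^ d j q) • ρ j q := by
          funext k; simp [hσ j q k]
        rw [he] at hq
        exact (Submodule.smul_mem_iff_of_isUnit _
          (by rw [map_pow]; exact (IsLocalization.Away.algebraMap_isUnit (a j)).pow _)).1 hq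
      haveI : IsLocalizedModule (Submonoid.powers (a j))
          ((Algebra.linearMap R (R' j)).compLeft (Fin (n j))) := by
        haveI : IsLocalizedModule (Submonoid.powers (a j)) (Algebra.linearMap R (R' j)) :=
          (isLocalizedModule_iff_isLocalization' _ _).2 inferInstance
        exact IsLocalizedModule.pi (Submonoid.powers (a j))
          (fun _ : Fin (n j) => Algebra.linearMap R (R' j))
      obtain ⟨e, c', hc'⟩ := exists_pow_smul_mem_span (a := a j) (R' := R' j)
        ((Algebra.linearMap R (R' j)).compLeft (Fin (n j))) (σ j) hmem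
      refine ⟨e + E, ?_⟩
      change a j ^ (e + E) • x ∈ _
      rw [pow_add, mul_smul, hxe, smul_add]
      refine add_mem (Submodule.smul_mem _ _ (Submodule.sum_mem _ fun p _ =>
        Submodule.smul_mem _ _ (Submodule.subset_span ⟨⟨j, Sum.inl p⟩, rfl⟩))) ?_
      have h2 : a j ^ e • ∑ k, y k • Pi.single (⟨j, k⟩ : Σ j, Fin (n j)) (1 : R) =
          ∑ q, c' q • V ⟨j, Sum.inr q⟩ := by
        simp only [V, Finset.smul_sum, smul_smul]
        rw [Finset.sum_comm (γ := Fin (r j))]
        refine Finset.sum_congr rfl fun k _ => ?_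
        rw [← Finset.sum_smul]
        have := congrFun hc' k
        simp only [Pi.smul_apply, Finset.sum_apply, smul_eq_mul] at this
        rw [this]
      rw [h2]
      exact Submodule.sum_mem _ fun q _ =>
        Submodule.smul_mem _ _ (Submodule.subset_span ⟨⟨j, Sum.inr q⟩, rfl⟩)

end glue

end Groth.Agent.H23.UnifPres
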