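import Groth.Agent.H20.ValProjDim
import Groth.Agent.H22.GlobalDim
import Mathlib.Algebra.Module.StablyFree.FreeOfInvertible
import Mathlib.RingTheory.PicardGroup
import Mathlib.RingTheory.RegularLocalRing.Defs
import Mathlib.RingTheory.Localization.BaseChange
import Mathlib.RingTheory.Localization.Module

/-!
The Picard group of the generic fibre of a flat local algebra over a valuation ring with regular
special fibre is trivial.
-/

set_option autoImplicit false

universe u

namespace Groth.Agent.H23.ValPic

open CategoryTheory IsLocalRing Groth.Agent.H20 TensorProduct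

variable {W A S : Type u} [CommRing W] [IsDomain W] [ValuationRing W] [CommRing A] [IsLocalRing A]
  [Algebra W A] [IsLocalHom (algebraMap W A)] [Algebra.EssFiniteType W A] [Module.Flat W A]
  [CommRing S] [Algebra A S] (M0 : Submonoid A) [IsLocalization M0 S]

variable (W) in
theorem stablyFree_of_lattice
    (hM0 : ∀ s ∈ M0, ∃ w : W, w ≠ 0 ∧ algebraMap W A w = s)
    (hW : ∀ w : W, w ≠ 0 → algebraMap W A w ∈ M0) :
    ∀ (j : ℕ) (L : Type u) [AddCommGroup L] [Module S L] [Module A L] [IsScalarTower A S L]
      [Module.Finite S L] [Module.Projective S L] (M : Submodule A L),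
      M.FG → Submodule.span S (M : Set L) = ⊤ →
      HasProjectiveDimensionLE (ModuleCat.of A M) j → Module.IsStablyFree S L := by
  classical
  intro j
  induction j with
  | zero =>
    intro L _ _ _ _ _ _ M hfg hspan hM
    haveI : Module.Projective A M := ValProjDim.pd_zero_iff.1 hM
    haveI : Module.Finite A M := Module.Finite.iff_fg.2 hfg
    haveI : Module.Free A M := Module.free_of_flat_of_isLocalRing
    let b := Module.Free.chooseBasis A M
    let v : Module.Free.ChooseBasisIndex A M → L := fun i => (b i : L)
    have hli : LinearIndependent S v :=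
      LinearIndependent.localization (R := A) (S := M0) (Rₛ := S)
        (b.linearIndependent.map' M.subtype M.ker_subtype)
    have hsp : ⊤ ≤ Submodule.span S (Set.range v) := by
      rw [← hspan, Submodule.span_le]
      intro x hx
      have h1 : x ∈ Submodule.span A (Set.range v) := by
        have h2 := Submodule.mem_map_of_mem (f := M.subtype) (b.mem_span ⟨x, hx⟩)
        rw [Submodule.map_span] at h2
        rw [show Set.range v = M.subtype '' Set.range b from Set.range_comp M.subtype b]
        exact h2
      exact Submodule.span_le_restrictScalars A S _ h1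
    haveI : Module.Free S L := Module.Free.of_basis (Module.Basis.mk hli hsp)
    infer_instance
  | succ j ih =>
    intro L _ _ _ _ _ _ M hfg hspan hM
    obtain ⟨k, g, hg⟩ := Submodule.fg_iff_exists_fin_generating_family.1 hfg
    have hgM : ∀ i, g i ∈ M := fun i => hg ▸ Submodule.subset_span ⟨i, rfl⟩
    let φ : (Fin k → A) →ₗ[A] M := Fintype.linearCombination A fun i => (⟨g i, hgM i⟩ : M)
    have hφ : Function.Surjective φ := by
      rintro ⟨x, hx⟩
      rw [← hg] at hx
      obtain ⟨c, hc⟩ := (Submodule.mem_span_range_iff_exists_fun A).1 hx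
      exact ⟨c, Subtype.ext (by simp [φ, Fintype.linearCombination_apply, hc])⟩
    let ψ : (Fin k → S) →ₗ[S] L := Fintype.linearCombination S g
    have hψ : Function.Surjective ψ := by
      rw [← LinearMap.range_eq_top, Fintype.range_linearCombination, eq_top_iff, ← hspan, Submodule.span_le]
      intro x hx
      rw [← hg] at hx
      exact Submodule.span_le_restrictScalars A S _ hx
    let ι : (Fin k → A) →ₗ[A] (Fin k → S) := LinearMap.pi fun i => Algebra.linearMap A S ∘ₗ LinearMap.proj i
    have hψι : ∀ c, ψ (ι c) = (φ c : L) := fun c => by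
      simp [ψ, φ, ι, Fintype.linearCombination_apply]
    have hinjS : Function.Injective (algebraMap A S) := by
      rw [injective_iff_map_eq_zero]
      intro a ha
      obtain ⟨⟨s, hs⟩, hsa⟩ := (IsLocalization.map_eq_zero_iff M0 S a).1 ha
      obtain ⟨w, hw, rfl⟩ := hM0 s hs
      exact ValLoc.torsionFree_of_flat w a hw (by rw [Algebra.smul_def]; exact hsa)
    have hιinj : Function.Injective ι := fun x y h => funext fun i => hinjS (congrFun h i)
    obtain ⟨σ, hσ⟩ := Module.projective_lifting_property ψ LinearMap.id hψ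
    haveI : Module.Finite S (LinearMap.ker ψ) := by
      let r : (Fin k → S) →ₗ[S] LinearMap.ker ψ :=
        LinearMap.codRestrict (LinearMap.ker ψ) (LinearMap.id - σ ∘ₗ ψ) fun x => by
          rw [LinearMap.mem_ker]
          have := LinearMap.congr_fun hσ (ψ x)
          simp only [LinearMap.comp_apply, LinearMap.id_apply] at this
          simp [this]
      exact Module.Finite.of_surjective r fun x => ⟨x.1, Subtype.ext (by
        show x.1 - σ (ψ x.1) = x.1
        rw [LinearMap.mem_ker.1 x.2, map_zero, sub_zero])⟩
    let e : (LinearMap.ker ψ × L) ≃ₗ[S] (Fin k → S) :=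
      (Function.Exact.splitSurjectiveEquiv (LinearMap.exact_subtype_ker_map ψ)
        (LinearMap.ker ψ).injective_subtype ⟨σ, hσ⟩).1.symm
    haveI : Module.Projective S (LinearMap.ker ψ) :=
      Module.Projective.of_split (e.toLinearMap ∘ₗ LinearMap.inl S _ _)
        (LinearMap.fst S _ _ ∘ₗ e.symm.toLinearMap) (LinearMap.ext fun x => by simp)
    -- the lattice in the kernel
    let K : Submodule A (LinearMap.ker ψ) :=
      ((LinearMap.ker φ).map ι).comap ((LinearMap.ker ψ).subtype.restrictScalars A)
    let eK : LinearMap.ker φ ≃ₗ[A] K :=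
      LinearEquiv.ofBijective
        (LinearMap.codRestrict K
          (LinearMap.codRestrict ((LinearMap.ker ψ).restrictScalars A) (ι ∘ₗ (LinearMap.ker φ).subtype) fun c => by
            show ψ (ι c.1) = 0
            rw [hψι, LinearMap.mem_ker.1 c.2]; rfl)
          fun c => ⟨c.1, c.2, rfl⟩)
        ⟨fun x y h => Subtype.ext (hιinj (congrArg (fun z : K => ((z : LinearMap.ker ψ) : Fin k → S)) h)),
         by
          rintro ⟨⟨y, hy⟩, c, hc, hcy⟩
          exact ⟨⟨c, hc⟩, Subtype.ext (Subtype.ext hcy)⟩⟩
    haveI : Module.Finite A M := Module.Finite.iff_fg.2 hfg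
    letI : Module W M := Module.compHom M (algebraMap W A)
    haveI : IsScalarTower W A M := IsScalarTower.of_algebraMap_smul fun _ _ => rfl
    haveI : Module.Flat W M := ValLoc.flat_of_torsionFree fun w x hw hwx => by
      have hu : IsUnit (algebraMap A S (algebraMap W A w)) := IsLocalization.map_units S ⟨_, hW w hw⟩
      have h1 : algebraMap A S (algebraMap W A w) • (x : L) = 0 := by
        rw [algebraMap_smul]
        exact congrArg (fun z : M => (z : L)) hwx
      exact Subtype.ext (hu.smul_eq_zero.1 h1)
    have hK : K.FG := by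
      refine Module.Finite.iff_fg.1 ?_
      haveI : Module.Finite A (LinearMap.ker φ) :=
        Module.Finite.iff_fg.2 (ValProjDim.fg_ker_flat (W := W) φ hφ)
      exact Module.Finite.equiv eK
    have hKspan : Submodule.span S (K : Set (LinearMap.ker ψ)) = ⊤ := by
      rw [eq_top_iff]
      rintro ⟨x, hx⟩ -
      obtain ⟨⟨t, ht⟩, hxt⟩ := IsLocalization.exist_integer_multiples_of_finite M0 x
      choose c hc using hxt
      have h1 : ι c = t • x := funext fun i => hc i
      have h2 : φ c = 0 := Subtype.ext (by
        rw [← hψι, h1, LinearMap.map_smul_of_tower, LinearMap.mem_ker.1 hx, smul_zero]; rfl)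
      have h3 : (t • (⟨x, hx⟩ : LinearMap.ker ψ)) ∈ K := ⟨c, h2, h1⟩
      have hu : IsUnit (algebraMap A S t) := IsLocalization.map_units S ⟨t, ht⟩
      rw [← Submodule.smul_mem_iff_of_isUnit _ hu, algebraMap_smul]
      exact Submodule.subset_span h3
    have hKpd : HasProjectiveDimensionLE (ModuleCat.of A K) j :=
      ValProjDim.pd_equiv eK j ((ValProjDim.pd_succ_iff hφ j).1 hM)
    haveI := ih (LinearMap.ker ψ) K hK hKspan hKpd
    obtain ⟨N, _, _, _, _, hN⟩ := Module.IsStablyFree.exist_free_prod S (LinearMap.ker ψ)
    haveI : Module.Free S (LinearMap.ker ψ × N) := hN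
    haveI : Module.Free S (L × (LinearMap.ker ψ × N)) :=
      Module.Free.of_equiv ((e.prodCongr (LinearEquiv.refl S N)).symm.trans
        (((LinearEquiv.prodComm S _ L).prodCongr (LinearEquiv.refl S N)).trans (LinearEquiv.prodAssoc S L _ N)))
    exact Module.IsStablyFree.of_free_prod S L (LinearMap.ker ψ × N)

end Groth.Agent.H23.ValPic

namespace Groth.Agent.H23.ValPic

open CategoryTheory IsLocalRing Groth.Agent.H20 TensorProduct

set_option maxHeartbeats 800000 in
theorem pic_genericFibre (R A : Type u) [CommRing R] [IsDomain R]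
    [ValuationRing R] [CommRing A] [IsLocalRing A] [Algebra R A] [IsLocalHom (algebraMap R A)]
    [Module.Flat R A] [Algebra.EssFiniteType R A]
    (hreg : IsRegularRing (TensorProduct R (ResidueField R) A)) :
    Subsingleton (CommRing.Pic (TensorProduct R (FractionRing R) A)) := by
  classical
  let I : Ideal A := (maximalIdeal R).map (algebraMap R A)
  have hImax : I ≤ maximalIdeal A := by
    rw [Ideal.map_le_iff_le_comap]
    intro a ha
    simp only [Ideal.mem_comap, mem_maximalIdeal, mem_nonunits_iff] at ha ⊢
    exact fun h => ha (isUnit_of_map_unit (algebraMap R A) a h)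
  haveI : Nontrivial (A ⧸ I) := Ideal.Quotient.nontrivial_iff.mpr
    (ne_top_of_le_ne_top (maximalIdeal.isMaximal A).ne_top hImax)
  haveI : IsLocalRing (A ⧸ I) := .of_surjective' (Ideal.Quotient.mk I) Ideal.Quotient.mk_surjective
  haveI := hreg
  let e : (ResidueField R ⊗[R] A) ≃+* (A ⧸ I) :=
    (Algebra.TensorProduct.comm R _ A).toRingEquiv.trans
      (Algebra.TensorProduct.quotIdealMapEquivTensorQuot A (maximalIdeal R)).symm.toRingEquiv
  haveI : IsRegularRing (A ⧸ I) := IsRegularRing.of_ringEquiv e
  haveI : IsRegularLocalRing (A ⧸ I) := IsRegularLocalRing.of_isRegularRing_of_isLocalRing _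
  obtain ⟨n, hn⟩ : ∃ n : ℕ, ringKrullDim (A ⧸ I) = n :=
    ⟨(maximalIdeal (A ⧸ I)).spanFinrank, (IsRegularLocalRing.spanFinrank_maximalIdeal).symm⟩
  letI : Algebra A (FractionRing R ⊗[R] A) := Algebra.TensorProduct.rightAlgebra
  let M0 : Submonoid A := Algebra.algebraMapSubmonoid A (nonZeroDivisors R)
  haveI : IsLocalization M0 (FractionRing R ⊗[R] A) := IsLocalization.tensorRight (A := FractionRing R) _
  have hM0 : ∀ s ∈ M0, ∃ w : R, w ≠ 0 ∧ algebraMap R A w = s := by
    rintro _ ⟨w, hw, rfl⟩
    exact ⟨w, nonZeroDivisors.ne_zero hw, rfl⟩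
  have hW : ∀ w : R, w ≠ 0 → algebraMap R A w ∈ M0 :=
    fun w hw => ⟨w, mem_nonZeroDivisors_of_ne_zero hw, rfl⟩
  rw [CommRing.Pic.subsingleton_iff]
  intro L _ _ _
  letI : Module A L := Module.compHom L (algebraMap A (FractionRing R ⊗[R] A))
  haveI : IsScalarTower A (FractionRing R ⊗[R] A) L := IsScalarTower.of_algebraMap_smul fun _ _ => rfl
  obtain ⟨k, g, hg⟩ := Submodule.fg_iff_exists_fin_generating_family.1
    (Module.Finite.fg_top (R := FractionRing R ⊗[R] A) (M := L))
  let M : Submodule A L := Submodule.span A (Set.range g)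
  have hfg : M.FG := Submodule.fg_span (Set.finite_range g)
  have hspan : Submodule.span (FractionRing R ⊗[R] A) (M : Set L) = ⊤ := by
    rw [eq_top_iff, ← hg]
    exact Submodule.span_mono Submodule.subset_span
  haveI : Module.Finite A M := Module.Finite.iff_fg.2 hfg
  letI : Module R M := Module.compHom M (algebraMap R A)
  haveI : IsScalarTower R A M := IsScalarTower.of_algebraMap_smul fun _ _ => rfl
  haveI : Module.Flat R M := ValLoc.flat_of_torsionFree fun w x hw hwx => by
    have hu : IsUnit (algebraMap A (FractionRing R ⊗[R] A) (algebraMap R A w)) :=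
      IsLocalization.map_units _ ⟨_, hW w hw⟩
    have h1 : algebraMap A (FractionRing R ⊗[R] A) (algebraMap R A w) • (x : L) = 0 := by
      rw [algebraMap_smul]
      exact congrArg (fun z : M => (z : L)) hwx
    exact Subtype.ext (hu.smul_eq_zero.1 h1)
  have hpd : HasProjectiveDimensionLE (ModuleCat.of A M) n :=
    ValProjDim.pd_le_of_fibre (W := R) I rfl n M
      (Groth.Agent.H22.GlobalDim.hasProjectiveDimensionLT_regular n hn _)
  haveI := stablyFree_of_lattice R M0 hM0 hW n L M hfg hspan hpd
  exact Module.free_of_isStablyFree_of_invertible _ L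

end Groth.Agent.H23.ValPic
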