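import Groth.Agent.S2049
import Groth.Agent.H20.ValFlat
import Mathlib.AlgebraicGeometry.Fiber
import Mathlib.AlgebraicGeometry.Properties
import Mathlib.AlgebraicGeometry.Morphisms.Proper
import Mathlib.AlgebraicGeometry.Morphisms.Flat

/-!
Proper flat schemes over a valuation ring with reduced special fibre are reduced, as are their fibres.
-/

set_option autoImplicit false

universe u

namespace Groth.Agent.H23.ValReduced

open CategoryTheory Limits AlgebraicGeometry IsLocalRing Groth.Agent.H20 TensorProduct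

theorem isReduced_local {R O : Type u} [CommRing R] [IsDomain R] [ValuationRing R] [CommRing O]
    [IsLocalRing O] [Algebra R O] [IsLocalHom (algebraMap R O)] [Algebra.EssFiniteType R O]
    [Module.Flat R O] (hrad : ((maximalIdeal R).map (algebraMap R O)).IsRadical) :
    _root_.IsReduced O := by
  classical
  let N : Ideal O := nilradical O
  have hsat : ∀ (a : R) (y : O), a ≠ 0 → a • y ∈ N → y ∈ N := by
    rintro a y ha ⟨k, hk⟩
    refine ⟨k, ?_⟩
    rw [smul_pow] at hk
    exact ValLoc.torsionFree_of_flat (a ^ k) _ (pow_ne_zero k ha) hk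
  haveI : Module.Flat R (O ⧸ N) := ValLoc.flat_of_torsionFree fun a x ha hax => by
    obtain ⟨y, rfl⟩ := Ideal.Quotient.mk_surjective x
    rw [Ideal.Quotient.eq_zero_iff_mem]
    refine hsat a y ha ?_
    rw [← Ideal.Quotient.eq_zero_iff_mem]
    exact hax
  haveI : Module.FinitePresentation O (O ⧸ N) := Groth.Agent.S2049.result (A := R)
  have hfg : N.FG := by
    have := Module.FinitePresentation.fg_ker N.mkQ (Submodule.mkQ_surjective _)
    rwa [Submodule.ker_mkQ] at this
  have hle : N ≤ maximalIdeal O • N := by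
    intro x hx
    have hxm : x ∈ (maximalIdeal R).map (algebraMap R O) := by
      obtain ⟨k, hk⟩ := hx
      exact hrad ⟨k, hk ▸ zero_mem _⟩
    obtain ⟨c, hc, hxc⟩ : ∃ c ∈ maximalIdeal R, x ∈ Ideal.span {algebraMap R O c} := by
      refine Submodule.span_induction ?_ ⟨0, zero_mem _, zero_mem _⟩ ?_ ?_ hxm
      · rintro _ ⟨c, hc, rfl⟩
        exact ⟨c, hc, Ideal.mem_span_singleton_self _⟩
      · rintro a b _ _ ⟨c, hc, ha⟩ ⟨d, hd, hb⟩
        rcases ValuationRing.dvd_total c d with h | h
        · exact ⟨c, hc, add_mem ha (Ideal.span_singleton_le_span_singleton.2 (map_dvd _ h) hb)⟩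
        · exact ⟨d, hd, add_mem (Ideal.span_singleton_le_span_singleton.2 (map_dvd _ h) ha) hb⟩
      · rintro r a _ ⟨c, hc, ha⟩
        exact ⟨c, hc, Ideal.mul_mem_left _ _ ha⟩
    obtain ⟨y, rfl⟩ := Ideal.mem_span_singleton'.1 hxc
    rcases eq_or_ne c 0 with rfl | hc0
    · simp
    have hy : y ∈ N := hsat c y hc0 (by rwa [Algebra.smul_def, mul_comm])
    rw [mul_comm]
    refine Submodule.smul_mem_smul ?_ hy
    simp only [mem_maximalIdeal, mem_nonunits_iff] at hc ⊢
    exact fun h => hc (isUnit_of_map_unit (algebraMap R O) c h)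
  have hN : N = ⊥ :=
    Submodule.eq_bot_of_le_smul_of_le_jacobson_bot _ _ hfg hle (jacobson_eq_maximalIdeal ⊥ bot_ne_top).ge
  exact nilradical_eq_bot_iff.mp hN

theorem isRadical_map_atPrime {R S : Type u} [CommRing R] [CommRing S] [Algebra R S] (I : Ideal R)
    (h : (I.map (algebraMap R S)).IsRadical) (q : Ideal S) [q.IsPrime] :
    (I.map (algebraMap R (Localization.AtPrime q))).IsRadical := by
  rw [IsScalarTower.algebraMap_eq R S (Localization.AtPrime q), ← Ideal.map_map]
  rintro x ⟨k, hk⟩
  obtain ⟨y, s, rfl⟩ := IsLocalization.exists_mk'_eq q.primeCompl x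
  rw [← IsLocalization.mk'_pow, IsLocalization.mk'_mem_map_algebraMap_iff] at hk
  obtain ⟨t, ht, hty⟩ := hk
  rw [IsLocalization.mk'_mem_map_algebraMap_iff]
  refine ⟨t, ht, h ⟨k + 1, ?_⟩⟩
  rw [show (t * y) ^ (k + 1) = t ^ k * y * (t * y ^ k) by ring]
  exact Ideal.mul_mem_left _ _ hty

theorem isReduced_generization {S : Type u} [CommRing S] (p q : Ideal S) [p.IsPrime] [q.IsPrime]
    (hpq : p ≤ q) [_root_.IsReduced (Localization.AtPrime q)] :
    _root_.IsReduced (Localization.AtPrime p) := by
  refine ⟨fun x ⟨k, hk⟩ => ?_⟩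
  obtain ⟨y, s, rfl⟩ := IsLocalization.exists_mk'_eq p.primeCompl x
  rw [← IsLocalization.mk'_pow, IsLocalization.mk'_eq_zero_iff] at hk
  obtain ⟨⟨t, ht⟩, hty⟩ := hk
  have h0 : algebraMap S (Localization.AtPrime q) (t * y) = 0 := by
    refine IsReduced.eq_zero _ ⟨k + 1, ?_⟩
    rw [← map_pow, show (t * y) ^ (k + 1) = t ^ k * y * (t * y ^ k) by ring, hty, mul_zero, map_zero]
  obtain ⟨⟨r, hr⟩, hr0⟩ := (IsLocalization.map_eq_zero_iff q.primeCompl _ _).1 h0
  rw [IsLocalization.mk'_eq_zero_iff]
  refine ⟨⟨r, fun hh => hr (hpq hh)⟩ * ⟨t, ht⟩, ?_⟩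
  rw [Submonoid.coe_mul, mul_assoc]
  exact hr0

theorem isRadical_of_tensor {R S K : Type u} [CommRing R] [IsLocalRing R] [CommRing S] [Algebra R S]
    [Field K] [Algebra R K] (hK : Function.Surjective (algebraMap R K))
    [_root_.IsReduced (S ⊗[R] K)] : ((maximalIdeal R).map (algebraMap R S)).IsRadical := by
  have hker : RingHom.ker (algebraMap R K) = maximalIdeal R :=
    eq_maximalIdeal (RingHom.ker_isMaximal_of_surjective _ hK)
  let g : (S ⊗[R] (R ⧸ maximalIdeal R)) →ₐ[R] S ⊗[R] K :=
    Algebra.TensorProduct.map (AlgHom.id R S)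
      ((Ideal.quotientEquivAlgOfEq R hker.symm).trans
        (Ideal.quotientKerAlgEquivOfSurjective (f := Algebra.ofId R K) hK)).toAlgHom
  have hg : Function.Injective g :=
    (Algebra.TensorProduct.congr (AlgEquiv.refl (R := R) (A₁ := S))
      ((Ideal.quotientEquivAlgOfEq R hker.symm).trans
        (Ideal.quotientKerAlgEquivOfSurjective (f := Algebra.ofId R K) hK))).injective
  haveI : _root_.IsReduced (S ⊗[R] (R ⧸ maximalIdeal R)) := isReduced_of_injective g hg
  haveI : _root_.IsReduced (S ⧸ (maximalIdeal R).map (algebraMap R S)) :=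
    isReduced_of_injective (Algebra.TensorProduct.quotIdealMapEquivTensorQuot S (maximalIdeal R)).toRingEquiv
      (RingEquiv.injective _)
  exact (Ideal.isRadical_iff_quotient_reduced _).2 ‹_›

theorem isReduced_of_specialFibre {R : Type u} [CommRing R] [IsDomain R] [ValuationRing R]
    {X : Scheme.{u}} (f : X ⟶ Spec (CommRingCat.of R)) [IsProper f] [Flat f]
    (K : Type u) [Field K] (φ : R →+* K) (hφ : Function.Surjective φ)
    (hred : IsReduced (pullback f (Spec.map (CommRingCat.ofHom φ)))) : IsReduced X := by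
  haveI : CompactSpace X := QuasiCompact.compactSpace_of_compactSpace f
  haveI : ∀ x : X, _root_.IsReduced (X.presheaf.stalk x) := by
    intro x
    obtain ⟨z, hzx, hz⟩ : ∃ z, z ∈ closure ({x} : Set X) ∧ IsClosed ({z} : Set X) :=
      isClosed_closure.exists_closed_singleton ⟨x, subset_closure rfl⟩
    have hfz : f z = closedPoint R := by
      have h1 : IsClosed (f '' {z}) := f.isClosedMap _ hz
      rw [Set.image_singleton] at h1
      exact PrimeSpectrum.ext (eq_maximalIdeal ((PrimeSpectrum.isClosed_singleton_iff_isMaximal _).1 h1))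
    obtain ⟨S, j, hj, q, hq⟩ : ∃ (S : CommRingCat.{u}) (j : Spec S ⟶ X) (_ : IsOpenImmersion j)
        (q : Spec S), j q = z := by
      obtain ⟨q, hq⟩ := X.affineCover.covers z
      exact ⟨_, X.affineCover.f _, X.affineCover.map_prop _, q, hq⟩
    obtain ⟨ψ, hψ⟩ := Spec.map_surjective (j ≫ f)
    obtain ⟨p, hp⟩ : x ∈ Set.range j :=
      (specializes_iff_mem_closure.2 hzx).mem_open j.isOpenEmbedding.isOpen_range ⟨q, hq⟩
    have hpq : p ⤳ q := by
      rw [← j.isOpenEmbedding.isInducing.specializes_iff, hp, hq]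
      exact specializes_iff_mem_closure.2 hzx
    have hψflat : ψ.hom.Flat := by
      rw [← HasRingHomProperty.Spec_iff (P := @Flat), hψ]
      infer_instance
    have hψft : ψ.hom.FiniteType := by
      rw [← HasRingHomProperty.Spec_iff (P := @LocallyOfFiniteType), hψ]
      infer_instance
    letI : Algebra R S := ψ.hom.toAlgebra
    letI : Algebra R K := φ.toAlgebra
    haveI : Module.Flat R S := hψflat
    haveI : Algebra.FiniteType R S := hψft
    have hψ' : Spec.map (CommRingCat.ofHom (algebraMap R S)) = j ≫ f := hψ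
    haveI : _root_.IsReduced ((S : Type u) ⊗[R] K) := by
      let l := pullback.map (Spec.map (CommRingCat.ofHom (algebraMap R S)))
        (Spec.map (CommRingCat.ofHom (algebraMap R K))) f (Spec.map (CommRingCat.ofHom φ)) j (𝟙 _) (𝟙 _)
        (by rw [Category.comp_id, hψ']) (by rw [Category.comp_id, Category.id_comp])
      haveI : IsReduced (pullback f (Spec.map (CommRingCat.ofHom φ))) := hred
      haveI : IsReduced (pullback (Spec.map (CommRingCat.ofHom (algebraMap R S)))
        (Spec.map (CommRingCat.ofHom (algebraMap R K)))) := isReduced_of_isOpenImmersion l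
      exact (affine_isReduced_iff _).1 (isReduced_of_isOpenImmersion (pullbackSpecIso R S K).inv)
    have hrad := isRadical_of_tensor (R := R) (S := S) (K := K) hφ
    let O := Localization.AtPrime q.asIdeal
    haveI : Module.Flat (S : Type u) O := IsLocalization.flat O q.asIdeal.primeCompl
    haveI : Module.Flat R O := Module.Flat.trans R S O
    haveI : Algebra.EssFiniteType (S : Type u) O := Algebra.EssFiniteType.of_isLocalization O q.asIdeal.primeCompl
    haveI : Algebra.EssFiniteType R O := Algebra.EssFiniteType.comp R S O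
    have hcomap : q.asIdeal.comap (algebraMap R S) = maximalIdeal R := by
      have : (Spec.map (CommRingCat.ofHom (algebraMap R S))) q = closedPoint R := by
        rw [hψ', Scheme.Hom.comp_apply, hq, hfz]
      exact congrArg PrimeSpectrum.asIdeal this
    haveI : IsLocalHom (algebraMap R O) := ⟨fun r hr => by
      by_contra hru
      rw [IsScalarTower.algebraMap_apply R S O, IsLocalization.AtPrime.isUnit_to_map_iff O q.asIdeal] at hr
      have : r ∈ maximalIdeal R := hru
      rw [← hcomap] at this
      exact hr this⟩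
    haveI : _root_.IsReduced O := isReduced_local (R := R) (isRadical_map_atPrime _ hrad q.asIdeal)
    haveI : _root_.IsReduced (Localization.AtPrime p.asIdeal) :=
      isReduced_generization p.asIdeal q.asIdeal ((PrimeSpectrum.le_iff_specializes p q).2 hpq)
    subst hp
    haveI : _root_.IsReduced ((Spec S).presheaf.stalk p) :=
      isReduced_of_injective (AlgebraicGeometry.Spec.stalkIso S p).hom.hom
        (ConcreteCategory.bijective_of_isIso (AlgebraicGeometry.Spec.stalkIso S p).hom).1
    exact isReduced_of_injective (j.stalkMap p).hom (ConcreteCategory.bijective_of_isIso (j.stalkMap p)).1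
  exact isReduced_of_isReduced_stalk X

theorem isReduced_pullback_localization {R L : Type u} [CommRing R] [CommRing L] [Algebra R L]
    (M : Submonoid R) [IsLocalization M L] {Z : Scheme.{u}} [IsReduced Z] (q : Z ⟶ Spec (CommRingCat.of R)) :
    IsReduced (pullback q (Spec.map (CommRingCat.ofHom (algebraMap R L)))) := by
  let a := Spec.map (CommRingCat.ofHom (algebraMap R L))
  let 𝒰 := Scheme.Pullback.openCoverOfLeft Z.affineCover q a
  have h𝒰 : ∀ i, IsReduced (𝒰.X i) := fun i => by
    obtain ⟨A, j, hj, hr⟩ : ∃ (A : CommRingCat.{u}) (j : Spec A ⟶ Z) (_ : IsOpenImmersion j),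
        𝒰.X i = pullback (j ≫ q) a :=
      ⟨_, Z.affineCover.f i, Z.affineCover.map_prop i, rfl⟩
    rw [hr]
    obtain ⟨φ, hφ⟩ := Spec.map_surjective (j ≫ q)
    rw [← hφ]
    algebraize [φ.hom]
    have : IsReduced (Spec A) := isReduced_of_isOpenImmersion j
    have : _root_.IsReduced A := (affine_isReduced_iff A).mp this
    haveI : _root_.IsReduced (A ⊗[R] L) :=
      isReduced_localizationPreserves (Algebra.algebraMapSubmonoid A M) (A ⊗[R] L) ‹_›
    exact isReduced_of_isOpenImmersion (pullbackSpecIso R A L).hom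
  have : ∀ w : ↥(pullback q a), _root_.IsReduced ((pullback q a).presheaf.stalk w) := fun w => by
    obtain ⟨i, z, rfl⟩ := 𝒰.exists_eq w
    have := h𝒰 i
    exact isReduced_of_injective ((𝒰.f i).stalkMap z).hom
      (ConcreteCategory.bijective_of_isIso ((𝒰.f i).stalkMap z)).1
  exact isReduced_of_isReduced_stalk _

theorem isReduced_fibres {R : Type u} [CommRing R] [IsDomain R] [ValuationRing R]
    {X : Scheme.{u}} (f : X ⟶ Spec (CommRingCat.of R)) [IsProper f] [Flat f]
    (hred : IsReduced (f.fiber (closedPoint R))) :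
    IsReduced X ∧ ∀ s : ↑(Spec (CommRingCat.of R)), IsReduced (f.fiber s) := by
  let K := (maximalIdeal R).ResidueField
  let φ : R →+* K := algebraMap R K
  have hφ : Function.Surjective φ := by
    intro x
    obtain ⟨y, rfl⟩ := (Ideal.bijective_algebraMap_quotient_residueField (maximalIdeal R)).2 x
    obtain ⟨r, rfl⟩ := Ideal.Quotient.mk_surjective y
    exact ⟨r, IsScalarTower.algebraMap_apply R (R ⧸ maximalIdeal R) K r⟩
  have hfib : ∀ s : ↑(Spec (CommRingCat.of R)),
      IsReduced (pullback f (Spec.map (CommRingCat.ofHom (algebraMap R s.asIdeal.ResidueField)))) ↔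
        IsReduced (f.fiber s) := by
    intro s
    let ψ := Spec.map (Scheme.Spec.residueFieldIso (CommRingCat.of R) s).inv
    have he : ψ ≫ Spec.map (CommRingCat.ofHom (algebraMap R s.asIdeal.ResidueField)) =
        (Spec (CommRingCat.of R)).fromSpecResidueField s :=
      Scheme.Spec.map_residueFieldIso_inv_eq_fromSpecResidueField _ _
    let i : f.fiber s ⟶ pullback f (Spec.map (CommRingCat.ofHom (algebraMap R s.asIdeal.ResidueField))) :=
      pullback.map f ((Spec (CommRingCat.of R)).fromSpecResidueField s) f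
        (Spec.map (CommRingCat.ofHom (algebraMap R s.asIdeal.ResidueField))) (𝟙 _) ψ (𝟙 _)
        (by simp) (by simp [he])
    haveI : IsIso i := by
      show IsIso (pullback.map _ _ _ _ _ _ _ _ _)
      infer_instance
    constructor
    · intro h
      exact isReduced_of_isOpenImmersion i
    · intro h
      exact isReduced_of_isOpenImmersion (inv i)
  have hsp : IsReduced (pullback f (Spec.map (CommRingCat.ofHom φ))) := (hfib (closedPoint R)).2 hred
  refine ⟨isReduced_of_specialFibre f K φ hφ hsp, fun s => (hfib s).1 ?_⟩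
  let p := s.asIdeal
  haveI : p.IsPrime := s.isPrime
  haveI : ValuationRing (R ⧸ p) := ValuationRing.iff_dvd_total.2 ⟨fun a b => by
    obtain ⟨a, rfl⟩ := Ideal.Quotient.mk_surjective a
    obtain ⟨b, rfl⟩ := Ideal.Quotient.mk_surjective b
    exact (ValuationRing.dvd_total a b).imp (map_dvd (Ideal.Quotient.mk p)) (map_dvd (Ideal.Quotient.mk p))⟩
  let g := Spec.map (CommRingCat.ofHom (Ideal.Quotient.mk p))
  have hker : p ≤ RingHom.ker φ := by
    rw [show RingHom.ker φ = maximalIdeal R from eq_maximalIdeal (RingHom.ker_isMaximal_of_surjective φ hφ)]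
    exact le_maximalIdeal s.isPrime.ne_top
  let φ' : R ⧸ p →+* K := Ideal.Quotient.lift p φ fun a ha => hker ha
  have hφ' : Function.Surjective φ' := fun x => ⟨Ideal.Quotient.mk p (hφ x).choose, (hφ x).choose_spec⟩
  have hcomp : Spec.map (CommRingCat.ofHom φ') ≫ g = Spec.map (CommRingCat.ofHom φ) := by
    rw [← Spec.map_comp]
    rfl
  haveI : IsReduced (pullback f (Spec.map (CommRingCat.ofHom φ') ≫ g)) := by rw [hcomp]; exact hsp
  haveI : IsReduced (pullback f g) :=
    isReduced_of_specialFibre (pullback.snd f g) K φ' hφ'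
      (isReduced_of_isOpenImmersion (pullbackLeftPullbackSndIso f g (Spec.map (CommRingCat.ofHom φ'))).hom)
  haveI := isReduced_pullback_localization (nonZeroDivisors (R ⧸ p)) (L := p.ResidueField) (pullback.snd f g)
  have hcomp2 : Spec.map (CommRingCat.ofHom (algebraMap (R ⧸ p) p.ResidueField)) ≫ g =
      Spec.map (CommRingCat.ofHom (algebraMap R p.ResidueField)) := by
    rw [← Spec.map_comp, ← CommRingCat.ofHom_comp]
    rfl
  rw [← hcomp2]
  exact isReduced_of_isOpenImmersion
    (pullbackLeftPullbackSndIso f g (Spec.map (CommRingCat.ofHom (algebraMap (R ⧸ p) p.ResidueField)))).inv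

end Groth.Agent.H23.ValReduced
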